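import Cfsg.Agent.SimpleFacts.SUMult.Triv
import Mathlib

/-!
A central extension splits over a group with local lifts of point stabilisers, if the cosets of the lifted
stabiliser of a base point can be labelled coherently by the points.
-/

set_option autoImplicit false
set_option linter.unusedSectionVars false

namespace Cfsg.Agent.SimpleFacts.SUMult.CosetAbs

open Cfsg.Agent.SimpleFacts.SUMult.Ext MulAction
open scoped commutatorElement

universe u v w

/-- The data. -/
structure Setting {G : Type u} [Group G] {E : Type v} [Group E] [Finite E] (σ : E →* G) (r : ℕ)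
    (Ω : Type w) [MulAction G Ω] where
  /-- the base point -/
  e : Ω
  /-- orthogonality -/
  orth : Ω → Ω → Prop
  orth_symm : ∀ {x y}, orth x y → orth y x
  orth_smul : ∀ (g : G) {x y}, orth x y → orth (g • x) (g • y)
  good : ∀ x : Ω, Good σ (stabilizer G x)
  coab_pair : ∀ {x}, orth x e → CoAb r ↥(stabilizer G x ⊓ stabilizer G e)
  coab : ∀ x : Ω, CoAb r ↥(stabilizer G x)
  wit : ∀ v : Ω, ∃ x, orth x e ∧ orth x v
  trans : ∀ {x v}, orth x e → orth x v → ∃ a ∈ stabilizer G x, a • e = v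

variable {G : Type u} [Group G] {E : Type v} [Group E] [Finite E] {σ : E →* G} {r : ℕ} [Fact r.Prime]
  {Ω : Type w} [MulAction G Ω]

/-- The lifted stabiliser of the base point. -/
noncomputable def Setting.K (D : Setting σ r Ω) : Subgroup E := Loc σ r (stabilizer G D.e)

/-- `y` is a lift, in the lifted stabiliser of `x`, of a map from the base point to `v`. -/
def Setting.Lift (D : Setting σ r Ω) (v x : Ω) (y : E) : Prop :=
  D.orth x D.e ∧ D.orth x v ∧ y ∈ Loc σ r (stabilizer G x) ∧ σ y • D.e = v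

variable (D : Setting σ r Ω) (hsurj : Function.Surjective σ) (hker : IsPGroup r σ.ker)
include hsurj hker

theorem exists_lift {v x : Ω} (h1 : D.orth x D.e) (h2 : D.orth x v) : ∃ y, D.Lift v x y := by
  obtain ⟨a, ha, hav⟩ := D.trans h1 h2
  obtain ⟨y, hy, rfl⟩ := Loc_surj σ r hsurj (D.coab x) ha
  exact ⟨y, h1, h2, hy, hav⟩

/-- The coset of a lift only depends on `x`. -/
theorem well {v x : Ω} {y y' : E} (h : D.Lift v x y) (h' : D.Lift v x y') :
    (y : E ⧸ D.K) = (y' : E ⧸ D.K) := by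
  rw [QuotientGroup.eq]
  obtain ⟨-, -, hy, hv⟩ := h
  obtain ⟨hxe, -, hy', hv'⟩ := h'
  have hmem : y⁻¹ * y' ∈ Loc σ r (stabilizer G x) := mul_mem (inv_mem hy) hy'
  have hst : σ (y⁻¹ * y') ∈ stabilizer G x ⊓ stabilizer G D.e := by
    refine ⟨Loc_image σ r hmem, ?_⟩
    show σ (y⁻¹ * y') • D.e = D.e
    rw [map_mul, map_inv, mul_smul, hv', ← hv, inv_smul_smul]
  obtain ⟨l, hl, he⟩ := Loc_surj σ r hsurj (D.coab_pair hxe) hst
  rw [Loc_ext σ r hker (D.good x) hmem (Loc_mono σ r inf_le_left hl) he.symm]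
  exact Loc_mono σ r inf_le_right hl

/-- Two witnesses with a common map give the same coset. -/
theorem eq_of_link {v x x' : Ω} {y y' : E} (h : D.Lift v x y) (h' : D.Lift v x' y') {a : G}
    (ha : a ∈ stabilizer G x ⊓ stabilizer G x') (hav : a • D.e = v)
    (hco : CoAb r ↥(stabilizer G x ⊓ stabilizer G x')) : (y : E ⧸ D.K) = (y' : E ⧸ D.K) := by
  obtain ⟨l, hl, rfl⟩ := Loc_surj σ r hsurj hco ha
  exact (well D hsurj hker h ⟨h.1, h.2.1, Loc_mono σ r inf_le_left hl, hav⟩).trans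
    (well D hsurj hker ⟨h'.1, h'.2.1, Loc_mono σ r inf_le_right hl, hav⟩ h')

omit hsurj hker

/-- The cosets do not depend on the witnesses. -/
def Setting.Indep (D : Setting σ r Ω) : Prop :=
  ∀ (v x x' : Ω) (y y' : E), D.Lift v x y → D.Lift v x' y' → (y : E ⧸ D.K) = (y' : E ⧸ D.K)

open scoped _root_.Classical in
/-- The label of a point. -/
noncomputable def Setting.C (D : Setting σ r Ω) (v : Ω) : E ⧸ D.K :=
  if h : ∃ p : Ω × E, D.Lift v p.1 p.2 then (h.choose.2 : E ⧸ D.K) else ((1 : E) : E ⧸ D.K)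

theorem C_eq (hind : D.Indep) {v x : Ω} {y : E} (h : D.Lift v x y) : D.C v = (y : E ⧸ D.K) := by
  classical
  have hex : ∃ p : Ω × E, D.Lift v p.1 p.2 := ⟨(x, y), h⟩
  rw [Setting.C, dif_pos hex]
  exact hind _ _ _ _ _ hex.choose_spec h

theorem C_base (hind : D.Indep) : D.C D.e = ((1 : E) : E ⧸ D.K) := by
  obtain ⟨x, hx, -⟩ := D.wit D.e
  exact C_eq D hind (x := x) ⟨hx, hx, one_mem _, by rw [map_one, one_smul]⟩

include hsurj hker

theorem compat_K (hind : D.Indep) {k : E} (hk : k ∈ D.K) (v : Ω) : k • D.C v = D.C (σ k • v) := by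
  obtain ⟨x, hxe, hxv⟩ := D.wit v
  obtain ⟨y, hy⟩ := exists_lift D hsurj hker hxe hxv
  have hke : σ k • D.e = D.e := Loc_image σ r hk
  have hkxe : D.orth (σ k • x) D.e := by
    have := D.orth_smul (σ k) hxe
    rwa [hke] at this
  have hl : D.Lift (σ k • v) (σ k • x) (k * y * k⁻¹) := by
    refine ⟨hkxe, D.orth_smul _ hxv, Loc_conj σ r k (fun a ha => ?_) hy.2.2.1, ?_⟩
    · show (σ k * a * (σ k)⁻¹) • σ k • x = σ k • x
      rw [mul_smul, mul_smul, inv_smul_smul, show a • x = x from ha]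
    · rw [map_mul, map_mul, map_inv, mul_smul, mul_smul, inv_smul_eq_iff.2 hke.symm, hy.2.2.2]
  rw [C_eq D hind hy, C_eq D hind hl]
  show ((k * y : E) : E ⧸ D.K) = _
  rw [QuotientGroup.eq]
  have : (k * y)⁻¹ * (k * y * k⁻¹) = k⁻¹ := by group
  rw [this]
  exact inv_mem hk

theorem compat_of_common (hind : D.Indep) {g : E} {v x : Ω} (hxe : D.orth x D.e) (hxv : D.orth x v)
    (hg : g ∈ Loc σ r (stabilizer G x)) : g • D.C v = D.C (σ g • v) := by
  obtain ⟨y, hy⟩ := exists_lift D hsurj hker hxe hxv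
  have hl : D.Lift (σ g • v) x (g * y) := by
    refine ⟨hxe, ?_, mul_mem hg hy.2.2.1, by rw [map_mul, mul_smul, hy.2.2.2]⟩
    have := D.orth_smul (σ g) hxv
    rwa [show σ g • x = x from Loc_image σ r hg] at this
  rw [C_eq D hind hy, C_eq D hind hl]
  rfl

/-- Lifts of elements fixing a point fix its label. -/
theorem fixes_C (hind : D.Indep) {g : E} {v : Ω} (hg : g ∈ Loc σ r (stabilizer G v)) :
    g • D.C v = D.C v := by
  obtain ⟨x, hxe, hxv⟩ := D.wit v
  obtain ⟨y, hy⟩ := exists_lift D hsurj hker hxe hxv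
  rw [C_eq D hind hy]
  show ((g * y : E) : E ⧸ D.K) = _
  rw [QuotientGroup.eq]
  have h1 : y⁻¹ * g * y⁻¹⁻¹ ∈ D.K := Loc_conj σ r y⁻¹ (fun a ha => by
    show (σ y⁻¹ * a * (σ y⁻¹)⁻¹) • D.e = D.e
    rw [map_inv, inv_inv, mul_smul, mul_smul, hy.2.2.2, show a • v = v from ha, inv_smul_eq_iff,
      hy.2.2.2]) hg
  rw [inv_inv] at h1
  have : (g * y)⁻¹ * y = (y⁻¹ * g * y)⁻¹ := by group
  rw [this]
  exact inv_mem h1

/-- The criterion. -/
theorem main (hcen : σ.ker ≤ Subgroup.center E) (hind : D.Indep) (S : Set E)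
    (hS : ∀ g ∈ S, ∀ v, g • D.C v = D.C (σ g • v))
    (hgen : Subgroup.closure ((stabilizer G D.e : Set G) ∪ σ '' S) = ⊤) :
    ∀ z ∈ σ.ker, z ∈ commutator E → z = 1 := by
  set G0 := Subgroup.closure ((D.K : Set E) ∪ S) with hG0
  have heq : ∀ g ∈ G0, ∀ v, g • D.C v = D.C (σ g • v) := by
    intro g hg
    induction hg using Subgroup.closure_induction with
    | mem y hy =>
      rcases hy with hy | hy
      · exact compat_K D hsurj hker hind hy
      · exact hS y hy
    | one => intro v; rw [one_smul, map_one, one_smul]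
    | mul a b _ _ iha ihb => intro v; rw [mul_smul, ihb, iha, map_mul, mul_smul]
    | inv a _ iha => intro v; rw [inv_smul_eq_iff, iha, map_inv, smul_inv_smul]
  have hinj : ∀ g ∈ G0, σ g = 1 → g = 1 := by
    intro g hg h1
    have h2 := heq g hg D.e
    rw [h1, one_smul, C_base D hind] at h2
    have h3 : g ∈ D.K := by
      have h4 : ((g * 1 : E) : E ⧸ D.K) = ((1 : E) : E ⧸ D.K) := h2
      rw [mul_one, QuotientGroup.eq, mul_one] at h4
      simpa using inv_mem h4
    exact Loc_inj σ r hker (D.good D.e) h3 h1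
  have hmap : G0.map σ = ⊤ := by
    rw [hG0, MonoidHom.map_closure, eq_top_iff, ← hgen]
    refine Subgroup.closure_mono ?_
    rw [Set.image_union]
    refine Set.union_subset_union_left _ fun a ha => ?_
    obtain ⟨k, hk, rfl⟩ := Loc_surj σ r hsurj (D.coab D.e) ha
    exact ⟨k, hk, rfl⟩
  intro z hz hd
  refine hinj z ?_ hz
  suffices hle : commutator E ≤ G0 from hle hd
  rw [_root_.commutator_def, Subgroup.commutator_le]
  intro a _ b _
  obtain ⟨a', ha', ea⟩ : σ a ∈ G0.map σ := hmap ▸ Subgroup.mem_top _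
  obtain ⟨b', hb', eb⟩ : σ b ∈ G0.map σ := hmap ▸ Subgroup.mem_top _
  rw [SpMult.Lifts.bracket_congr hcen ea.symm eb.symm]
  exact mul_mem (mul_mem (mul_mem ha' hb') (inv_mem ha')) (inv_mem hb')

/-- Lifts of one element in two linked lifted stabilisers agree. -/
theorem lift_unique_of_link {A B : Subgroup G} (hA : Good σ A) (hB : Good σ B) (hco : CoAb r ↥(A ⊓ B))
    {g g' : E} (hg : g ∈ Loc σ r A) (hg' : g' ∈ Loc σ r B) (h : σ g = σ g') : g = g' := by
  have hm : σ g ∈ A ⊓ B := ⟨Loc_image σ r hg, h ▸ Loc_image σ r hg'⟩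
  obtain ⟨l, hl, he⟩ := Loc_surj σ r hsurj hco hm
  rw [Loc_ext σ r hker hA hg (Loc_mono σ r inf_le_left hl) he.symm]
  exact Loc_ext σ r hker hB (Loc_mono σ r inf_le_right hl) hg' (he.trans h)

end Cfsg.Agent.SimpleFacts.SUMult.CosetAbs
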