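import Cfsg.Agent.SimpleFacts.SUMult.Blocks
import Cfsg.Agent.SimpleFacts.SUMult.CosetAbs
import Mathlib

/-!
The coset criterion on the unit vectors of a hermitian space: geometry.
-/

set_option autoImplicit false
set_option linter.unusedSectionVars false
set_option linter.unusedSimpArgs false

namespace Cfsg.Agent.SimpleFacts.SUMult.CosetGeom

open Matrix
open Cfsg.Agent.Forms Cfsg.Agent.Classical Cfsg.Agent.Classical.Unitary
open Cfsg.Agent.SimpleFacts.SUMult Ext Blocks

universe u v

variable {F : Type u} [Field F] [Fintype F] {q n m : ℕ}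

local notation "Vec" => (Fin n → F)
local notation "H" => Cfsg.hermForm n F q

/-- Unit vectors. -/
abbrev UVec (F : Type u) [Field F] (q n : ℕ) : Type u := {v : Fin n → F // Cfsg.hermForm n F q v v = 1}

/-- The action on unit vectors. -/
instance unitVecAction : MulAction (Cfsg.SU n F q) (UVec F q n) where
  smul g v := ⟨mat g *ᵥ v.1, by rw [SU_H]; exact v.2⟩
  one_smul v := Subtype.ext (one_mulVec _)
  mul_smul g g' v := Subtype.ext (mul_mulVec g g' v.1)

theorem smul_val (g : Cfsg.SU n F q) (v : UVec F q n) : (g • v).1 = mat g *ᵥ v.1 := rfl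

theorem stab_eq (x : UVec F q n) :
    MulAction.stabilizer (Cfsg.SU n F q) x = fix (q := q) ({x.1} : Set (Fin n → F)) := by
  ext g
  constructor
  · intro h y hy
    rw [Set.mem_singleton_iff.1 hy]
    exact congrArg Subtype.val h
  · intro h
    exact Subtype.ext (h _ rfl)

variable (hF : Fintype.card F = q ^ 2)
include hF

theorem fix_one_equiv (hn : n = 1 + m) {x : Vec} (hx : H x x = 1) :
    Nonempty (fix (q := q) ({x} : Set (Fin n → F)) ≃* Cfsg.SU m F q) := by
  subst hn
  obtain ⟨e⟩ := fix_frame_equiv hF (f := ![x]) (one_frame hx)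
  exact ⟨(MulEquiv.subgroupCongr (by simp)).trans e⟩

theorem fix_two_equiv (hn : n = 2 + m) {x y : Vec} (hx : H x x = 1) (hy : H y y = 1) (hxy : H x y = 0) :
    Nonempty (fix (q := q) ({x, y} : Set (Fin n → F)) ≃* Cfsg.SU m F q) := by
  subst hn
  obtain ⟨e⟩ := fix_frame_equiv hF (f := ![x, y]) (pair_frame hx hy hxy ((H_eq_zero_comm hF).1 hxy))
  exact ⟨(MulEquiv.subgroupCongr (by simp [Set.pair_comm])).trans e⟩

theorem triple_frame {x y z : Vec} (hx : H x x = 1) (hy : H y y = 1) (hz : H z z = 1) (hxy : H x y = 0)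
    (hxz : H x z = 0) (hyz : H y z = 0) : IsFrame q ![x, y, z] := by
  intro i j
  fin_cases i <;> fin_cases j <;>
    simp [hx, hy, hz, hxy, hxz, hyz, (H_eq_zero_comm hF).1 hxy, (H_eq_zero_comm hF).1 hxz,
      (H_eq_zero_comm hF).1 hyz]

omit hF in
/-- The two unit vectors span a non-degenerate space. -/
def Linked (q : ℕ) (x x' : Fin n → F) : Prop :=
  (∃ a : F, x' = a • x) ∨ (Cfsg.hermForm n F q x' x) ^ (q + 1) ≠ 1

/-- A linked pair has the stabiliser of an orthonormal pair or of one vector. -/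
theorem linked_fix {x x' : Vec} (hx : H x x = 1) (hx' : H x' x' = 1) (h : Linked q x x') :
    fix (q := q) ({x, x'} : Set (Fin n → F)) = fix {x} ∨
      ∃ x2 : Vec, H x2 x2 = 1 ∧ H x x2 = 0 ∧ fix (q := q) ({x, x'} : Set (Fin n → F)) = fix {x, x2} ∧
        ∃ a b : F, x2 = a • x + b • x' := by
  rcases h with ⟨a, rfl⟩ | h
  · left
    refine le_antisymm (fix_mono (by simp)) fun g hg y hy => ?_
    rcases hy with rfl | rfl
    · exact hg _ rfl
    · rw [Matrix.mulVec_smul, hg x rfl]
  · right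
    set α := H x' x with hα
    set r := x' - α • x with hr
    have hrr : H r r = 1 - α ^ (q + 1) := by
      simp only [hr, H_sub_left, H_sub_right hF, H_smul_left, H_smul_right, hx, hx', ← hα]
      rw [← H_conj hF x' x, ← hα]
      ring
    have hne : (1 : F) - α ^ (q + 1) ≠ 0 := fun h0 => h (sub_eq_zero.1 h0).symm
    obtain ⟨c, hc⟩ := UnitaryCount.exists_norm_eq hF (μ := (H r r)⁻¹) (by rw [hrr]; exact inv_ne_zero hne)
      (by rw [inv_pow, H_conj hF])
    have hc0 : c ≠ 0 := fun h0 => by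
      rw [h0, zero_pow (by omega), hrr] at hc
      exact inv_ne_zero hne hc.symm
    have hxr : H x r = 0 := by
      rw [hr, H_sub_right hF, H_smul_right, hx, ← H_conj hF x' x, ← hα, mul_one, sub_self]
    refine ⟨c • r, by rw [UnitaryCount.hermForm_smul_smul, hc, inv_mul_cancel₀ (hrr ▸ hne)],
      by rw [H_smul_right, hxr, mul_zero], ?_, -(c * α), c, by rw [hr]; module⟩
    refine le_antisymm (fun g hg y hy => ?_) (fun g hg y hy => ?_)
    · rcases hy with rfl | rfl
      · exact hg _ (Or.inl rfl)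
      · rw [hr, Matrix.mulVec_smul, Matrix.mulVec_sub, Matrix.mulVec_smul, hg x (Or.inl rfl),
          hg x' (Or.inr rfl)]
    · rcases hy with rfl | rfl
      · exact hg _ (Or.inl rfl)
      · have e : y = c⁻¹ • (c • r) + α • x := by rw [smul_smul, inv_mul_cancel₀ hc0, one_smul, hr]; abel
        rw [e, Matrix.mulVec_add, hg (c • r) (Or.inr rfl) |> fun h' => show mat g *ᵥ c⁻¹ • c • r = c⁻¹ • c • r by
          rw [Matrix.mulVec_smul, h'], Matrix.mulVec_smul, hg x (Or.inl rfl)]

/-- A common map for a linked pair. -/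
theorem linked_move (hn : 4 ≤ n) {x x' e v : Vec} (hx : H x x = 1) (hx' : H x' x' = 1) (he : H e e = 1)
    (hv : H v v = 1) (h : Linked q x x') (h1 : H x e = 0) (h2 : H x v = 0) (h1' : H x' e = 0)
    (h2' : H x' v = 0) : ∃ a ∈ fix (q := q) ({x, x'} : Set (Fin n → F)), mat a *ᵥ e = v := by
  rcases linked_fix hF hx hx' h with hf | ⟨x2, hx2, hxx2, hf, a, b, rfl⟩
  · obtain ⟨A, hA⟩ := exists_su_frame hF (f := ![x, e]) (f' := ![x, v]) (by omega)
      (pair_frame hx he h1 ((H_eq_zero_comm hF).1 h1)) (pair_frame hx hv h2 ((H_eq_zero_comm hF).1 h2))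
    refine ⟨A, ?_, by simpa using hA 1⟩
    rw [hf]
    intro y hy
    rw [Set.mem_singleton_iff.1 hy]
    simpa using hA 0
  · obtain ⟨A, hA⟩ := exists_su_frame hF (f := ![x, a • x + b • x', e]) (f' := ![x, a • x + b • x', v])
      (by omega)
      (triple_frame hF hx hx2 he hxx2 h1 (by rw [H_add_left, H_smul_left, H_smul_left, h1, h1']; ring))
      (triple_frame hF hx hx2 hv hxx2 h2 (by rw [H_add_left, H_smul_left, H_smul_left, h2, h2']; ring))
    refine ⟨A, ?_, by simpa using hA 2⟩
    rw [hf]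
    intro y hy
    rcases hy with rfl | rfl
    · simpa using hA 0
    · simpa using hA 1

/-- Coherence over linked pairs spreads to all. -/
theorem chain {e v x x' : Vec} (hx : H x x = 1) (hx' : H x' x' = 1) (h1 : H x e = 0) (h2 : H x v = 0)
    (h1' : H x' e = 0) (h2' : H x' v = 0)
    (hroom : x' - H x' x • x ≠ 0 →
      (q = 2 ∨ x' - H x' x • x ∈ Submodule.span F ({e, v, x} : Set Vec)) →
      ∃ z : Vec, H z z = 1 ∧ H z e = 0 ∧ H z v = 0 ∧ H z x = 0 ∧ H z (x' - H x' x • x) = 0) :
    Linked q x x' ∨ ∃ z : Vec, H z z = 1 ∧ H z e = 0 ∧ H z v = 0 ∧ Linked q x z ∧ Linked q z x' := by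
  set α := H x' x with hα
  by_cases hlk : Linked q x x'
  · exact Or.inl hlk
  right
  have hα1 : α ^ (q + 1) = 1 := by
    by_contra hne
    exact hlk (Or.inr hne)
  set r := x' - α • x with hr
  have hr0 : r ≠ 0 := fun h0 => hlk (Or.inl ⟨α, sub_eq_zero.1 h0⟩)
  have hxx' : H x x' = α ^ q := (H_conj hF x' x).symm
  have hrr : H r r = 0 := by
    simp only [hr, H_sub_left, H_sub_right hF, H_smul_left, H_smul_right, hx, hx', ← hα, hxx']
    rw [pow_succ] at hα1
    linear_combination -hα1
  have hre : H r e = 0 := by rw [hr, H_sub_left, H_smul_left, h1', h1]; ring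
  have hrv : H r v = 0 := by rw [hr, H_sub_left, H_smul_left, h2', h2]; ring
  have hrx : H r x = 0 := by rw [hr, H_sub_left, H_smul_left, ← hα, hx]; ring
  have hx'e : x' = r + α • x := by rw [hr]; abel
  have fin : ∀ z : Vec, H z z = 1 → H z e = 0 → H z v = 0 → H z x = 0 →
      (H z r) ^ (q + 1) ≠ 1 → ∃ z : Vec, H z z = 1 ∧ H z e = 0 ∧ H z v = 0 ∧ Linked q x z ∧ Linked q z x' := by
    intro z z1 z2 z3 z4 z5
    refine ⟨z, z1, z2, z3, Or.inr (by rw [z4, zero_pow (by omega)]; exact zero_ne_one), Or.inr ?_⟩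
    have hzx' : H z x' = H z r := by rw [hx'e, H_add_right hF, H_smul_right, z4, mul_zero, add_zero]
    rw [← H_conj hF z x', hzx', ← pow_mul, mul_comm, pow_mul]
    intro h6
    apply z5
    have h7 := congrArg (fun t : F => t ^ q) h6
    simpa only [pow_qq hF, one_pow] using h7
  by_cases hq2 : q = 2 ∨ r ∈ Submodule.span F ({e, v, x} : Set Vec)
  · obtain ⟨z, z1, z2, z3, z4, z5⟩ := hroom hr0 hq2
    exact fin z z1 z2 z3 z4 (by rw [z5, zero_pow (by omega)]; exact zero_ne_one)
  · push Not at hq2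
    obtain ⟨w, hw, hwr⟩ := Witt.exists_sep (σ := HermStd.qHom hF)
      (Finite.injective_iff_surjective.1 (HermStd.qHom hF).injective) (HermStd.hermB hF n)
      (HermStd.hermB_nondegenerate hF).2 hq2.2
    simp only [HermStd.hermB_apply] at hw hwr
    have hwe : ∀ y ∈ ({e, v, x} : Set Vec), H w y = 0 := fun y hy =>
      (H_eq_zero_comm hF).1 (hw y (Submodule.subset_span hy))
    obtain ⟨c, hc⟩ := exists_trace_eq hF (c := - H w w) (by
      rw [← HermStd.qHom_apply hF, map_neg, HermStd.qHom_apply, H_conj hF])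
    set s := w + c • r with hs
    have hwr' : H w r = 1 := by rw [← H_conj hF r w, hwr, one_pow]
    have hsr : H s r = 1 := by rw [hs, H_add_left, H_smul_left, hwr', hrr]; ring
    have hrs : H r s = 1 := by rw [← H_conj hF s r, hsr, one_pow]
    have hss : H s s = 0 := by
      simp only [hs, H_add_left, H_add_right hF, H_smul_left, H_smul_right, hrr, hwr, hwr']
      linear_combination hc
    obtain ⟨b, hb0, hb1⟩ := exists_pow_ne_one hF hq2.1
    obtain ⟨t, ht⟩ := exists_trace_eq hF (c := (1 : F)) (one_pow q)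
    have hbq : b ^ q ≠ 0 := pow_ne_zero _ hb0
    have hse : H s e = 0 := by rw [hs, H_add_left, H_smul_left, hwe e (by simp), hre]; ring
    have hsv : H s v = 0 := by rw [hs, H_add_left, H_smul_left, hwe v (by simp), hrv]; ring
    have hsx : H s x = 0 := by rw [hs, H_add_left, H_smul_left, hwe x (by simp), hrx]; ring
    refine fin ((t / b ^ q) • r + b • s) ?_ ?_ ?_ ?_ ?_
    · simp only [H_add_left, H_add_right hF, H_smul_left, H_smul_right, hrr, hss, hrs, hsr, div_pow,
        pow_qq hF]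
      field_simp
      linear_combination (b * b ^ q) * ht
    · rw [H_add_left, H_smul_left, H_smul_left, hre, hse]; ring
    · rw [H_add_left, H_smul_left, H_smul_left, hrv, hsv]; ring
    · rw [H_add_left, H_smul_left, H_smul_left, hrx, hsx]; ring
    · rw [H_add_left, H_smul_left, H_smul_left, hrr, hsr, mul_zero, zero_add, mul_one]; exact hb1

/-- The room needed by `chain` in dimension at least five. -/
theorem room (hn : 5 ≤ n) (hq : 3 ≤ q ∨ 7 ≤ n) {e v x : Vec} (he : H e e = 1) (hx : H x x = 1)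
    (hex : H x e = 0) (r : Vec)
    (h : q = 2 ∨ r ∈ Submodule.span F ({e, v, x} : Set Vec)) :
    ∃ z : Vec, H z z = 1 ∧ H z e = 0 ∧ H z v = 0 ∧ H z x = 0 ∧ H z r = 0 := by
  have hfr : IsFrame q ![e, x] := pair_frame he hx ((H_eq_zero_comm hF).1 hex) hex
  rcases h with h | h
  · obtain ⟨z, hz, hz'⟩ := exists_unit_perp hF ![e, x, v, r] ![e, x] hfr ![0, 1]
      (fun i => by fin_cases i <;> rfl) (by omega)
    exact ⟨z, hz, hz' 0, hz' 2, hz' 1, hz' 3⟩
  · obtain ⟨z, hz, hz'⟩ := exists_unit_perp hF ![e, x, v] ![e, x] hfr ![0, 1]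
      (fun i => by fin_cases i <;> rfl) (by omega)
    refine ⟨z, hz, hz' 0, hz' 2, hz' 1, ?_⟩
    induction h using Submodule.span_induction with
    | mem y hy =>
      rcases hy with rfl | rfl | rfl
      exacts [hz' 0, hz' 2, hz' 1]
    | zero => exact H_zero_right hF z
    | add a b _ _ ha hb => rw [H_add_right hF, ha, hb, add_zero]
    | smul c a _ ha => rw [H_smul_right, ha, mul_zero]

end Cfsg.Agent.SimpleFacts.SUMult.CosetGeom
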