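import Cfsg.Agent.SimpleFacts.SUMult.Blocks
import Mathlib

/-!
The stabiliser of a non-isotropic point; abelianisations away from the characteristic.
-/

set_option autoImplicit false
set_option linter.unusedSectionVars false
set_option linter.unusedSimpArgs false

namespace Cfsg.Agent.SimpleFacts.SUMult.Point

open Matrix
open Cfsg.Agent.Forms Cfsg.Agent.Classical Cfsg.Agent.Classical.Unitary
open Cfsg.Agent.SimpleFacts.SUMult Ext Blocks

universe u v

variable {F : Type u} [Field F] [Fintype F] {q n m : ℕ} (hF : Fintype.card F = q ^ 2)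
include hF

/-- The block `(det g)⁻¹, g`. -/
noncomputable def pointHom : Cfsg.GU m F q →* Cfsg.SU (1 + m) F q where
  toFun g := suMk (blkM (Matrix.diagonal fun _ : Fin 1 => (gmat g).det⁻¹) (gmat g))
    (by
      rw [det_blkM, Matrix.det_diagonal, Fin.prod_univ_one]
      exact inv_mul_cancel₀ (det_ne_zero_of_preserves hF g.2))
    (blkM_preserves (diag_preserves hF _ fun _ => by rw [inv_pow, det_norm_gu hF g, inv_one]) g.2)
  map_one' := SU_ext fun x => by
    rw [suMk_mulVec, ← eta x, blkM_mulVec, mat_one, gmat_one, one_mulVec, one_mulVec, Matrix.det_one, inv_one,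
      Matrix.diagonal_one, one_mulVec]
  map_mul' a b := SU_ext fun x => by
    rw [suMk_mulVec, mul_mulVec, suMk_mulVec, suMk_mulVec, ← eta x, blkM_mulVec, blkM_mulVec, blkM_mulVec,
      gmul_mulVec]
    congr 1
    funext i
    rw [Matrix.mulVec_diagonal, Matrix.mulVec_diagonal, Matrix.mulVec_diagonal, gmat_mul, Matrix.det_mul, mul_inv,
      mul_assoc]

theorem pointHom_injective : Function.Injective (pointHom (m := m) hF) := by
  intro a b h
  refine GU_ext fun y => ?_
  have := congrArg (fun g => mat g *ᵥ Fin.append (0 : Fin 1 → F) y) h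
  simp only [pointHom, MonoidHom.coe_mk, OneHom.coe_mk, suMk_mulVec, blkM_mulVec] at this
  funext j
  simpa using congrFun this (Fin.natAdd 1 j)

theorem natCard_point_index (hm : 1 ≤ m) :
    (pointHom (m := m) hF).range.index * (q + 1) =
      q ^ m * (if Even m then q ^ (m + 1) + 1 else q ^ (m + 1) - 1) := by
  have h1 := Subgroup.card_mul_index (pointHom (m := m) hF).range
  rw [← Nat.card_congr (MonoidHom.ofInjective (pointHom_injective hF)).toEquiv] at h1
  have h2 := natCard_SU_mul hF (n := 1 + m) (by omega)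
  rw [← h1, natCard_GU hF, natCard_GU hF] at h2
  have hpos : 0 < q ^ (m * (m - 1) / 2) *
      ∏ i ∈ Finset.range m, (if Even i then q ^ (i + 1) + 1 else q ^ (i + 1) - 1) := by
    rw [← natCard_GU hF]
    exact Nat.card_pos
  have hexp : (1 + m) * (1 + m - 1) / 2 = m * (m - 1) / 2 + m := by
    rw [← Finset.sum_range_id, ← Finset.sum_range_id, add_comm 1 m, Finset.sum_range_succ]
  refine Nat.eq_of_mul_eq_mul_left hpos ?_
  rw [hexp, show Finset.range (1 + m) = Finset.range (m + 1) by rw [add_comm], Finset.prod_range_succ, pow_add]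
    at h2
  linear_combination h2

/-- Reduction to the block. -/
theorem triv_point {r : ℕ} [Fact r.Prime] (ht : Triv.{u, v} r (Cfsg.SU m F q))
    (hc : CoAb r (Cfsg.SU m F q))
    (hidx : ¬ r ∣ (pointHom (m := m) hF).range.index) : Triv.{u, v} r (Cfsg.SU (1 + m) F q) := by
  refine Triv.of_sub _ hidx fun E _ _ σ hsurj hcen hker => ?_
  set φ := (pointHom (m := m) hF).comp suToGU with hφ
  have hφi : Function.Injective φ := (pointHom_injective hF).comp suToGU_injective
  let e : Cfsg.SU m F q ≃* φ.range := MonoidHom.ofInjective hφi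
  obtain ⟨z, hz⟩ := IsCyclic.exists_generator (α := (detHom m F q).range)
  obtain ⟨g0, hg0⟩ := z.2
  refine good_of_cyclic_quotient σ hsurj hcen hker (N := φ.range) ?_ ?_ (d := pointHom hF g0) ⟨g0, rfl⟩ ?_
    (good_of_triv σ hsurj hcen hker (ht.congr e)) (hc.congr e)
  · rintro _ ⟨s, rfl⟩
    exact ⟨suToGU s, rfl⟩
  · rintro _ ⟨g, rfl⟩ _ ⟨s, rfl⟩
    have : g * suToGU s * g⁻¹ ∈ (suToGU (n := m) (F := F) (q := q)).range := by
      rw [range_suToGU, MonoidHom.mem_ker, map_mul, map_mul, map_inv,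
        show detHom m F q (suToGU s) = 1 from by rw [← MonoidHom.mem_ker, ← range_suToGU]; exact ⟨s, rfl⟩,
        mul_one, mul_inv_cancel]
    obtain ⟨s', hs'⟩ := this
    exact ⟨s', by simp only [hφ, MonoidHom.comp_apply, hs', map_mul, map_inv]⟩
  · rintro _ ⟨g, rfl⟩
    obtain ⟨i, hi⟩ := Subgroup.mem_zpowers_iff.1 (hz ⟨detHom m F q g, g, rfl⟩)
    have hi' : (detHom m F q g0) ^ i = detHom m F q g := by
      have := congrArg Subtype.val hi
      rw [SubgroupClass.coe_zpow, ← hg0] at this
      exact this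
    have : g * (g0 ^ i)⁻¹ ∈ (suToGU (n := m) (F := F) (q := q)).range := by
      rw [range_suToGU, MonoidHom.mem_ker, map_mul, map_inv, map_zpow, hi', mul_inv_cancel]
    obtain ⟨s, hs⟩ := this
    refine ⟨φ s, ⟨s, rfl⟩, i, ?_⟩
    simp only [hφ, MonoidHom.comp_apply, hs, map_mul, map_inv, map_zpow, inv_mul_cancel_right]

theorem tvu_pow {v : Fin n → F} (hv : Cfsg.hermForm n F q v v = 0) {c : F} (hc : c + c ^ q = 0) :
    ∀ k : ℕ, ∃ hk : (k : F) * c + ((k : F) * c) ^ q = 0, tvu hF hv hc ^ k = tvu hF hv hk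
  | 0 => ⟨by simp [zero_pow (q_ne_zero hF)], SU_ext fun x => by rw [pow_zero, mat_one, one_mulVec, tvu_mulVec]; simp⟩
  | k + 1 => by
    obtain ⟨hk, e⟩ := tvu_pow hv hc k
    refine ⟨?_, ?_⟩
    · rw [Nat.cast_succ, add_mul, one_mul, HermStd.add_pow_q hF]
      linear_combination hk + hc
    · rw [pow_succ, e, tvu_mul hF hv hk hc]
      refine SU_ext fun x => ?_
      rw [tvu_mulVec, tvu_mulVec]
      push_cast
      module

/-- Away from the characteristic the abelianisation has exponent prime to `r`. -/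
theorem coAb_of_ne_char (p : ℕ) [Fact p.Prime] [CharP F p] {r : ℕ} [Fact r.Prime] (hrp : r ≠ p) (hn : 1 ≤ n)
    (h : ¬ (n = 3 ∧ q = 2)) : CoAb r (Cfsg.SU n F q) := by
  intro g
  refine ⟨p, fun hd => hrp ((Nat.prime_dvd_prime_iff_eq Fact.out Fact.out).1 hd), ?_⟩
  rw [← Abelianization.ker_of, MonoidHom.mem_ker, map_pow]
  have hg : g ∈ tvGroup F q n := by rw [tvGroup_eq_top hF hn h]; trivial
  induction hg using Subgroup.closure_induction with
  | mem y hy =>
    obtain ⟨v, c, hv, hc, hy⟩ := hy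
    have e : y = tvu hF hv hc := SU_ext fun x => by rw [hy]; rfl
    obtain ⟨hk, e'⟩ := tvu_pow hF hv hc p
    rw [e, ← map_pow, e', show tvu hF hv hk = 1 from SU_ext fun x => by
      rw [tvu_mulVec, CharP.cast_eq_zero, mat_one, one_mulVec]; simp, map_one]
  | one => rw [map_one, one_pow]
  | mul a b _ _ ha hb => rw [map_mul, mul_pow, ha, hb, one_mul]
  | inv a _ ha => rw [map_inv, inv_pow, ha, inv_one]

end Cfsg.Agent.SimpleFacts.SUMult.Point
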