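import Cfsg.Agent.SimpleFacts.SUMult.Blocks
import Mathlib

/-!
Unipotent elements attached to an isotropic vector and an orthogonal one; the radical of the stabiliser of an
isotropic vector.
-/

set_option autoImplicit false
set_option linter.unusedSectionVars false
set_option linter.unusedSimpArgs false

namespace Cfsg.Agent.SimpleFacts.SUMult.Unip

open Matrix
open Cfsg.Agent.Forms Cfsg.Agent.Classical Cfsg.Agent.Classical.Unitary
open Cfsg.Agent.SimpleFacts.SUMult Ext Blocks

universe u v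

variable {F : Type u} [Field F] [Fintype F] {q n : ℕ}

local notation "Vec" => (Fin n → F)
local notation "Mat" => Matrix (Fin n) (Fin n) F
local notation "H" => Cfsg.hermForm n F q
local notation "G" => Cfsg.SU n F q

/-- Elements fixing `r` and acting trivially on its orthogonal modulo its line. -/
def radical (q : ℕ) (r : Fin n → F) : Subgroup (Cfsg.SU n F q) where
  carrier := {g | mat g *ᵥ r = r ∧ ∀ x, Cfsg.hermForm n F q x r = 0 → ∃ t : F, mat g *ᵥ x = x + t • r}
  one_mem' := ⟨one_mulVec r, fun x _ => ⟨0, by rw [zero_smul, add_zero]; exact one_mulVec x⟩⟩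
  mul_mem' {a b} ha hb := ⟨by rw [mul_mulVec, hb.1, ha.1], fun x hx => by
    obtain ⟨t, ht⟩ := hb.2 x hx
    obtain ⟨t', ht'⟩ := ha.2 x hx
    exact ⟨t' + t, by rw [mul_mulVec, ht, Matrix.mulVec_add, Matrix.mulVec_smul, ha.1, ht', add_smul]; abel⟩⟩
  inv_mem' {a} ha := ⟨inv_mulVec a ha.1, fun x hx => by
    obtain ⟨t, ht⟩ := ha.2 x hx
    refine ⟨-t, inv_mulVec a ?_⟩
    rw [Matrix.mulVec_add, Matrix.mulVec_smul, ha.1, ht]
    module⟩

theorem radical_conj {r : Vec} {g : G} (hg : mat g *ᵥ r = r) {a : G} (ha : a ∈ radical q r) :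
    g * a * g⁻¹ ∈ radical q r := by
  refine ⟨by rw [mul_mulVec, mul_mulVec, inv_mulVec g hg, ha.1, hg], fun x hx => ?_⟩
  have hx' : H (mat g⁻¹ *ᵥ x) r = 0 := by
    conv_lhs => arg 5; rw [← inv_mulVec g hg]
    rw [SU_H, hx]
  obtain ⟨t, ht⟩ := ha.2 _ hx'
  refine ⟨t, ?_⟩
  rw [mul_mulVec, mul_mulVec, ht, Matrix.mulVec_add, Matrix.mulVec_smul, hg, ← mul_mulVec g g⁻¹, mul_inv_cancel,
    mat_one, one_mulVec]

variable (hF : Fintype.card F = q ^ 2)
include hF

theorem radical_pow (p : ℕ) [Fact p.Prime] [CharP F p] {r : Vec} {g : G} (hg : g ∈ radical q r) :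
    g ^ p ^ 2 = 1 := by
  classical
  set N : Mat := mat g - 1 with hN
  have hNx : ∀ x, N *ᵥ x = mat g *ᵥ x - x := fun x => by rw [hN, Matrix.sub_mulVec, one_mulVec]
  have h3 : N ^ 3 = 0 := by
    refine mat_ext fun x => ?_
    rw [Matrix.zero_mulVec, pow_succ, pow_two, ← Matrix.mulVec_mulVec, ← Matrix.mulVec_mulVec]
    have h1 : H (N *ᵥ x) r = 0 := by
      rw [hNx, H_sub_left]
      conv_lhs => arg 1; arg 5; rw [← hg.1]
      rw [SU_H, sub_self]
    obtain ⟨t, ht⟩ := hg.2 _ h1
    rw [hNx (N *ᵥ x), ht, add_sub_cancel_left, hNx, Matrix.mulVec_smul, hg.1, sub_self]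
  have hmat : ∀ k : ℕ, mat (g ^ k) = (mat g) ^ k := by
    intro k
    induction k with
    | zero => rw [pow_zero, pow_zero, mat_one]
    | succ k ih => rw [pow_succ, mat_mul, ih, pow_succ]
  rcases Nat.eq_zero_or_pos n with rfl | hn
  · exact SU_ext fun x => Subsingleton.elim _ _
  have : Nonempty (Fin n) := ⟨⟨0, hn⟩⟩
  refine SU_ext fun x => ?_
  rw [hmat, show mat g = 1 + N by rw [hN]; abel, add_pow_char_pow_of_commute p 2 (Commute.one_left N),
    one_pow, show N ^ p ^ 2 = 0 from pow_eq_zero_of_le ?_ h3, add_zero, mat_one]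
  have := (Fact.out : p.Prime).two_le
  nlinarith

theorem radical_isPGroup (p : ℕ) [Fact p.Prime] [CharP F p] (r : Vec) : IsPGroup p (radical (F := F) (q := q) r) :=
  fun g => ⟨2, Subtype.ext (radical_pow hF p g.2)⟩

omit hF in
/-- The matrix of a unipotent element. -/
def unM (q : ℕ) (r w : Fin n → F) (a : F) : Matrix (Fin n) (Fin n) F :=
  1 + Matrix.vecMulVec w (fun i => r i ^ q) - Matrix.vecMulVec r (fun i => w i ^ q) +
    a • Matrix.vecMulVec r (fun i => r i ^ q)

theorem unM_mulVec (r w : Vec) (a : F) (x : Vec) :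
    unM q r w a *ᵥ x = x + H x r • w - H x w • r + (a * H x r) • r := by
  rw [unM, add_mulVec, sub_mulVec, add_mulVec, one_mulVec, smul_mulVec, vecMulVec_mulVec, vecMulVec_mulVec,
    vecMulVec_mulVec, op_smul_eq_smul, op_smul_eq_smul, op_smul_eq_smul, smul_smul, dotProduct_comm,
    dotProduct_comm (fun i => w i ^ q)]
  rfl

theorem unM_preserves {r w : Vec} (hr : H r r = 0) (hwr : H w r = 0) {a : F}
    (ha : a + a ^ q = - H w w) (x y : Vec) : H (unM q r w a *ᵥ x) (unM q r w a *ᵥ y) = H x y := by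
  have hrw : H r w = 0 := (H_eq_zero_comm hF).1 hwr
  simp only [unM_mulVec hF, H_add_left, H_add_right hF, H_sub_left, H_sub_right hF, H_smul_left, H_smul_right,
    hr, hwr, hrw, mul_pow, H_conj hF y r, H_conj hF y w]
  linear_combination (H x r * H r y) * ha

theorem unM_mul {r w w' : Vec} (hr : H r r = 0) (hwr : H w r = 0) (hwr' : H w' r = 0) (a a' : F) :
    unM q r w a * unM q r w' a' = unM q r (w + w') (a + a' - H w' w) := by
  refine mat_ext fun x => ?_
  simp only [← Matrix.mulVec_mulVec, unM_mulVec hF, H_add_left, H_sub_left, H_smul_left, H_add_right hF, hr, hwr,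
    hwr', (H_eq_zero_comm hF).1 hwr]
  module

theorem unM_det {r w : Vec} (hr : H r r = 0) (hwr : H w r = 0) (a : F) : (unM q r w a).det = 1 := by
  classical
  obtain ⟨p, hp⟩ := CharP.exists F
  have : Fact p.Prime := ⟨CharP.char_is_prime F p⟩
  rcases Nat.eq_zero_or_pos n with rfl | hn
  · exact Matrix.det_fin_zero
  have : Nonempty (Fin n) := ⟨⟨0, hn⟩⟩
  set N : Mat := unM q r w a - 1 with hN
  have hNx : ∀ x, N *ᵥ x = H x r • w - H x w • r + (a * H x r) • r := fun x => by
    rw [hN, Matrix.sub_mulVec, one_mulVec, unM_mulVec hF]; abel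
  have h3 : N ^ 3 = 0 := by
    refine mat_ext fun x => ?_
    rw [Matrix.zero_mulVec, pow_succ, pow_two, ← Matrix.mulVec_mulVec, ← Matrix.mulVec_mulVec]
    simp only [hNx, H_add_left, H_sub_left, H_smul_left, hr, hwr, (H_eq_zero_comm hF).1 hwr]
    module
  have h1 : unM q r w a ^ p ^ 2 = 1 := by
    rw [show unM q r w a = 1 + N by rw [hN]; abel, add_pow_char_pow_of_commute p 2 (Commute.one_left N),
      one_pow, show N ^ p ^ 2 = 0 from pow_eq_zero_of_le ?_ h3, add_zero]
    have := (Fact.out : p.Prime).two_le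
    nlinarith
  have h2 := congrArg Matrix.det h1
  rw [Matrix.det_pow, Matrix.det_one] at h2
  exact iterateFrobenius_inj F p 2 (by rw [iterateFrobenius_def, iterateFrobenius_def, h2, one_pow])

/-- A unipotent element. -/
def un {r w : Fin n → F} (hr : Cfsg.hermForm n F q r r = 0) (hwr : Cfsg.hermForm n F q w r = 0) {a : F}
    (ha : a + a ^ q = - Cfsg.hermForm n F q w w) : Cfsg.SU n F q :=
  suMk (unM q r w a) (unM_det hF hr hwr a) (unM_preserves hF hr hwr ha)

theorem un_mulVec {r w : Vec} (hr : H r r = 0) (hwr : H w r = 0) {a : F} (ha : a + a ^ q = - H w w) (x : Vec) :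
    mat (un hF hr hwr ha) *ᵥ x = x + H x r • w - H x w • r + (a * H x r) • r :=
  unM_mulVec hF r w a x

theorem un_mem_radical {r w : Vec} (hr : H r r = 0) (hwr : H w r = 0) {a : F} (ha : a + a ^ q = - H w w) :
    un hF hr hwr ha ∈ radical q r := by
  refine ⟨?_, fun x hx => ⟨- H x w, ?_⟩⟩
  · rw [un_mulVec, hr, (H_eq_zero_comm hF).1 hwr]
    simp
  · rw [un_mulVec, hx]
    module

theorem exists_coeff (w : Vec) : ∃ a : F, a + a ^ q = - H w w :=
  exists_trace_eq hF (by rw [← HermStd.qHom_apply hF, map_neg, HermStd.qHom_apply, H_conj hF])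

/-- A radical element moving `y` along `r` and fixing what is orthogonal to `r` and `x`. -/
theorem exists_push {r x y : Vec} (hr : H r r = 0) (hxr : H x r = 0) (hyr : H y r = 0) (hyx : H y x ≠ 0)
    (τ : F) : ∃ h ∈ radical q r, mat h *ᵥ y = y + τ • r ∧
      ∀ z : Vec, H z r = 0 → H z x = 0 → mat h *ᵥ z = z := by
  set c : F := (-(τ / H y x)) ^ q with hc
  obtain ⟨a, ha⟩ := exists_coeff hF (c • x)
  have hwr : H (c • x) r = 0 := by rw [H_smul_left, hxr, mul_zero]
  refine ⟨un hF hr hwr ha, un_mem_radical hF hr hwr ha, ?_, fun z h1 h2 => ?_⟩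
  · rw [un_mulVec, hyr, H_smul_right, hc, pow_qq hF, neg_mul, div_mul_cancel₀ _ hyx]
    module
  · rw [un_mulVec, h1, H_smul_right, h2]
    simp

end Cfsg.Agent.SimpleFacts.SUMult.Unip
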