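import Cfsg.Agent.SimpleFacts.SUMult.Frame
import Cfsg.Agent.SimpleFacts.SUMult.Point
import Cfsg.Agent.SimpleFacts.SUMult.Unip
import Cfsg.Agent.SimpleFacts.SUMult.CosetGeom
import Cfsg.Agent.Lib.Classical.SylowSL2
import Mathlib

/-!
Central extensions of three-dimensional unitary groups away from the characteristic.
-/

set_option autoImplicit false
set_option linter.unusedSectionVars false
set_option linter.unusedSimpArgs false

namespace Cfsg.Agent.SimpleFacts.SUMult.BaseThree

open Matrix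
open Cfsg.Agent.Forms Cfsg.Agent.Classical Cfsg.Agent.Classical.Unitary
open Cfsg.Agent.SimpleFacts.SUMult Ext Blocks
open scoped commutatorElement MatrixGroups

universe u v

/-- Quaternion groups. -/
theorem quaternion_triv {r : ℕ} (n : ℕ) [NeZero n] : Triv.{0, v} r (QuaternionGroup n) := by
  intro E _ _ σ hsurj hcen _ z hz hd
  obtain ⟨a, ha⟩ := hsurj (QuaternionGroup.a 1)
  obtain ⟨b, hb⟩ := hsurj (QuaternionGroup.xa 0)
  have hkc : ∀ {k : E}, k ∈ σ.ker → ∀ x, x * k = k * x := fun hk x => Subgroup.mem_center_iff.1 (hcen hk) x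
  have h0 : σ (b * a * b⁻¹) = (σ a)⁻¹ := by
    rw [map_mul, map_mul, map_inv, ha, hb, mul_inv_eq_iff_eq_mul, eq_inv_mul_iff_mul_eq, QuaternionGroup.xa_mul_a,
      QuaternionGroup.a_mul_xa]
    simp
  have hk1 : a * (b * a * b⁻¹) ∈ σ.ker := by rw [MonoidHom.mem_ker, map_mul, h0, mul_inv_cancel]
  obtain ⟨k, hk⟩ : ∃ k, k = a * (b * a * b⁻¹) := ⟨_, rfl⟩
  rw [← hk] at hk1
  have hbab : b * a * b⁻¹ = a⁻¹ * k := by rw [hk]; group
  have hka : ∀ x, Commute x k := fun x => hkc hk1 x
  obtain ⟨c, hc⟩ : ∃ c, c = b * a * b⁻¹ * a⁻¹ := ⟨_, rfl⟩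
  have hc2 : c = (a⁻¹) ^ 2 * k := by
    rw [hc, hbab, mul_assoc, ← (hka a⁻¹).eq, sq, mul_assoc]
  have hac : a * c * a⁻¹ = c := by
    rw [hc2, ← mul_assoc, ((Commute.refl a).inv_right.pow_right 2).eq, mul_assoc (a⁻¹ ^ 2), (hka a).eq,
      ← mul_assoc, mul_assoc _ a a⁻¹, mul_inv_cancel, mul_one]
  have hbc : b * c * b⁻¹ = c⁻¹ := by
    have hkb : b * k * b⁻¹ = k := by rw [(hka b).eq, mul_inv_cancel_right]
    calc b * c * b⁻¹ = ((b * a * b⁻¹)⁻¹) ^ 2 * (b * k * b⁻¹) := by rw [hc2, sq, sq]; group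
      _ = (k⁻¹ * a) ^ 2 * k := by rw [hbab, hkb, _root_.mul_inv_rev, inv_inv]
      _ = k⁻¹ * a ^ 2 := by
        rw [((hka a).symm.inv_left).mul_pow, mul_assoc, (hka (a ^ 2)).eq]
        group
      _ = c⁻¹ := by rw [hc2, _root_.mul_inv_rev, inv_pow, inv_inv]
  -- decomposition
  have hdec : ∀ x : E, ∃ i j : ℤ, ∃ l ∈ σ.ker, x = b ^ j * a ^ i * l := by
    intro x
    have hgen : ∀ y : QuaternionGroup n, ∃ i j : ℤ, y = (QuaternionGroup.xa 0) ^ j * (QuaternionGroup.a 1) ^ i := by
      rintro (i | i)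
      · exact ⟨(i.val : ℕ), 0, by rw [zpow_zero, one_mul, zpow_natCast, QuaternionGroup.a_one_pow]; simp⟩
      · exact ⟨(i.val : ℕ), 1, by rw [zpow_one, zpow_natCast, QuaternionGroup.a_one_pow, QuaternionGroup.xa_mul_a]; simp⟩
    obtain ⟨i, j, hy⟩ := hgen (σ x)
    exact ⟨i, j, (b ^ j * a ^ i)⁻¹ * x, by
      rw [MonoidHom.mem_ker, map_mul, map_inv, map_mul, map_zpow, map_zpow, ha, hb, ← hy, inv_mul_cancel],
      by group⟩
  set C := Subgroup.zpowers c with hC
  have hCn : C.Normal := by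
    refine ⟨fun y hy g => ?_⟩
    have hN : g ∈ Subgroup.normalizer (C : Set E) := by
      obtain ⟨i, j, l, hl, rfl⟩ := hdec g
      have haN : a ∈ Subgroup.normalizer (C : Set E) := by
        rw [Subgroup.mem_normalizer_iff]
        intro y
        have key : ∀ t : ℤ, a * c ^ t * a⁻¹ = c ^ t := fun t => by rw [← conj_zpow, hac]
        refine ⟨?_, ?_⟩
        · rintro ⟨t, rfl⟩
          exact ⟨t, (key t).symm⟩
        · rintro ⟨t, ht⟩
          refine ⟨t, mul_left_cancel (a := a) (mul_right_cancel (b := a⁻¹) ?_)⟩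
          exact (key t).trans ht
      have hbN : b ∈ Subgroup.normalizer (C : Set E) := by
        rw [Subgroup.mem_normalizer_iff]
        intro y
        have key : ∀ t : ℤ, b * c ^ t * b⁻¹ = c ^ (-t) := fun t => by rw [← conj_zpow, hbc, _root_.inv_zpow, _root_.zpow_neg]
        refine ⟨?_, ?_⟩
        · rintro ⟨t, rfl⟩
          exact ⟨-t, (key t).symm⟩
        · rintro ⟨t, ht⟩
          refine ⟨-t, mul_left_cancel (a := b) (mul_right_cancel (b := b⁻¹) ?_)⟩
          refine (key (-t)).trans ?_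
          rw [neg_neg]
          exact ht
      refine mul_mem (mul_mem (zpow_mem hbN j) (zpow_mem haN i)) ?_
      rw [Subgroup.mem_normalizer_iff]
      intro y
      rw [← hkc hl y, mul_inv_cancel_right]
    exact (Subgroup.mem_normalizer_iff.1 hN y).1 hy
  have hle : commutator E ≤ C := by
    rw [_root_.commutator_def, Subgroup.commutator_le]
    intro x _ y _
    rw [← QuotientGroup.eq_one_iff]
    show QuotientGroup.mk' C ⁅x, y⁆ = 1
    rw [map_commutatorElement, commutatorElement_eq_one_iff_commute]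
    have hab : Commute (QuotientGroup.mk' C b) (QuotientGroup.mk' C a) := by
      rw [← commutatorElement_eq_one_iff_commute, ← map_commutatorElement, QuotientGroup.mk'_apply,
        QuotientGroup.eq_one_iff, commutatorElement_def, ← hc]
      exact Subgroup.mem_zpowers c
    have hl' : ∀ l ∈ σ.ker, ∀ w, Commute (QuotientGroup.mk' C w) (QuotientGroup.mk' C l) := fun l hl w =>
      (show Commute w l from hkc hl w).map (QuotientGroup.mk' C)
    obtain ⟨i, j, l, hl, rfl⟩ := hdec x
    obtain ⟨i', j', l', hl'', rfl⟩ := hdec y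
    simp only [map_mul, map_zpow]
    have p1 : Commute (QuotientGroup.mk' C b ^ j * QuotientGroup.mk' C a ^ i)
        (QuotientGroup.mk' C b ^ j' * QuotientGroup.mk' C a ^ i') :=
      (((Commute.refl _).zpow_zpow j j').mul_right (hab.zpow_zpow j i')).mul_left
        ((hab.symm.zpow_zpow i j').mul_right ((Commute.refl _).zpow_zpow i i'))
    refine (p1.mul_right ?_).mul_left ((hl' l hl _).symm)
    rw [← map_zpow, ← map_zpow, ← map_mul]
    exact hl' l' hl'' _
  obtain ⟨t, rfl⟩ := hle hd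
  simp only at hz ⊢
  -- the exponent
  have han : a ^ (2 * n) = k ^ n := by
    have h2 : b * (a ^ n) * b⁻¹ = a ^ n := by
      have hm : b * b * (a ^ n)⁻¹ ∈ σ.ker := by
        rw [MonoidHom.mem_ker, map_mul, map_mul, map_inv, map_pow, ha, hb, QuaternionGroup.a_one_pow, ← sq,
          QuaternionGroup.xa_sq, mul_inv_cancel]
      have e : a ^ n = (b * b * (a ^ n)⁻¹)⁻¹ * (b * b) := by group
      conv_lhs => rw [e]
      calc b * ((b * b * (a ^ n)⁻¹)⁻¹ * (b * b)) * b⁻¹
          = (b * (b * b * (a ^ n)⁻¹)⁻¹) * b := by group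
        _ = ((b * b * (a ^ n)⁻¹)⁻¹ * b) * b := by rw [hkc (inv_mem hm) b]
        _ = _ := by group
    rw [← conj_pow, hbab, ((hka a⁻¹)).mul_pow, inv_pow, inv_mul_eq_iff_eq_mul] at h2
    rw [two_mul, pow_add]
    exact h2.symm
  have hz' : (QuaternionGroup.a (1 : ZMod (2 * n))) ^ (-(2 * t)) = 1 := by
    have := MonoidHom.mem_ker.1 hz
    rw [map_zpow, hc2, map_mul, map_pow, map_inv, ha, MonoidHom.mem_ker.1 hk1, mul_one, inv_pow, _root_.inv_zpow,
      ← zpow_natCast, ← _root_.zpow_mul] at this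
    rw [_root_.zpow_neg]
    exact_mod_cast this
  rw [← orderOf_dvd_iff_zpow_eq_one, QuaternionGroup.orderOf_a_one, dvd_neg] at hz'
  obtain ⟨l, hl⟩ : ((n : ℤ)) ∣ t := by
    have : ((2 : ℤ) * n) ∣ 2 * t := by exact_mod_cast hz'
    exact (mul_dvd_mul_iff_left (two_ne_zero)).1 this
  rw [hl, _root_.zpow_mul, zpow_natCast, hc2, ((hka _)).mul_pow, ← pow_mul, inv_pow, han, inv_mul_cancel, _root_.one_zpow]

/-- An element of order three normalising a subgroup. -/
theorem three_dvd_relIndex {G₀ : Type*} [Group G₀] (T : Subgroup G₀) {π : G₀} (h3 : π ^ 3 = 1) (hnot : π ∉ T)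
    (hc : ∀ t ∈ T, π * t * π⁻¹ ∈ T) : 3 ∣ T.relIndex (T ⊔ Subgroup.zpowers π) := by
  by_contra hn
  set H' := T ⊔ Subgroup.zpowers π with hH'
  have hle : T ≤ H' := le_sup_left
  have hπH : π ∈ H' := Subgroup.mem_sup_right (Subgroup.mem_zpowers π)
  have hnorm : (T.subgroupOf H').Normal := by
    refine Subgroup.normal_subgroupOf_iff_le_normalizer hle |>.2 (sup_le Subgroup.le_normalizer ?_)
    rw [Subgroup.zpowers_le, Subgroup.mem_normalizer_iff]
    intro t
    refine ⟨hc t, fun ht => ?_⟩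
    have h := hc _ (hc _ ht)
    have e : π * (π * (π * t * π⁻¹) * π⁻¹) * π⁻¹ = π ^ 3 * t * (π ^ 3)⁻¹ := by rw [pow_succ, pow_two]; group
    rwa [e, h3, one_mul, inv_one, mul_one] at h
  have h4 : (⟨π, hπH⟩ : H') ^ (T.subgroupOf H').index ∈ T.subgroupOf H' := Subgroup.pow_index_mem _ _
  have h5 : (⟨π, hπH⟩ : H') ^ 3 = 1 := Subtype.ext h3
  obtain ⟨a, b, hab⟩ : IsCoprime ((3 : ℕ) : ℤ) ((T.subgroupOf H').index : ℤ) := by
    rw [Int.isCoprime_iff_gcd_eq_one, Int.gcd_natCast_natCast]
    exact Nat.prime_three.coprime_iff_not_dvd.2 hn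
  have : (⟨π, hπH⟩ : H') ∈ T.subgroupOf H' := by
    rw [← zpow_one (⟨π, hπH⟩ : H'), ← hab, _root_.zpow_add, mul_comm a, mul_comm b, _root_.zpow_mul, _root_.zpow_mul,
      zpow_natCast, zpow_natCast, h5, _root_.one_zpow, one_mul]
    exact zpow_mem h4 b
  exact hnot this


variable {F : Type u} [Field F] [Fintype F] {q : ℕ} (hF : Fintype.card F = q ^ 2)
include hF

theorem natCard_SU_two : Nat.card (Cfsg.SU 2 F q) = q * (q ^ 2 - 1) := by
  have h := natCard_SU_mul hF (n := 2) (by omega)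
  rw [natCard_GU hF] at h
  simp [Finset.prod_range_succ] at h
  have hq := HermStd.one_lt_q hF
  refine Nat.eq_of_mul_eq_mul_left (show 0 < q + 1 by omega) ?_
  linear_combination h

theorem natCard_SU_three : Nat.card (Cfsg.SU 3 F q) = q ^ 3 * (q ^ 2 - 1) * (q ^ 3 + 1) := by
  have h := natCard_SU_mul hF (n := 3) (by omega)
  rw [natCard_GU hF] at h
  simp [Finset.prod_range_succ, Nat.even_add_one] at h
  have hq := HermStd.one_lt_q hF
  refine Nat.eq_of_mul_eq_mul_left (show 0 < q + 1 by omega) ?_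
  linear_combination h

theorem triv_su_two (hq : Odd q) : Triv.{u, v} 2 (Cfsg.SU 2 F q) := by
  obtain ⟨K, fK, tK, hK⟩ : ∃ (K : Type u) (_ : Field K) (_ : Fintype K), Fintype.card K = q := by
    let := Fintype.ofFinite (fixField hF)
    refine ⟨fixField hF, inferInstance, inferInstance, ?_⟩
    rw [← Nat.card_eq_fintype_card]
    exact natCard_fixField hF
  obtain ⟨φ⟩ := nonempty_SU_two_equiv hF K hK
  refine Triv.congr ?_ φ.symm
  have : Fact (Nat.Prime 2) := ⟨Nat.prime_two⟩
  obtain ⟨P⟩ : Nonempty (Sylow 2 SL(2, K)) := inferInstance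
  obtain ⟨⟨ψ⟩, -⟩ := SylowSL2.sylow_two (F := K) (hK ▸ hq) P
  have : NeZero (2 ^ ((Nat.card SL(2, K)).factorization 2 - 2)) := ⟨pow_ne_zero _ two_ne_zero⟩
  exact Triv.of_sub (P : Subgroup SL(2, K)) P.not_dvd_index fun E _ _ σ h1 h2 h3 =>
    good_of_triv σ h1 h2 h3 ((quaternion_triv _).congr ψ.symm)

local notation "Vec" => (Fin 3 → F)
local notation "G" => Cfsg.SU 3 F q
local notation "H" => Cfsg.hermForm 3 F q

variable (p : ℕ) [Fact p.Prime] [CharP F p] {r : ℕ} [Fact r.Prime]

/-- No eigenvalue one. -/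
theorem no_fixed (hrq : ¬ r ∣ q * (q ^ 2 - 1)) (hrp : r ≠ p) {g : G} {k : ℕ} (hg : g ^ r ^ k = 1) {v : Vec}
    (hv : v ≠ 0) (hgv : mat g *ᵥ v = v) : g = 1 := by
  have hcop : ∀ j : ℕ, ∀ N : ℕ, ¬ r ∣ N → Nat.Coprime (r ^ j) N := fun j N h =>
    Nat.Coprime.pow_left _ ((Fact.out : r.Prime).coprime_iff_not_dvd.2 h)
  by_cases hvv : H v v = 0
  · -- isotropic
    obtain ⟨w, hw, hw'⟩ : ∃ w : Vec, H w w = 1 ∧ H w v = 0 := by
      obtain ⟨u, hu, hu1, -, -⟩ := exists_isotropic_pair hF (n := 3) 0 1 (by decide)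
      have hu0 : u ≠ 0 := fun h => by simp [h] at hu1
      obtain ⟨A, hA⟩ := exists_su_iso hF le_rfl hu0 hv hu hvv
      obtain ⟨z, hz, hz'⟩ : ∃ z : Vec, H z z = 1 ∧ H z u = 0 := by
        obtain ⟨x, hx⟩ : ∃ x : Vec, H x x = 1 ∧ H x u = 0 := by
          obtain ⟨v', hv', -, -, hk⟩ := exists_isotropic_pair hF (n := 3) 0 1 (by decide)
          by_cases h2 : u 2 = 0
          · exact ⟨Pi.single 2 1, by rw [H_single_single hF, if_pos rfl], by
              rw [← H_conj hF, H_single_right hF, h2, zero_pow (q_ne_zero hF)]⟩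
          · obtain ⟨z, hz, hz'⟩ := exists_unit_perp hF (n := 3) ![u] (l := 0) ![] (fun i => i.elim0)
              Fin.elim0 (fun i => i.elim0) (by omega)
            exact ⟨z, hz, hz' 0⟩
        exact ⟨x, hx⟩
      exact ⟨mat A *ᵥ z, by rw [SU_H, hz], by rw [← hA, SU_H, hz']⟩
    -- the orthogonal of `v` is spanned by `v` and `w`
    set L := hlin (n := 3) q v with hL
    have hker : LinearMap.ker L = Submodule.span F {v, w} := by
      have hle : Submodule.span F ({v, w} : Set Vec) ≤ LinearMap.ker L := by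
        rw [Submodule.span_le]
        rintro x (rfl | rfl)
        · exact LinearMap.mem_ker.2 hvv
        · exact LinearMap.mem_ker.2 hw'
      refine (Submodule.eq_of_le_of_finrank_le hle ?_).symm
      have h2 : Module.finrank F (Submodule.span F (Set.range ![v, w])) = 2 := by
        rw [finrank_span_eq_card (LinearIndependent.pair_iff.2 fun s t hst => by
          have := congrArg (fun x => H x w) hst
          simp only [H_add_left, H_smul_left, H_zero_left, hw, (H_eq_zero_comm hF).1 hw', mul_zero, mul_one,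
            zero_add] at this
          rw [this, zero_smul, add_zero] at hst
          exact ⟨(smul_eq_zero.1 hst).resolve_right hv, this⟩), Fintype.card_fin]
      rw [show ({v, w} : Set Vec) = Set.range ![v, w] by simp [Set.pair_comm], h2]
      have h3 := LinearMap.finrank_range_add_finrank_ker L
      have h4 : LinearMap.range L ≠ ⊥ := by
        intro h5
        obtain ⟨u, hu⟩ := exists_H_eq_one hF hv
        have h6 : L u ∈ LinearMap.range L := LinearMap.mem_range_self L u
        rw [h5, Submodule.mem_bot, hL, hlin_apply, ← H_conj hF v u, hu, one_pow] at h6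
        exact one_ne_zero h6
      have h5 : 1 ≤ Module.finrank F (LinearMap.range L) := Submodule.one_le_finrank_iff.2 h4
      rw [Module.finrank_pi, Fintype.card_fin] at h3
      omega
    have hmem : mat g *ᵥ w ∈ Submodule.span F ({v, w} : Set Vec) := by
      rw [← hker]
      refine LinearMap.mem_ker.2 ?_
      show H (mat g *ᵥ w) v = 0
      conv_lhs => arg 5; rw [← hgv]
      rw [SU_H, hw']
    obtain ⟨t, l, hl⟩ := Submodule.mem_span_pair.1 hmem
    have hl1 : l ^ (q + 1) = 1 := by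
      have h1 := SU_H g w w
      rw [← hl, hw] at h1
      simp only [H_add_left, H_add_right hF, H_smul_left, H_smul_right, hw, hw', hvv,
        (H_eq_zero_comm hF).1 hw'] at h1
      rw [pow_succ]
      linear_combination h1
    have hiter : ∀ j : ℕ, ∃ s : F, mat (g ^ j) *ᵥ w = s • v + l ^ j • w := by
      intro j
      induction j with
      | zero => exact ⟨0, by rw [pow_zero, mat_one, one_mulVec, pow_zero, zero_smul, one_smul, zero_add]⟩
      | succ j ih =>
        obtain ⟨s, hs⟩ := ih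
        refine ⟨s + l ^ j * t, ?_⟩
        rw [pow_succ', mul_mulVec, hs, Matrix.mulVec_add, Matrix.mulVec_smul, Matrix.mulVec_smul, hgv, ← hl]
        module
    obtain ⟨s, hs⟩ := hiter (r ^ k)
    rw [hg, mat_one, one_mulVec] at hs
    have hlk : l ^ r ^ k = 1 := by
      have := congrArg (fun x => H x w) hs
      simpa [H_add_left, H_smul_left, hw, (H_eq_zero_comm hF).1 hw'] using this.symm
    have hl0 : l = 1 := by
      have h1 : ¬ r ∣ q + 1 := fun hd => hrq (hd.trans (Dvd.dvd.mul_left (by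
        rw [show q ^ 2 - 1 = (q + 1) * (q - 1) by rw [← Nat.sq_sub_sq, one_pow]]
        exact dvd_mul_right _ _) q))
      exact orderOf_eq_one_iff.1 (Nat.eq_one_of_dvd_coprimes (hcop k (q + 1) h1)
        (orderOf_dvd_of_pow_eq_one hlk) (orderOf_dvd_of_pow_eq_one hl1))
    have hgr : g ∈ Unip.radical q v := by
      refine ⟨hgv, fun x hx => ?_⟩
      have : x ∈ Submodule.span F ({v, w} : Set Vec) := hker ▸ LinearMap.mem_ker.2 hx
      obtain ⟨a, b, rfl⟩ := Submodule.mem_span_pair.1 this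
      refine ⟨b * t, ?_⟩
      rw [Matrix.mulVec_add, Matrix.mulVec_smul, Matrix.mulVec_smul, hgv, ← hl, hl0]
      module
    have h2 := Unip.radical_pow hF p hgr
    exact orderOf_eq_one_iff.1 (Nat.eq_one_of_dvd_coprimes
      (hcop k (p ^ 2) fun hd => hrp ((Nat.prime_dvd_prime_iff_eq Fact.out Fact.out).1
        ((Fact.out : r.Prime).dvd_of_dvd_pow hd))) (orderOf_dvd_of_pow_eq_one hg) (orderOf_dvd_of_pow_eq_one h2))
  · -- anisotropic
    obtain ⟨c, hc⟩ := UnitaryCount.exists_norm_eq hF (μ := (H v v)⁻¹) (inv_ne_zero hvv)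
      (by rw [inv_pow, H_conj hF])
    have hu : H (c • v) (c • v) = 1 := by rw [UnitaryCount.hermForm_smul_smul, hc, inv_mul_cancel₀ hvv]
    obtain ⟨φ⟩ := CosetGeom.fix_one_equiv hF (show 3 = 1 + 2 from rfl) hu
    have hmem : g ∈ fix (q := q) ({c • v} : Set Vec) := fun x hx => by
      rw [Set.mem_singleton_iff.1 hx, Matrix.mulVec_smul, hgv]
    have h2 : orderOf g ∣ q * (q ^ 2 - 1) := by
      rw [← natCard_SU_two hF, ← Nat.card_congr φ.toEquiv, ← Subgroup.orderOf_mk g hmem]
      exact orderOf_dvd_natCard _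
    exact orderOf_eq_one_iff.1 (Nat.eq_one_of_dvd_coprimes (hcop k _ hrq) (orderOf_dvd_of_pow_eq_one hg) h2)

omit [Fact r.Prime] in
theorem mul_mat_comm {x y : G} (h : Commute x y) : mat x * mat y = mat y * mat x := by
  rw [← mat_mul, ← mat_mul, h.eq]

/-- Primes prime to `q (q² - 1)`. -/
theorem triv_irred (hrq : ¬ r ∣ q * (q ^ 2 - 1)) (hrp : r ≠ p) : Triv.{u, v} r G := by
  classical
  obtain ⟨P⟩ : Nonempty (Sylow r G) := inferInstance
  by_cases hP : (P : Subgroup G) = ⊥
  · have : IsCyclic (P : Subgroup G) := by rw [hP]; infer_instance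
    exact Triv.of_cyclic _ P.not_dvd_index
  have : Nontrivial (P : Subgroup G) := (Subgroup.nontrivial_iff_ne_bot _).2 hP
  have := P.isPGroup'.center_nontrivial
  obtain ⟨⟨⟨x, hxP⟩, hxc⟩, hx1⟩ := exists_ne (1 : Subgroup.center (P : Subgroup G))
  have hx1' : x ≠ 1 := fun h => hx1 (Subtype.ext (Subtype.ext h))
  obtain ⟨k, hk'⟩ := P.isPGroup' ⟨x, hxP⟩
  have hk : x ^ r ^ k = 1 := congrArg Subtype.val hk'
  -- no invariant line
  have hline : ∀ v : Vec, v ≠ 0 → ∀ l : F, mat x *ᵥ v = l • v → False := by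
    intro v hv l hl
    have hit : ∀ j : ℕ, mat (x ^ j) *ᵥ v = l ^ j • v := by
      intro j
      induction j with
      | zero => rw [pow_zero, mat_one, one_mulVec, pow_zero, one_smul]
      | succ j ih => rw [pow_succ', mul_mulVec, ih, Matrix.mulVec_smul, hl, smul_smul, pow_succ]
    have h1 := hit (r ^ k)
    rw [hk, mat_one, one_mulVec] at h1
    have hlk : l ^ r ^ k = 1 := by
      have h2 : (1 - l ^ r ^ k) • v = 0 := by rw [sub_smul, one_smul, ← h1, sub_self]
      exact (sub_eq_zero.1 ((smul_eq_zero.1 h2).resolve_right hv)).symm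
    have hl0 : l ≠ 0 := fun h => by simp [h, zero_pow (pow_ne_zero k (Fact.out : r.Prime).ne_zero)] at hlk
    have h2 : l ^ (q ^ 2 - 1) = 1 := by rw [← hF]; exact FiniteField.pow_card_sub_one_eq_one l hl0
    have hl1 : l = 1 := orderOf_eq_one_iff.1 (Nat.eq_one_of_dvd_coprimes
      (Nat.Coprime.pow_left k ((Fact.out : r.Prime).coprime_iff_not_dvd.2 fun hd => hrq (hd.mul_left q)))
      (orderOf_dvd_of_pow_eq_one hlk) (orderOf_dvd_of_pow_eq_one h2))
    exact hx1' (no_fixed hF p hrq hrp hk hv (by rw [hl, hl1, one_smul]))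
  let C := Subalgebra.centralizer F ({mat x} : Set (Matrix (Fin 3) (Fin 3) F))
  have hCm : ∀ {A}, A ∈ C → mat x * A = A * mat x := fun {A} hA =>
    Subalgebra.mem_centralizer_iff F |>.1 hA _ rfl
  have hinj : ∀ {A}, A ∈ C → A ≠ 0 → Function.Injective fun v : Vec => A *ᵥ v := by
    intro A hA hA0
    set K := LinearMap.ker A.mulVecLin with hK
    set R := LinearMap.range A.mulVecLin with hR
    have hinv : ∀ W : Submodule F Vec, (∀ w ∈ W, mat x *ᵥ w ∈ W) → Module.finrank F W ≠ 1 := by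
      intro W hW h1
      obtain ⟨⟨w, hw⟩, hw0, hall⟩ := finrank_eq_one_iff'.1 h1
      obtain ⟨l, hl⟩ := hall ⟨_, hW w hw⟩
      exact hline w (fun h => hw0 (Subtype.ext h)) l (congrArg Subtype.val hl).symm
    have hK1 := hinv K fun w hw => by
      rw [hK, LinearMap.mem_ker, Matrix.mulVecLin_apply] at hw ⊢
      rw [Matrix.mulVec_mulVec, ← hCm hA, ← Matrix.mulVec_mulVec, hw, Matrix.mulVec_zero]
    have hR1 := hinv R fun w hw => by
      obtain ⟨u, rfl⟩ := hw
      exact ⟨mat x *ᵥ u, by rw [Matrix.mulVecLin_apply, Matrix.mulVecLin_apply, Matrix.mulVec_mulVec,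
        Matrix.mulVec_mulVec, hCm hA]⟩
    have hsum := LinearMap.finrank_range_add_finrank_ker A.mulVecLin
    rw [← hR, ← hK, Module.finrank_pi, Fintype.card_fin] at hsum
    have hR0 : Module.finrank F R ≠ 0 := fun h => hA0 (by
      rw [Submodule.finrank_eq_zero, hR, LinearMap.range_eq_bot] at h
      exact mat_ext fun v => by rw [← Matrix.mulVecLin_apply, h, Matrix.zero_mulVec]; rfl)
    have hK0 : K = ⊥ := Submodule.finrank_eq_zero.1 (by omega)
    exact LinearMap.ker_eq_bot.1 hK0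
  have : Nontrivial C := inferInstance
  have : NoZeroDivisors C := ⟨fun {a b} hab => by
    by_contra hne
    push Not at hne
    refine hne.2 (Subtype.ext (mat_ext fun v => ?_))
    have h1 : (a.1 * b.1) *ᵥ v = a.1 *ᵥ 0 := by
      rw [show a.1 * b.1 = 0 from congrArg Subtype.val hab, Matrix.zero_mulVec, Matrix.mulVec_zero]
    rw [← Matrix.mulVec_mulVec] at h1
    rw [hinj a.2 (fun h => hne.1 (Subtype.ext h)) h1]
    exact (Matrix.zero_mulVec v).symm⟩
  have : IsDomain C := NoZeroDivisors.to_isDomain C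
  have hfield := Finite.isDomain_to_isField C
  let CR : CommRing C := { (inferInstance : Ring C) with mul_comm := hfield.mul_comm }
  let f : (P : Subgroup G) →* C :=
    { toFun := fun y => ⟨mat y.1, Subalgebra.mem_centralizer_iff F |>.2 fun a ha => by
        rw [Set.mem_singleton_iff.1 ha]
        exact mul_mat_comm hF (congrArg Subtype.val (Subgroup.mem_center_iff.1 hxc y)).symm⟩
      map_one' := Subtype.ext (show mat (1 : G) = 1 from mat_one)
      map_mul' := fun a b => Subtype.ext (mat_mul a.1 b.1) }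
  have hcy : IsCyclic (P : Subgroup G) := by
    refine isCyclic_of_subgroup_isDomain (R := C) f fun a b hab => Subtype.ext (SU_ext fun v => ?_)
    have h := congrArg Subtype.val hab
    exact congrArg (fun M => M *ᵥ v) (show mat a.1 = mat b.1 from h)
  exact Triv.of_cyclic _ P.not_dvd_index

/-- Primes dividing `q - 1`. -/
theorem triv_split (hr2 : r ≠ 2) (hr : r ∣ q - 1) : Triv.{u, v} r G := by
  obtain ⟨e, h, P, he0⟩ := Frame.exists_hyp hF
  have hμ : ∀ c : Fˣ, ∀ _ : Fin 1, ((c : F) ^ (q - 1)) ^ (q + 1) = 1 := by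
    intro c _
    rw [← pow_mul, show (q - 1) * (q + 1) = q ^ 2 - 1 by rw [mul_comm, ← Nat.sq_sub_sq, one_pow], ← hF]
    exact FiniteField.pow_card_sub_one_eq_one _ c.ne_zero
  have hq := HermStd.one_lt_q hF
  have hdet : ∀ c : Fˣ, (c : F) * ((c : F) ^ q)⁻¹ * ∏ _i : Fin 1, (c : F) ^ (q - 1) = 1 := by
    intro c
    have hc : (c : F) ^ q ≠ 0 := pow_ne_zero _ c.ne_zero
    rw [Fin.prod_univ_one]
    field_simp
    rw [← pow_succ', show q - 1 + 1 = q by omega]
  let T : Fˣ →* Cfsg.SU (2 + 1) F q :=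
    { toFun := fun c => Frame.tor hF P (c : F) c.ne_zero _ (hμ c) (hdet c)
      map_one' := SU_ext fun x => by
        rw [← eta x, Frame.tor_mulVec, mat_one, one_mulVec, Units.val_one, one_pow, inv_one, Frame.planeM_one hF P,
          one_mulVec]
        congr 1
        funext i
        simp
      map_mul' := fun a b => by
        rw [Frame.tor_mul]
        refine SU_ext fun x => ?_
        rw [← eta x, Frame.tor_mulVec, Frame.tor_mulVec, Units.val_mul]
        congr 1
        funext i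
        rw [mul_pow] }
  have hT : Function.Injective T := by
    intro a b hab
    have h1 := congrArg (fun g => mat g *ᵥ Fin.append e (0 : Fin 1 → F)) hab
    simp only [T, MonoidHom.coe_mk, OneHom.coe_mk, Frame.tor_mulVec, Frame.planeM_e hF P] at h1
    refine Units.ext (smul_left_injective F he0 (funext fun i => ?_))
    simpa using congrFun h1 (Fin.castAdd 1 i)
  have : IsCyclic T.range := isCyclic_of_surjective T.rangeRestrict T.rangeRestrict_surjective
  refine Triv.of_cyclic T.range ?_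
  have h1 := Subgroup.card_mul_index T.range
  rw [← Nat.card_congr (MonoidHom.ofInjective hT).toEquiv, natCard_units_F hF, natCard_SU_three hF,
    show q ^ 2 - 1 = (q - 1) * (q + 1) by rw [mul_comm, ← Nat.sq_sub_sq, one_pow]] at h1
  have h2 : T.range.index = q ^ 3 * (q ^ 3 + 1) := by
    refine Nat.eq_of_mul_eq_mul_left (show 0 < (q - 1) * (q + 1) from Nat.mul_pos (by omega) (by omega)) ?_
    linear_combination h1
  intro hd
  rw [h2] at hd
  have hq0 : (q : ZMod r) = 1 := by
    have := (ZMod.natCast_eq_zero_iff _ _).2 hr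
    rwa [Nat.cast_sub (by omega), Nat.cast_one, sub_eq_zero] at this
  have := (ZMod.natCast_eq_zero_iff _ _).2 hd
  push_cast at this
  rw [hq0] at this
  norm_num at this
  have h3 : r ∣ 2 := (ZMod.natCast_eq_zero_iff _ _).1 (by exact_mod_cast this)
  exact hr2 ((Nat.prime_dvd_prime_iff_eq Fact.out Nat.prime_two).1 h3)

/-- The prime two. -/
theorem triv_two (hp : p ≠ 2) : Triv.{u, v} 2 G := by
  have : Fact (Nat.Prime 2) := ⟨Nat.prime_two⟩
  have hodd : Odd q := by
    obtain ⟨n, hpp, hn⟩ := FiniteField.card F p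
    rw [hF] at hn
    obtain ⟨j, -, rfl⟩ := (Nat.dvd_prime_pow hpp).1 (hn ▸ dvd_pow_self q two_ne_zero)
    exact (hpp.odd_of_ne_two hp).pow
  refine Point.triv_point hF (m := 2) (triv_su_two hF hodd)
    (Point.coAb_of_ne_char hF p (Ne.symm hp) (by omega) (by omega)) ?_
  intro hd
  have h := Point.natCard_point_index hF (m := 2) (by omega)
  rw [if_pos even_two] at h
  set I := (Point.pointHom (m := 2) hF).range.index
  have hq := HermStd.one_lt_q hF
  obtain ⟨J, hJ⟩ : ∃ J, J + q = q ^ 2 + 1 := ⟨q ^ 2 + 1 - q, Nat.sub_add_cancel (by nlinarith)⟩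
  have hI : I = q ^ 2 * J := by
    refine Nat.eq_of_mul_eq_mul_right (show 0 < q + 1 by omega) ?_
    rw [h]
    zify at hJ ⊢
    linear_combination (-((q : ℤ) ^ 2 * (q + 1))) * hJ
  obtain ⟨t, rfl⟩ := hodd
  rw [hI] at hd
  rcases (Nat.Prime.dvd_mul Nat.prime_two).1 hd with h' | h'
  · have := Nat.prime_two.dvd_of_dvd_pow h'
    omega
  · obtain ⟨s, rfl⟩ := h'
    have : (2 * t + 1) ^ 2 = 2 * (2 * t * t + 2 * t) + 1 := by ring
    omega

/-! ### The monomial group -/

/-- The diagonal element `(a, b, (ab)⁻¹)`. -/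
def dvec (a b : F) : Fin 3 → F := ![a, b, (a * b)⁻¹]

/-- The diagonal matrices. -/
theorem exists_monomial :
    (∃ τ : (powMonoidHom (q + 1) : Fˣ →* Fˣ).ker × (powMonoidHom (q + 1) : Fˣ →* Fˣ).ker →* G,
      Function.Injective τ ∧
      ∀ a, mat (τ a) = Matrix.diagonal (dvec ((a.1 : Fˣ) : F) ((a.2 : Fˣ) : F))) ∧
    ∀ i j : Fin 3, i ≠ j → ∃ s : G, s * s = 1 ∧
      ∀ (v : Vec) (l : Fin 3), (mat s *ᵥ v) l = - v (Equiv.swap i j l) := by
  have hn1 : ∀ a : (powMonoidHom (q + 1) : Fˣ →* Fˣ).ker, ((a : Fˣ) : F) ^ (q + 1) = 1 := fun a => by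
    simpa using congrArg Units.val a.2
  constructor
  · refine ⟨{
      toFun := fun a => suMk (Matrix.diagonal (dvec ((a.1 : Fˣ) : F) ((a.2 : Fˣ) : F)))
        (by
          rw [Matrix.det_diagonal, Fin.prod_univ_three]
          simp [dvec]
          field_simp)
        (diag_preserves hF _ fun i => by
          fin_cases i <;> simp [dvec, inv_pow, mul_pow, hn1])
      map_one' := SU_ext fun x => by
        rw [suMk_mulVec, mat_one, one_mulVec]
        funext i
        fin_cases i <;> simp [dvec, Matrix.mulVec_diagonal]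
      map_mul' := fun a b => SU_ext fun x => by
        rw [suMk_mulVec, mul_mulVec, suMk_mulVec, suMk_mulVec]
        funext i
        fin_cases i <;> simp [dvec, Matrix.mulVec_diagonal] <;> ring }, ?_, fun a => rfl⟩
    intro a b h
    have h1 := congrFun (congrFun (congrArg mat h) 0) 0
    have h2 := congrFun (congrFun (congrArg mat h) 1) 1
    simp [mat, suMk, dvec] at h1 h2
    exact Prod.ext (Subtype.ext (Units.ext h1)) (Subtype.ext (Units.ext h2))
  · intro i j hij
    set M : Matrix (Fin 3) (Fin 3) F := -((Equiv.swap i j).permMatrix F) with hM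
    have hMv : ∀ (v : Vec) (l : Fin 3), (M *ᵥ v) l = - v (Equiv.swap i j l) := fun v l => by
      rw [hM, Matrix.neg_mulVec, Matrix.permMatrix_mulVec]
      rfl
    refine ⟨suMk M ?_ ?_, SU_ext fun v => funext fun l => ?_, fun v l => hMv v l⟩
    · rw [hM, Matrix.det_neg, Matrix.det_permutation, Equiv.Perm.sign_swap hij]
      norm_num
    · intro u v
      unfold Cfsg.hermForm
      rw [← Equiv.sum_comp (Equiv.swap i j) (fun l => u l * v l ^ q)]
      refine Finset.sum_congr rfl fun l _ => ?_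
      rw [hMv, hMv, ← HermStd.qHom_apply hF, map_neg, HermStd.qHom_apply, neg_mul_neg]
    · rw [mul_mulVec, suMk_mulVec, suMk_mulVec, hMv, hMv, neg_neg, Equiv.swap_apply_self, mat_one, one_mulVec]

/-- Primes dividing `q + 1`, other than two. -/
theorem triv_monomial (hr2 : r ≠ 2) (hr : r ∣ q + 1) : Triv.{u, v} r G := by
  classical
  obtain ⟨⟨τ, hτi, hτ⟩, hswap⟩ := exists_monomial hF
  have hτv : ∀ a (v : Vec) (l : Fin 3), (mat (τ a) *ᵥ v) l = dvec ((a.1 : Fˣ) : F) ((a.2 : Fˣ) : F) l * v l :=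
    fun a v l => by rw [hτ, Matrix.mulVec_diagonal]
  obtain ⟨s01, hs01, hs01v⟩ := hswap 0 1 (by decide)
  obtain ⟨s02, hs02, hs02v⟩ := hswap 0 2 (by decide)
  obtain ⟨s12, hs12, hs12v⟩ := hswap 1 2 (by decide)
  obtain ⟨π, hπ⟩ : ∃ π, π = s01 * s12 := ⟨_, rfl⟩
  have hπv : ∀ (v : Vec) (l : Fin 3), (mat π *ᵥ v) l = v (Equiv.swap 1 2 (Equiv.swap 0 1 l)) := fun v l => by
    rw [hπ, mul_mulVec, hs01v, hs12v, neg_neg]
  have hπ3 : π ^ 3 = 1 := by
    refine SU_ext fun v => funext fun l => ?_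
    rw [pow_succ, pow_two, mul_mulVec, mul_mulVec, hπv, hπv, hπv, mat_one, one_mulVec]
    congr 1
    fin_cases l <;> rfl
  set T := τ.range with hT
  have hq := HermStd.one_lt_q hF
  -- index of the diagonal group
  obtain ⟨J, hJ⟩ : ∃ J, J + q = q ^ 2 + 1 := ⟨q ^ 2 + 1 - q, Nat.sub_add_cancel (by nlinarith)⟩
  have hTi : T.index = q ^ 3 * (q - 1) * J := by
    have h1 := Subgroup.card_mul_index T
    rw [hT, ← Nat.card_congr (MonoidHom.ofInjective hτi).toEquiv, Nat.card_prod, natCard_normOne hF,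
      natCard_SU_three hF, show q ^ 2 - 1 = (q - 1) * (q + 1) by rw [mul_comm, ← Nat.sq_sub_sq, one_pow]] at h1
    refine Nat.eq_of_mul_eq_mul_left (show 0 < (q + 1) * (q + 1) by positivity) ?_
    rw [hT, h1]
    zify [show 1 ≤ q by omega] at hJ ⊢
    linear_combination (-((q : ℤ) ^ 3 * ((q : ℤ) - 1) * ((q : ℤ) + 1) ^ 2)) * hJ
  have hrq : ¬ r ∣ q := fun h => by
    have := Nat.dvd_sub hr h
    rw [Nat.add_sub_cancel_left, Nat.dvd_one] at this
    exact (Fact.out : r.Prime).one_lt.ne' this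
  have hrq1 : ¬ r ∣ q - 1 := fun h => by
    have := Nat.dvd_sub hr h
    rw [show q + 1 - (q - 1) = 2 by omega] at this
    exact hr2 ((Nat.prime_dvd_prime_iff_eq Fact.out Nat.prime_two).1 this)
  have hJ3 : (r ∣ J → r = 3) ∧ (r = 3 → ¬ 9 ∣ J) := by
    obtain ⟨k, hk⟩ := hr
    constructor
    · intro hd
      have h3 : r ∣ 3 := by
        have : (J : ℤ) - 3 = (r : ℤ) * k * ((r : ℤ) * k - 3) := by
          have e1 : (q : ℤ) + 1 = r * k := by exact_mod_cast hk
          have e2 : (J : ℤ) + q = q ^ 2 + 1 := by exact_mod_cast hJ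
          rw [← e1]
          linear_combination e2
        have h4 : (r : ℤ) ∣ 3 := by
          have h5 : (r : ℤ) ∣ (J : ℤ) - 3 := this ▸ (dvd_mul_right (r : ℤ) k).mul_right _
          have h6 := dvd_sub (Int.natCast_dvd_natCast.2 hd) h5
          simpa using h6
        exact_mod_cast h4
      exact (Nat.prime_dvd_prime_iff_eq Fact.out Nat.prime_three).1 h3
    · rintro rfl ⟨j, rfl⟩
      have e1 : (q : ℤ) + 1 = 3 * k := by exact_mod_cast hk
      have e2 : (9 : ℤ) * j + q = q ^ 2 + 1 := by exact_mod_cast hJ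
      have : (3 : ℤ) = 9 * (j - k * k + k) := by
        have : (q : ℤ) = 3 * k - 1 := by linarith
        rw [this] at e2
        linear_combination -e2
      omega
  refine Triv.of_sub (T ⊔ Subgroup.zpowers π) ?_ fun E _ _ σ hsurj hcen hker => ?_
  · intro hd
    have hle : T ≤ T ⊔ Subgroup.zpowers π := le_sup_left
    have h1 : r ∣ T.index := hd.trans (Subgroup.index_dvd_of_le hle)
    rw [hTi] at h1
    have h2 : r ∣ J := (((Fact.out : r.Prime).dvd_mul).1 h1).resolve_left fun h =>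
      (((Fact.out : r.Prime).dvd_mul).1 h).elim (fun h' => hrq ((Fact.out : r.Prime).dvd_of_dvd_pow h')) hrq1
    have hr3 := hJ3.1 h2
    subst hr3
    -- the relative index is divisible by three
    have h3 : 3 ∣ T.relIndex (T ⊔ Subgroup.zpowers π) := by
      refine three_dvd_relIndex T hπ3 ?_ ?_
      · rintro ⟨a, ha⟩
        have h7 := hτv a (Pi.single 2 1) 0
        rw [ha, hπv] at h7
        simp [dvec, Equiv.swap_apply_def] at h7
      · rintro _ ⟨a, rfl⟩
        refine ⟨⟨(a.1 * a.2)⁻¹, a.1⟩, ?_⟩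
        rw [eq_mul_inv_iff_mul_eq]
        refine SU_ext fun v => funext fun l => ?_
        rw [mul_mulVec, mul_mulVec, hτv, hπv, hπv, hτv]
        fin_cases l <;> simp [dvec, Equiv.swap_apply_def] <;> first | ring | (field_simp; ring)
    have h8 : 3 * 3 ∣ T.index := by
      rw [← Subgroup.relIndex_mul_index hle]
      exact mul_dvd_mul h3 hd
    rw [hTi] at h8
    refine hJ3.2 rfl ?_
    refine (Nat.Coprime.dvd_of_dvd_mul_left ?_ h8)
    exact Nat.Coprime.mul_right
      (Nat.Coprime.pow_right 3 (Nat.Coprime.mul_left (Nat.prime_three.coprime_iff_not_dvd.2 hrq)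
        (Nat.prime_three.coprime_iff_not_dvd.2 hrq)))
      (Nat.Coprime.mul_left (Nat.prime_three.coprime_iff_not_dvd.2 hrq1)
        (Nat.prime_three.coprime_iff_not_dvd.2 hrq1))
  -- the preimage
  intro z hz hzd
  have hkc : ∀ {k : E}, k ∈ σ.ker → ∀ x, Commute x k := fun hk x => Subgroup.mem_center_iff.1 (hcen hk) x
  have hodd : ∀ {k : E}, k ∈ σ.ker → k * k = 1 → k = 1 := fun {k} hk h2 => by
    obtain ⟨j, hj⟩ := hker ⟨k, hk⟩
    exact orderOf_eq_one_iff.1 (Nat.eq_one_of_dvd_coprimes (k := orderOf k)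
      (Nat.Coprime.pow_left j ((Nat.coprime_primes Fact.out Nat.prime_two).2 hr2))
      (orderOf_dvd_of_pow_eq_one (congrArg Subtype.val hj)) (orderOf_dvd_of_pow_eq_one (by rw [sq, h2])))
  obtain ⟨ζ, hζ⟩ := IsCyclic.exists_generator (α := (powMonoidHom (q + 1) : Fˣ →* Fˣ).ker)
  obtain ⟨x, hx⟩ := hsurj (τ (ζ, 1))
  obtain ⟨y, hy⟩ := hsurj (τ (1, ζ))
  obtain ⟨w, hw⟩ := hsurj s02
  have hTab : ∀ a b, Commute (τ a) (τ b) := fun a b => (Commute.all a b).map τ
  have hxy : Commute x y := by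
    have hk : ⁅x, y⁆ ∈ σ.ker := by
      rw [MonoidHom.mem_ker, map_commutatorElement, hx, hy, commutatorElement_eq_one_iff_commute]
      exact hTab _ _
    rw [← commutatorElement_eq_one_iff_commute]
    refine hodd hk ?_
    have e1 : σ (w * x * w⁻¹) = σ x⁻¹ := by
      rw [map_mul, map_mul, map_inv, map_inv, hw, hx, ← map_inv, mul_inv_eq_iff_eq_mul]
      refine SU_ext fun v => funext fun l => ?_
      rw [mul_mulVec, mul_mulVec, hs02v, hτv, hτv, hs02v]
      fin_cases l <;> simp [dvec, Equiv.swap_apply_def]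
    have e2 : σ (w * y * w⁻¹) = σ (x⁻¹ * y) := by
      rw [map_mul, map_mul, map_inv, map_mul, map_inv, hw, hx, hy, ← map_inv, ← map_mul, mul_inv_eq_iff_eq_mul]
      refine SU_ext fun v => funext fun l => ?_
      rw [mul_mulVec, mul_mulVec, hs02v, hτv, hτv, hs02v]
      fin_cases l <;> simp [dvec, Equiv.swap_apply_def]
    have h1 : ⁅w * x * w⁻¹, w * y * w⁻¹⁆ = ⁅x, y⁆ := by
      have : ⁅w * x * w⁻¹, w * y * w⁻¹⁆ = w * ⁅x, y⁆ * w⁻¹ := by simp only [commutatorElement_def]; group
      rw [this, (hkc hk w).eq, mul_inv_cancel_right]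
    rw [SpMult.Lifts.bracket_congr hcen e1 e2] at h1
    have h2 : ⁅x⁻¹, x⁻¹ * y⁆ = x⁻¹ * (x⁻¹ * ⁅x, y⁆⁻¹) * x * x := by simp only [commutatorElement_def]; group
    rw [h2, ← mul_assoc, ((hkc hk (x⁻¹ * x⁻¹)).inv_right).eq, mul_assoc, mul_assoc,
      show x⁻¹ * x⁻¹ * (x * x) = 1 by group, mul_one] at h1
    exact inv_eq_iff_mul_eq_one.1 h1
  set Tt := T.comap σ with hTt
  have hgen : Tt ≤ Subgroup.closure ({x, y} ∪ (σ.ker : Set E)) := by
    intro t ht
    obtain ⟨⟨a, b⟩, hab⟩ : σ t ∈ T := ht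
    obtain ⟨i, hi⟩ := Subgroup.mem_zpowers_iff.1 (hζ a)
    obtain ⟨j, hj⟩ := Subgroup.mem_zpowers_iff.1 (hζ b)
    have hker' : (x ^ i * y ^ j)⁻¹ * t ∈ σ.ker := by
      rw [MonoidHom.mem_ker, map_mul, map_inv, map_mul, map_zpow, map_zpow, hx, hy, ← map_zpow, ← map_zpow,
        ← map_mul, ← hab, inv_mul_eq_one]
      congr 1
      simp [Prod.ext_iff, hi, hj]
    rw [← mul_inv_cancel_left (x ^ i * y ^ j) t]
    have hxm : x ∈ Subgroup.closure ({x, y} ∪ (σ.ker : Set E)) := Subgroup.subset_closure (Or.inl (Or.inl rfl))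
    have hym : y ∈ Subgroup.closure ({x, y} ∪ (σ.ker : Set E)) := Subgroup.subset_closure (Or.inl (Or.inr rfl))
    exact mul_mem (mul_mem (zpow_mem hxm i) (zpow_mem hym j)) (Subgroup.subset_closure (Or.inr hker'))
  have hTc : ∀ t ∈ Tt, ∀ t' ∈ Tt, Commute t t' := by
    have hcom := Subgroup.isMulCommutative_closure (k := ({x, y} ∪ (σ.ker : Set E))) (by
      rintro a (ha | ha) b (hb | hb)
      · rcases ha with rfl | rfl <;> rcases hb with rfl | rfl
        exacts [rfl, hxy.eq, hxy.symm.eq, rfl]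
      · exact (hkc hb a).eq
      · exact (hkc ha b).symm.eq
      · exact (hkc hb a).eq)
    intro t ht t' ht'
    exact congrArg Subtype.val (hcom.is_comm.comm ⟨t, hgen ht⟩ ⟨t', hgen ht'⟩)
  obtain ⟨π', hπ'⟩ := hsurj π
  have hπT : ∀ a, π * τ a * π⁻¹ ∈ T := by
    intro a
    refine ⟨⟨(a.1 * a.2)⁻¹, a.1⟩, ?_⟩
    rw [eq_mul_inv_iff_mul_eq]
    refine SU_ext fun v => funext fun l => ?_
    rw [mul_mulVec, mul_mulVec, hτv, hπv, hπv, hτv]
    fin_cases l <;> simp [dvec, Equiv.swap_apply_def] <;> first | ring | (field_simp; ring)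
  have hconjT : ∀ t ∈ Tt, π' * t * π'⁻¹ ∈ Tt := by
    intro t ht
    obtain ⟨a, ha⟩ : σ t ∈ T := ht
    show σ (π' * t * π'⁻¹) ∈ T
    rw [map_mul, map_mul, map_inv, hπ', ← ha]
    exact hπT a
  have hD1 : ∀ t ∈ Tt, ⁅π', t⁆ ∈ Tt := fun t ht => by
    rw [commutatorElement_def]
    exact mul_mem (hconjT t ht) (inv_mem ht)
  -- the derived group
  let D : Subgroup E :=
    { carrier := {g | ∃ t ∈ Tt, g = ⁅π', t⁆}
      one_mem' := ⟨1, one_mem _, (commutatorElement_one_right π').symm⟩
      mul_mem' := by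
        rintro _ _ ⟨t, ht, rfl⟩ ⟨t', ht', rfl⟩
        refine ⟨t * t', mul_mem ht ht', ?_⟩
        have h1 := hTc t ht _ (hD1 t' ht')
        calc ⁅π', t⁆ * ⁅π', t'⁆ = ⁅π', t⁆ * (t * ⁅π', t'⁆ * t⁻¹) := by rw [h1.eq, mul_inv_cancel_right]
          _ = _ := by simp only [commutatorElement_def]; group
      inv_mem' := by
        rintro _ ⟨t, ht, rfl⟩
        refine ⟨t⁻¹, inv_mem ht, ?_⟩
        have h1 := hTc t ht _ (inv_mem (hD1 t ht))
        calc ⁅π', t⁆⁻¹ = t⁻¹ * ⁅π', t⁆⁻¹ * t := by rw [mul_assoc, ← h1.eq, inv_mul_cancel_left]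
          _ = _ := by simp only [commutatorElement_def]; group }
  have hDT : D ≤ Tt := by rintro _ ⟨t, ht, rfl⟩; exact hD1 t ht
  set M : Subgroup E := (T ⊔ Subgroup.zpowers π).comap σ with hM
  have hMgen : M = Subgroup.closure ((Tt : Set E) ∪ {π'}) := by
    refine le_antisymm ?_ ?_
    · have h1 : (Subgroup.closure ((Tt : Set E) ∪ {π'})).map σ = T ⊔ Subgroup.zpowers π := by
        rw [MonoidHom.map_closure, Set.image_union, Set.image_singleton, hπ', Subgroup.closure_union,
          ← Subgroup.coe_map, Subgroup.closure_eq, hTt, Subgroup.map_comap_eq_self_of_surjective hsurj,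
          Subgroup.zpowers_eq_closure]
      rw [hM, ← h1, Subgroup.comap_map_eq]
      exact sup_le le_rfl fun k hk => Subgroup.subset_closure (Or.inl (show σ k ∈ T by
        rw [MonoidHom.mem_ker.1 hk]; exact one_mem T))
    · rw [Subgroup.closure_le]
      rintro g (hg | hg)
      · exact show σ g ∈ T ⊔ Subgroup.zpowers π from Subgroup.mem_sup_left hg
      · show σ g ∈ T ⊔ Subgroup.zpowers π
        rw [show g = π' from hg, hπ']
        exact Subgroup.mem_sup_right (Subgroup.mem_zpowers π)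
  have hMn : M ≤ Subgroup.normalizer (D : Set E) := by
    rw [hMgen, Subgroup.closure_le]
    rintro g (hg | hg)
    · rw [SetLike.mem_coe, Subgroup.mem_normalizer_iff]
      intro d
      constructor
      · intro hd
        rwa [(hTc g hg d (hDT hd)).eq, mul_inv_cancel_right]
      · intro hd
        have h1 : d ∈ Tt := by
          have := mul_mem (mul_mem (inv_mem hg) (hDT hd)) hg
          rwa [show g⁻¹ * (g * d * g⁻¹) * g = d by group] at this
        rwa [(hTc g hg d h1).eq, mul_inv_cancel_right] at hd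
    · rw [show g = π' from hg, SetLike.mem_coe, Subgroup.mem_normalizer_iff]
      intro d
      constructor
      · rintro ⟨t, ht, rfl⟩
        exact ⟨_, hconjT t ht, by simp only [commutatorElement_def]; group⟩
      · rintro ⟨t, ht, he⟩
        have h3 : π' ^ 3 ∈ σ.ker := by rw [MonoidHom.mem_ker, map_pow, hπ', hπ3]
        refine ⟨π' * (π' * t * π'⁻¹) * π'⁻¹, hconjT _ (hconjT t ht), ?_⟩
        calc d = π' ^ 3 * d * (π' ^ 3)⁻¹ := by rw [← (hkc h3 d).eq, mul_inv_cancel_right]
          _ = π' * (π' * (π' * d * π'⁻¹) * π'⁻¹) * π'⁻¹ := by rw [pow_succ, pow_two]; group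
          _ = _ := by rw [he]; simp only [commutatorElement_def]; group
  have hzD : z ∈ D := by
    have hz1 : (⁅M, M⁆ : Subgroup E) ≤ D := by
      have hDM : D ≤ M := hDT.trans fun g hg => show σ g ∈ T ⊔ Subgroup.zpowers π from Subgroup.mem_sup_left hg
      have hn : (D.subgroupOf M).Normal := (Subgroup.normal_subgroupOf_iff_le_normalizer hDM).2 hMn
      rw [Subgroup.commutator_le]
      intro a ha b hb
      let qh : M →* M ⧸ D.subgroupOf M := QuotientGroup.mk' _
      have hc : ∀ g h : M, g.1 ∈ (Tt : Set E) ∪ {π'} → h.1 ∈ (Tt : Set E) ∪ {π'} → Commute (qh g) (qh h) := by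
        intro g h hg hh
        rw [← commutatorElement_eq_one_iff_commute, ← map_commutatorElement, QuotientGroup.mk'_apply,
          QuotientGroup.eq_one_iff, Subgroup.mem_subgroupOf]
        show ⁅g.1, h.1⁆ ∈ D
        rcases hg with hg | hg <;> rcases hh with hh | hh
        · rw [commutatorElement_eq_one_iff_commute.2 (hTc _ hg _ hh)]; exact one_mem D
        · rw [Set.mem_singleton_iff.1 hh, ← commutatorElement_inv]
          exact inv_mem ⟨_, hg, rfl⟩
        · rw [Set.mem_singleton_iff.1 hg]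
          exact ⟨_, hh, rfl⟩
        · rw [Set.mem_singleton_iff.1 hg, Set.mem_singleton_iff.1 hh, commutatorElement_self]; exact one_mem D
      have hsub : (Tt : Set E) ∪ {π'} ⊆ M := by rw [hMgen]; exact Subgroup.subset_closure
      have key : ∀ g : M, ∀ h : M, h.1 ∈ (Tt : Set E) ∪ {π'} → Commute (qh g) (qh h) := by
        intro g h hh
        obtain ⟨g, hg⟩ := g
        have hg' : g ∈ Subgroup.closure ((Tt : Set E) ∪ {π'}) := hMgen ▸ hg
        revert hg
        induction hg' using Subgroup.closure_induction with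
        | mem u hu => intro hg; exact hc _ _ hu hh
        | one => intro hg; exact (map_one qh).symm ▸ Commute.one_left _
        | mul u u' hu hu' ihu ihu' =>
          intro hg
          rw [← hMgen] at hu hu'
          rw [show (⟨u * u', hg⟩ : M) = ⟨u, hu⟩ * ⟨u', hu'⟩ from rfl, map_mul]
          exact (ihu hu).mul_left (ihu' hu')
        | inv u hu ihu =>
          intro hg
          rw [← hMgen] at hu
          rw [show (⟨u⁻¹, hg⟩ : M) = ⟨u, hu⟩⁻¹ from rfl, map_inv]
          exact (ihu hu).inv_left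
      have key2 : ∀ g h : M, Commute (qh g) (qh h) := by
        intro g h
        obtain ⟨h, hh⟩ := h
        have hh' : h ∈ Subgroup.closure ((Tt : Set E) ∪ {π'}) := hMgen ▸ hh
        revert hh
        induction hh' using Subgroup.closure_induction with
        | mem u hu => intro hh; exact key g _ hu
        | one => intro hh; exact (map_one qh).symm ▸ Commute.one_right _
        | mul u u' hu hu' ihu ihu' =>
          intro hg
          rw [← hMgen] at hu hu'
          rw [show (⟨u * u', hg⟩ : M) = ⟨u, hu⟩ * ⟨u', hu'⟩ from rfl, map_mul]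
          exact (ihu hu).mul_right (ihu' hu')
        | inv u hu ihu =>
          intro hg
          rw [← hMgen] at hu
          rw [show (⟨u⁻¹, hg⟩ : M) = ⟨u, hu⟩⁻¹ from rfl, map_inv]
          exact (ihu hu).inv_right
      have h1 : qh ⁅(⟨a, ha⟩ : M), ⟨b, hb⟩⁆ = 1 := by
        rw [map_commutatorElement, commutatorElement_eq_one_iff_commute]
        exact key2 _ _
      rw [QuotientGroup.mk'_apply, QuotientGroup.eq_one_iff] at h1
      exact h1
    exact hz1 hzd
  obtain ⟨t, ht, rfl⟩ := hzD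
  -- a central diagonal element commutes with the cycle
  have hcomm : Commute (σ π') (σ t) := by
    rw [← commutatorElement_eq_one_iff_commute, ← map_commutatorElement]
    exact hz
  obtain ⟨a, ha⟩ : σ t ∈ T := ht
  rw [hπ', ← ha] at hcomm
  have hdv : dvec ((a.1 : Fˣ) : F) ((a.2 : Fˣ) : F) = fun _ => ((a.1 : Fˣ) : F) := by
    have h1 : ∀ l, dvec ((a.1 : Fˣ) : F) ((a.2 : Fˣ) : F) (Equiv.swap 1 2 (Equiv.swap 0 1 l)) =
        dvec ((a.1 : Fˣ) : F) ((a.2 : Fˣ) : F) l := fun l => by
      have h := congrFun (congrArg (fun g => mat g *ᵥ fun _ => (1 : F)) hcomm.eq) l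
      simpa [mul_mulVec, hτv, hπv] using h
    have a0 := h1 0
    have a1 := h1 1
    simp [Equiv.swap_apply_def] at a0 a1
    funext l
    fin_cases l
    · rfl
    · simp [dvec] at a0 a1 ⊢
      exact a1.symm
    · simp [dvec] at a0 a1 ⊢
      exact a0
  have hscalar : ∀ g : G, Commute (σ t) g := fun g => SU_ext fun v => by
    rw [← ha, mul_mulVec, mul_mulVec, hτ, hdv, ← Matrix.smul_one_eq_diagonal, Matrix.smul_mulVec,
      Matrix.smul_mulVec, one_mulVec, one_mulVec, Matrix.mulVec_smul]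
  have hχ : ∀ {g : E}, σ g * σ g = 1 → Commute g t := by
    intro g hg
    have hk : ⁅g, t⁆ ∈ σ.ker := by
      rw [MonoidHom.mem_ker, map_commutatorElement, commutatorElement_eq_one_iff_commute]
      exact (hscalar _).symm
    rw [← commutatorElement_eq_one_iff_commute]
    refine hodd hk ?_
    have h2 : g * g ∈ σ.ker := by rw [MonoidHom.mem_ker, map_mul, hg]
    calc ⁅g, t⁆ * ⁅g, t⁆ = g * ⁅g, t⁆ * g⁻¹ * ⁅g, t⁆ := by rw [(hkc hk g).eq, mul_inv_cancel_right]
      _ = ⁅g * g, t⁆ := by simp only [commutatorElement_def]; group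
      _ = 1 := commutatorElement_eq_one_iff_commute.2 (hkc h2 t).symm
  obtain ⟨g1, hg1⟩ := hsurj s01
  obtain ⟨g2, hg2⟩ := hsurj s12
  rw [SpMult.Lifts.bracket_congr hcen (show σ π' = σ (g1 * g2) by rw [hπ', map_mul, hg1, hg2, hπ]) rfl,
    commutatorElement_eq_one_iff_commute]
  exact (hχ (by rw [hg1, hs01])).mul_left (hχ (by rw [hg2, hs12]))

/-- The base case. -/
theorem triv_three (hrp : r ≠ p) : Triv.{u, v} r G := by
  by_cases hr2 : r = 2
  · subst hr2
    exact triv_two hF p (Ne.symm hrp)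
  by_cases h1 : r ∣ q - 1
  · exact triv_split hF hr2 h1
  by_cases h2 : r ∣ q + 1
  · exact triv_monomial hF hr2 h2
  refine triv_irred hF p (fun hd => ?_) hrp
  rw [show q ^ 2 - 1 = (q - 1) * (q + 1) by rw [mul_comm, ← Nat.sq_sub_sq, one_pow]] at hd
  rcases ((Fact.out : r.Prime).dvd_mul).1 hd with h | h
  · obtain ⟨n, hpp, hn⟩ := FiniteField.card F p
    rw [hF] at hn
    obtain ⟨j, -, rfl⟩ := (Nat.dvd_prime_pow hpp).1 (hn ▸ dvd_pow_self q two_ne_zero)
    exact hrp ((Nat.prime_dvd_prime_iff_eq Fact.out Fact.out).1 ((Fact.out : r.Prime).dvd_of_dvd_pow h))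
  · exact (((Fact.out : r.Prime).dvd_mul).1 h).elim h1 h2

omit p [Fact r.Prime] [Fact p.Prime] [CharP F p] in
/-- The abelianisation of `SU₃(2)` has order prime to three. -/
theorem coAb_three_two (hq : q = 2) : CoAb 3 G := by
  classical
  obtain ⟨⟨τ, hτi, hτ⟩, hswap⟩ := exists_monomial hF
  have hτv : ∀ a (v : Vec) (l : Fin 3), (mat (τ a) *ᵥ v) l = dvec ((a.1 : Fˣ) : F) ((a.2 : Fˣ) : F) l * v l :=
    fun a v l => by rw [hτ, Matrix.mulVec_diagonal]
  obtain ⟨s01, hs01, hs01v⟩ := hswap 0 1 (by decide)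
  obtain ⟨s02, hs02, hs02v⟩ := hswap 0 2 (by decide)
  obtain ⟨s12, hs12, hs12v⟩ := hswap 1 2 (by decide)
  have hcard : Nat.card (powMonoidHom (q + 1) : Fˣ →* Fˣ).ker = 3 := by rw [natCard_normOne hF, hq]
  have hcube : ∀ a : (powMonoidHom (q + 1) : Fˣ →* Fˣ).ker, a ^ 3 = 1 := fun a => hcard ▸ pow_card_eq_one'
  set D := commutator G with hD
  have hcm : ∀ g h : G, g * h * g⁻¹ * h⁻¹ ∈ D := fun g h => by
    rw [hD, _root_.commutator_def]
    exact Subgroup.commutator_mem_commutator (Subgroup.mem_top g) (Subgroup.mem_top h)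
  have hinv01 : s01⁻¹ = s01 := inv_eq_of_mul_eq_one_right hs01
  have hinv12 : s12⁻¹ = s12 := inv_eq_of_mul_eq_one_right hs12
  have h1 : ∀ b, τ (b, b⁻¹) ∈ D := by
    intro b
    have := hcm s01 (τ (b, b⁻¹))
    rw [hinv01, ← map_inv] at this
    convert this using 1
    refine SU_ext fun v => funext fun l => ?_
    have hb : ((b : Fˣ) : F) ^ 3 = 1 := by
      have := congrArg (fun x : (powMonoidHom (q + 1) : Fˣ →* Fˣ).ker => ((x : Fˣ) : F)) (hcube b)
      simpa using this
    have hb0 : ((b : Fˣ) : F) ≠ 0 := (b : Fˣ).ne_zero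
    rw [mul_mulVec, mul_mulVec, mul_mulVec, hτv, hs01v, hτv, hs01v, hτv]
    fin_cases l <;> simp [dvec, Equiv.swap_apply_def] <;> field_simp <;>
      first
        | linear_combination (v 0) * hb
        | linear_combination -(v 0) * hb
        | linear_combination (v 1) * hb
        | linear_combination -(v 1) * hb
        | ring
  have h2 : ∀ b, τ (1, b) ∈ D := by
    intro b
    have := hcm s12 (τ (1, b))
    rw [hinv12, ← map_inv] at this
    convert this using 1
    refine SU_ext fun v => funext fun l => ?_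
    have hb : ((b : Fˣ) : F) ^ 3 = 1 := by
      have := congrArg (fun x : (powMonoidHom (q + 1) : Fˣ →* Fˣ).ker => ((x : Fˣ) : F)) (hcube b)
      simpa using this
    have hb0 : ((b : Fˣ) : F) ≠ 0 := (b : Fˣ).ne_zero
    rw [mul_mulVec, mul_mulVec, mul_mulVec, hτv, hs12v, hτv, hs12v, hτv]
    fin_cases l <;> simp [dvec, Equiv.swap_apply_def] <;> field_simp <;>
      first
        | linear_combination (v 1) * hb
        | linear_combination -(v 1) * hb
        | linear_combination (v 2) * hb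
        | linear_combination -(v 2) * hb
        | ring
  have hπ : s01 * s12 ∈ D := by
    have e : s01 * s12 = s01 * (s02 * s01 * s02⁻¹) := by
      congr 1
      rw [eq_mul_inv_iff_mul_eq]
      refine SU_ext fun v => funext fun l => ?_
      rw [mul_mulVec, mul_mulVec, hs12v, hs02v, hs02v, hs01v]
      fin_cases l <;> simp [Equiv.swap_apply_def]
    rw [e]
    have := hcm s01 s02
    rw [hinv01] at this
    rw [show s01 * (s02 * s01 * s02⁻¹) = s01 * s02 * s01 * s02⁻¹ by group]
    exact this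
  set T := τ.range with hT
  have hTD : T ≤ D := by
    rintro _ ⟨⟨a, b⟩, rfl⟩
    have : (a, b) = (a, a⁻¹) * (1, a * b) := by simp
    rw [this, map_mul]
    exact mul_mem (h1 a) (h2 _)
  have hπT : s01 * s12 ∉ T := by
    rintro ⟨a, ha⟩
    have h7 := hτv a (Pi.single 2 1) 0
    rw [ha, mul_mulVec, hs01v, hs12v] at h7
    simp [dvec, Equiv.swap_apply_def] at h7
  have hG : Nat.card G = 216 := by rw [natCard_SU_three hF]; simp [hq]
  have hTc : Nat.card T = 9 := by
    rw [hT, ← Nat.card_congr (MonoidHom.ofInjective hτi).toEquiv, Nat.card_prod, hcard]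
  intro g
  refine ⟨D.index, ?_, Subgroup.pow_index_mem D g⟩
  intro h3
  -- three divides the relative index
  have hrel : 3 ∣ T.relIndex D := by
    have hle : T ⊔ Subgroup.zpowers (s01 * s12) ≤ D := sup_le hTD (Subgroup.zpowers_le.2 hπ)
    rw [← Subgroup.relIndex_mul_relIndex T _ D le_sup_left hle]
    refine dvd_mul_of_dvd_left (three_dvd_relIndex T ?_ hπT ?_) _
    · refine SU_ext fun v => funext fun l => ?_
      rw [pow_succ, pow_two, mul_mulVec, mul_mulVec, mul_mulVec, mul_mulVec, mul_mulVec, hs01v, hs12v, hs01v,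
        hs12v, hs01v, hs12v, mat_one, one_mulVec]
      fin_cases l <;> simp [Equiv.swap_apply_def]
    · rintro _ ⟨a, rfl⟩
      refine ⟨⟨(a.1 * a.2)⁻¹, a.1⟩, ?_⟩
      rw [eq_mul_inv_iff_mul_eq]
      refine SU_ext fun v => funext fun l => ?_
      rw [mul_mulVec, mul_mulVec, mul_mulVec, mul_mulVec, hτv, hs01v, hs12v, hs01v, hs12v, hτv]
      fin_cases l <;> simp [dvec, Equiv.swap_apply_def] <;> first | ring | (field_simp; ring)
  have h9 : 3 * 3 ∣ T.index := by
    rw [← Subgroup.relIndex_mul_index hTD]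
    exact mul_dvd_mul hrel h3
  have := Subgroup.card_mul_index T
  rw [hTc, hG] at this
  omega

end Cfsg.Agent.SimpleFacts.SUMult.BaseThree
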