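import Cfsg.Agent.SimpleFacts.SUMult.BaseThree
import Cfsg.Agent.SimpleFacts.SUMult.Point
import Cfsg.Agent.Lib.Classical.UnitaryGen
import Mathlib

/-!
Small dimensions over the field of four elements, away from the characteristic.
-/

set_option autoImplicit false
set_option linter.unusedSectionVars false
set_option linter.unusedSimpArgs false

namespace Cfsg.Agent.SimpleFacts.SUMult.BaseTwo

open Matrix
open Cfsg.Agent.Forms Cfsg.Agent.Classical Cfsg.Agent.Classical.Unitary
open Cfsg.Agent.SimpleFacts.SUMult Ext Blocks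

universe u v

variable {F : Type u} [Field F] [Fintype F] {q : ℕ} (hF : Fintype.card F = q ^ 2)
include hF

theorem natCard_four (hq : q = 2) : Nat.card (Cfsg.SU 4 F q) = 25920 := by
  have h := natCard_SU_mul hF (n := 4) (by omega)
  rw [natCard_GU hF, hq] at h
  simp [Finset.prod_range_succ, Nat.even_add_one] at h
  subst hq
  omega

theorem natCard_five (hq : q = 2) : Nat.card (Cfsg.SU 5 F q) = 13685760 := by
  have h := natCard_SU_mul hF (n := 5) (by omega)
  rw [natCard_GU hF, hq] at h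
  simp [Finset.prod_range_succ, Nat.even_add_one] at h
  subst hq
  omega

theorem natCard_seven (hq : q = 2) : Nat.card (Cfsg.SU 7 F q) = 227787103272960 := by
  have h := natCard_SU_mul hF (n := 7) (by omega)
  rw [natCard_GU hF, hq] at h
  simp [Finset.prod_range_succ, Nat.even_add_one] at h
  subst hq
  omega

/-- Products. -/
theorem coAb_prod {G₁ : Type u} [Group G₁] {G₂ : Type u} [Group G₂] {r : ℕ} [Fact r.Prime] (h1 : CoAb r G₁)
    (h2 : CoAb r G₂) : CoAb r (G₁ × G₂) := by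
  rintro ⟨a, b⟩
  obtain ⟨m, hm, ha⟩ := h1 a
  obtain ⟨n, hn, hb⟩ := h2 b
  refine ⟨m * n, fun hd => ((Fact.out : r.Prime).dvd_mul.1 hd).elim hm hn, ?_⟩
  rw [_root_.commutator_def, ← Subgroup.top_prod_top, Subgroup.commutator_prod_prod, Subgroup.mem_prod,
    ← _root_.commutator_def, ← _root_.commutator_def]
  exact ⟨by show a ^ (m * n) ∈ _; rw [pow_mul]; exact pow_mem ha n,
    by show b ^ (m * n) ∈ _; rw [mul_comm, pow_mul]; exact pow_mem hb m⟩

/-- Dimension seven at the prime three. -/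
theorem triv_seven (hq : q = 2) (h3 : Triv.{u, v} 3 (Cfsg.SU 3 F q)) (h4 : Triv.{u, v} 3 (Cfsg.SU 4 F q))
    (c3 : CoAb 3 (Cfsg.SU 3 F q)) (c4 : CoAb 3 (Cfsg.SU 4 F q)) : Triv.{u, v} 3 (Cfsg.SU (3 + 4) F q) := by
  classical
  have : Fact (Nat.Prime 3) := ⟨Nat.prime_three⟩
  set N := (suBlk (F := F) (q := q) (k := 3) (m := 4)).range with hN
  obtain ⟨ν, hν, hν1⟩ : ∃ w : F, w ^ (q + 1) = 1 ∧ w ≠ 1 := by
    obtain ⟨g, hg⟩ := IsCyclic.exists_generator (α := (powMonoidHom (q + 1) : Fˣ →* Fˣ).ker)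
    refine ⟨((g : Fˣ) : F), by simpa using congrArg Units.val g.2, fun h1 => ?_⟩
    have ho := orderOf_eq_card_of_forall_mem_zpowers hg
    rw [natCard_normOne hF, show g = 1 from Subtype.ext (Units.ext h1), orderOf_one] at ho
    omega
  have hν0 : ν ≠ 0 := fun h0 => by simp [h0] at hν
  have hν3 : ν ^ 3 = 1 := by rw [hq] at hν; exact hν
  set M : Matrix (Fin 3) (Fin 3) F := Matrix.diagonal ![ν, 1, 1] with hM
  set M' : Matrix (Fin 4) (Fin 4) F := Matrix.diagonal ![ν⁻¹, 1, 1, 1] with hM'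
  have hMp : ∀ u v, Cfsg.hermForm 3 F q (M *ᵥ u) (M *ᵥ v) = Cfsg.hermForm 3 F q u v :=
    diag_preserves hF _ fun i => by fin_cases i <;> simp [hν]
  have hMp' : ∀ u v, Cfsg.hermForm 4 F q (M' *ᵥ u) (M' *ᵥ v) = Cfsg.hermForm 4 F q u v :=
    diag_preserves hF _ fun i => by fin_cases i <;> simp [hν, inv_pow]
  obtain ⟨d, hd⟩ : ∃ d : Cfsg.SU (3 + 4) F q, ∀ x y, mat d *ᵥ Fin.append x y = Fin.append (M *ᵥ x) (M' *ᵥ y) :=
    ⟨suMk (blkM M M') (by
      rw [det_blkM, hM, hM', Matrix.det_diagonal, Matrix.det_diagonal, Fin.prod_univ_three, Fin.prod_univ_four]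
      simp [hν0]) (blkM_preserves hMp hMp'), fun x y => blkM_mulVec M M' x y⟩
  have hconj : ∀ a ∈ N, d * a * d⁻¹ ∈ N := by
    rintro _ ⟨⟨a, b⟩, rfl⟩
    refine ⟨(conjSU (guMk hF M hMp) a, conjSU (guMk hF M' hMp') b), ?_⟩
    rw [eq_mul_inv_iff_mul_eq]
    refine SU_ext fun x => ?_
    rw [← eta x, mul_mulVec, mul_mulVec, hd, suBlk_mulVec, suBlk_mulVec, hd, conjSU_mulVec, conjSU_mulVec]
    congr 1
    · rw [ginv_mulVec (guMk hF M hMp) (rfl : _ = M *ᵥ fun i => x (Fin.castAdd 4 i))]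
      rfl
    · rw [ginv_mulVec (guMk hF M' hMp') (rfl : _ = M' *ᵥ fun i => x (Fin.natAdd 3 i))]
      rfl
  have hd3 : d ^ 3 = 1 := by
    refine SU_ext fun x => ?_
    rw [← eta x, pow_succ, pow_two, mul_mulVec, mul_mulVec, hd, hd, hd, mat_one, one_mulVec]
    congr 1
    · funext i
      simp only [hM, Matrix.mulVec_diagonal]
      fin_cases i <;> simp
      linear_combination (x 0) * hν3
    · funext i
      have h' : ν⁻¹ ^ 3 = 1 := by rw [inv_pow, hν3, inv_one]
      simp only [hM', Matrix.mulVec_diagonal]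
      fin_cases i <;> simp
      linear_combination (x 3) * h'
  have hdN : d ∉ N := by
    rintro ⟨⟨a, b⟩, hab⟩
    refine hν1 ?_
    have hMa : mat a = M := mat_ext fun x => by
      have h1 := congrArg (fun g => mat g *ᵥ Fin.append x (0 : Fin 4 → F)) hab
      simp only [suBlk_mulVec, hd] at h1
      funext i
      simpa using congrFun h1 (Fin.castAdd 4 i)
    have h2 : (mat a).det = 1 := a.1.2
    rw [hMa, hM, Matrix.det_diagonal, Fin.prod_univ_three] at h2
    simpa using h2
  set A := N ⊔ Subgroup.zpowers d with hA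
  refine Triv.of_sub A ?_ fun E _ _ σ hsurj hcen hker => ?_
  · intro h3'
    have h9 : 3 * 3 ∣ N.index := by
      rw [← Subgroup.relIndex_mul_index (show N ≤ A from le_sup_left)]
      exact mul_dvd_mul (BaseThree.three_dvd_relIndex N hd3 hdN hconj) h3'
    have h := Subgroup.card_mul_index N
    rw [hN, ← Nat.card_congr (MonoidHom.ofInjective suBlk_injective).toEquiv, Nat.card_prod,
      BaseThree.natCard_SU_three hF, natCard_four hF hq, natCard_seven hF hq,
      show q ^ 3 * (q ^ 2 - 1) * (q ^ 3 + 1) = 216 by rw [hq]; norm_num] at h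
    norm_num at h
    rw [hN] at h9
    have key : ∀ i : ℕ, 3 * 3 ∣ i → 5598720 * i = 227787103272960 → False := fun i h1 h2 => by omega
    exact key _ h9 h
  · set B1 := (blkL (F := F) (q := q) (k := 3) (m := 4)).range with hB1
    set B2 := (blkR (F := F) (q := q) (k := 3) (m := 4)).range with hB2
    have hB12 : B1 ⊔ B2 = N := by
      refine le_antisymm (sup_le ?_ ?_) ?_
      · rintro _ ⟨a, rfl⟩; exact ⟨(a, 1), rfl⟩
      · rintro _ ⟨b, rfl⟩; exact ⟨(1, b), rfl⟩
      · rintro _ ⟨⟨a, b⟩, rfl⟩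
        have : suBlk (a, b) = blkL (m := 4) a * blkR (k := 3) b := by
          rw [blkL, blkR, MonoidHom.comp_apply, MonoidHom.comp_apply, ← map_mul]
          simp
        rw [this]
        exact Subgroup.mul_mem_sup ⟨a, rfl⟩ ⟨b, rfl⟩
    have hL : Function.Injective (blkL (F := F) (q := q) (k := 3) (m := 4)) := fun a b h =>
      (Prod.ext_iff.1 (suBlk_injective h)).1
    have e1 := MonoidHom.ofInjective hL
    have e2 := MonoidHom.ofInjective (blkR_injective hF (k := 3) (m := 4))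
    have hgood : Good σ N := by
      rw [← hB12]
      refine good_sup σ hsurj hcen hker (good_of_triv σ hsurj hcen hker (h3.congr e1))
        (good_of_triv σ hsurj hcen hker (h4.congr e2)) (c3.congr e1) ?_ ?_
      · rintro _ ⟨a, rfl⟩ _ ⟨b, rfl⟩
        exact (show Commute ((a, 1) : Cfsg.SU 3 F q × Cfsg.SU 4 F q) (1, b) by
          show _ * _ = _ * _; simp).map suBlk
      · rw [eq_bot_iff]
        rintro _ ⟨⟨a, rfl⟩, ⟨b, hb⟩⟩
        have h1 : ((1, b) : Cfsg.SU 3 F q × Cfsg.SU 4 F q) = (a, 1) := suBlk_injective hb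
        have h2 : (1 : Cfsg.SU 3 F q) = a := (Prod.ext_iff.1 h1).1
        rw [← h2, map_one]
        exact one_mem _
    have hnorm : ∀ x ∈ A, ∀ a ∈ N, x * a * x⁻¹ ∈ N := by
      have hle : A ≤ Subgroup.normalizer (N : Set _) := by
        refine sup_le Subgroup.le_normalizer ?_
        rw [Subgroup.zpowers_le, Subgroup.mem_normalizer_iff]
        intro t
        refine ⟨hconj t, fun ht => ?_⟩
        have h := hconj _ (hconj _ ht)
        rwa [show d * (d * (d * t * d⁻¹) * d⁻¹) * d⁻¹ = d ^ 3 * t * (d ^ 3)⁻¹ by rw [pow_succ, pow_two]; group,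
          hd3, one_mul, inv_one, mul_one] at h
      exact fun x hx a ha => (Subgroup.mem_normalizer_iff.1 (hle hx) a).1 ha
    refine good_of_cyclic_quotient σ hsurj hcen hker (le_sup_left : N ≤ A) hnorm
      (Subgroup.mem_sup_right (Subgroup.mem_zpowers d)) ?_ hgood
      ((coAb_prod hF c3 c4).congr (MonoidHom.ofInjective suBlk_injective))
    intro x hx
    have hle : Subgroup.zpowers d ≤ Subgroup.normalizer (N : Set _) := fun y hy =>
      Subgroup.mem_normalizer_iff.2 fun a => ⟨hnorm y (Subgroup.mem_sup_right hy) a, fun ha => by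
        have := hnorm y⁻¹ (inv_mem (Subgroup.mem_sup_right hy)) _ ha
        rwa [show y⁻¹ * (y * a * y⁻¹) * y⁻¹⁻¹ = a by group] at this⟩
    have h1 : x ∈ ((N ⊔ Subgroup.zpowers d : Subgroup _) : Set _) := hx
    rw [Subgroup.coe_mul_of_right_le_normalizer_left N _ hle, Set.mem_mul] at h1
    obtain ⟨a, ha, b, hb, rfl⟩ := h1
    obtain ⟨i, rfl⟩ := Subgroup.mem_zpowers_iff.1 hb
    exact ⟨a, ha, i, rfl⟩

end Cfsg.Agent.SimpleFacts.SUMult.BaseTwo
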