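import Cfsg.Agent.SimpleFacts.SUMult.CosetStep
import Cfsg.Agent.SimpleFacts.SUMult.Unip
import Mathlib

/-!
The coset criterion in dimension four, for primes different from the characteristic.
-/

set_option autoImplicit false
set_option linter.unusedSectionVars false
set_option linter.unusedSimpArgs false

namespace Cfsg.Agent.SimpleFacts.SUMult.CosetFour

open Matrix
open Cfsg.Agent.Forms Cfsg.Agent.Classical Cfsg.Agent.Classical.Unitary
open Cfsg.Agent.SimpleFacts.SUMult Ext Blocks CosetGeom CosetAbs CosetStep Unip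
open MulAction (stabilizer)

universe u v

variable {F : Type u} [Field F] [Fintype F] {q m : ℕ}

local notation "Vec" => (Fin (2 + m) → F)
local notation "H" => Cfsg.hermForm (2 + m) F q
local notation "G" => Cfsg.SU (2 + m) F q

variable (hF : Fintype.card F = q ^ 2)
include hF

/-- Elements of the plane group fix the orthogonal of the plane. -/
theorem plane_fix (hm : 2 ≤ m) {B : G} (hB : B ∈ plane F q m) {w : Vec} (h0 : H w (v0 F m) = 0)
    (h1 : H w (v1 F m) = 0) : mat B *ᵥ w = w := by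
  have hd : ∀ j : Fin m, mat B *ᵥ (Pi.single (Fin.natAdd 2 j) 1 : Vec) = Pi.single (Fin.natAdd 2 j) 1 :=
    fun j => hB _ ⟨by rw [H_single_single hF, if_pos rfl],
      by rw [v0, stdF, H_single_single hF, if_neg (by simp [Fin.ext_iff])],
      by rw [v1, stdF, H_single_single hF, if_neg (by simp [Fin.ext_iff]; omega)]⟩
  rw [v0, stdF, H_single_right hF] at h0
  rw [v1, stdF, H_single_right hF] at h1
  have e : w = ∑ j : Fin m, w (Fin.natAdd 2 j) • (Pi.single (Fin.natAdd 2 j) 1 : Vec) := by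
    funext i
    induction i using Fin.addCases with
    | left i =>
      rw [Finset.sum_apply, Finset.sum_eq_zero fun j _ => by
        rw [Pi.smul_apply, Pi.single_eq_of_ne (by simp [Fin.ext_iff]; omega), smul_zero]]
      fin_cases i <;> assumption
    | right j => simp [Finset.sum_apply, Pi.single_apply, Fin.natAdd_inj]
  rw [e, Matrix.mulVec_sum]
  exact Finset.sum_congr rfl fun j _ => by rw [Matrix.mulVec_smul, hd]

/-- Groups of order prime to `r`. -/
theorem pgroup_triv {G₀ : Type u} [Group G₀] [Finite G₀] {p r : ℕ} [Fact p.Prime] [Fact r.Prime] (hrp : r ≠ p)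
    (h : IsPGroup p G₀) : Triv.{u, v} r G₀ ∧ CoAb r G₀ := by
  have hd : ∀ k : ℕ, ¬ r ∣ p ^ k := fun k hd =>
    hrp ((Nat.prime_dvd_prime_iff_eq Fact.out Fact.out).1 ((Fact.out : r.Prime).dvd_of_dvd_pow hd))
  constructor
  · refine Triv.of_cyclic (⊥ : Subgroup G₀) ?_
    obtain ⟨k, hk⟩ := IsPGroup.iff_card.1 h
    rw [Subgroup.index_bot, hk]
    exact hd k
  · intro g
    obtain ⟨k, hk⟩ := h g
    exact ⟨p ^ k, hd k, by rw [hk]; exact one_mem _⟩

theorem triv_four (hq : 3 ≤ q) (p : ℕ) [Fact p.Prime] [CharP F p] {r : ℕ} [Fact r.Prime] (hrp : r ≠ p)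
    (hm : m = 2) (ht : Triv.{u, v} r (Cfsg.SU (1 + m) F q)) (hc1 : CoAb r (Cfsg.SU (1 + m) F q))
    (hc2 : CoAb r (Cfsg.SU m F q)) : Triv.{u, v} r (Cfsg.SU (2 + m) F q) := by
  intro E _ _ σ hsurj hcen hker
  have hm2 : 2 ≤ m := by omega
  set D := setting hF hm2 hsurj hcen hker ht hc1 hc2 with hD
  have he : D.e.1 = v0 F m := rfl
  have hP : ∀ (w : Vec) (A : Subgroup G), A ≤ radical q w → Good σ A ∧ CoAb r A := by
    intro w A hA
    have := pgroup_triv.{u, v} hF hrp ((radical_isPGroup hF p w).to_le hA)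
    exact ⟨good_of_triv σ hsurj hcen hker this.1, this.2⟩
  have he0 : H (v0 F m) (v0 F m) = 1 := v0_unit hF
  have hf0 : H (v1 F m) (v1 F m) = 1 := v1_unit hF
  have hef : H (v0 F m) (v1 F m) = 0 := v0_v1 hF
  have hfe : H (v1 F m) (v0 F m) = 0 := (H_eq_zero_comm hF).1 hef
  -- independence
  have hind : D.Indep := by
    intro v x x' y y' h h'
    by_cases hlk : Linked q x.1 x'.1
    · exact linked_eq hF hm2 hsurj hcen hker ht hc1 hc2 h h' hlk
    set α := H x'.1 x.1 with hα
    set z := x'.1 - α • x.1 with hz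
    have hα1 : α ^ (q + 1) = 1 := by
      by_contra hne
      exact hlk (Or.inr hne)
    have hα0 : α ≠ 0 := fun h0 => by simp [h0] at hα1
    have hxe : H x.1 (v0 F m) = 0 := h.1
    have hxv : H x.1 v.1 = 0 := h.2.1
    have hxe' : H x'.1 (v0 F m) = 0 := h'.1
    have hxv' : H x'.1 v.1 = 0 := h'.2.1
    by_cases hzsp : z ∈ Submodule.span F ({v0 F m, v.1, x.1} : Set Vec)
    swap
    · exact indep_at hF hm2 hsurj hcen hker ht hc1 hc2 h h' fun _ hcase => by
        rcases hcase with hq2 | hsp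
        · omega
        · exact absurd hsp hzsp
    -- the isotropic vector lies in the plane of `e` and `v`
    rw [Submodule.mem_span_triple] at hzsp
    obtain ⟨c1, c2, c3, hc⟩ := hzsp
    have hzx : H z x.1 = 0 := by rw [hz, H_sub_left, H_smul_left, x.2, ← hα]; ring
    have hze : H z (v0 F m) = 0 := by rw [hz, H_sub_left, H_smul_left, hxe, hxe']; ring
    have hzv : H z v.1 = 0 := by rw [hz, H_sub_left, H_smul_left, hxv, hxv']; ring
    have hzz : H z z = 0 := by
      conv_lhs => arg 5; rw [← hc]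
      simp only [H_add_right hF, H_smul_right, hze, hzv, hzx, mul_zero, add_zero]
    obtain ⟨h0, hh0, hh0x, hh0f⟩ := exists_push hF hzz (x := x.1) (y := x.1) ((H_eq_zero_comm hF).1 hzx)
      ((H_eq_zero_comm hF).1 hzx) (by rw [x.2]; exact one_ne_zero) α⁻¹
    have hh0e : mat h0 *ᵥ v0 F m = v0 F m := hh0f _ ((H_eq_zero_comm hF).1 hze) ((H_eq_zero_comm hF).1 hxe)
    have hh0v : mat h0 *ᵥ v.1 = v.1 := hh0f _ ((H_eq_zero_comm hF).1 hzv) ((H_eq_zero_comm hF).1 hxv)
    set A := radical q z ⊓ stabilizer G D.e ⊓ stabilizer G v with hA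
    obtain ⟨ht', hht, rfl⟩ := Loc_surj σ r hsurj (hP z A (inf_le_left.trans inf_le_left)).2
      (show h0 ∈ A from ⟨⟨hh0, Subtype.ext hh0e⟩, Subtype.ext hh0v⟩)
    have hlift : D.Lift v x' (ht' * y * ht'⁻¹) := by
      refine ⟨h'.1, h'.2.1, Loc_conj σ r ht' (fun a ha => ?_) h.2.2.1, ?_⟩
      · have hax : mat a *ᵥ x.1 = x.1 := congrArg Subtype.val (show a • x = x from ha)
        have e : x'.1 = α • (mat (σ ht') *ᵥ x.1) := by
          rw [hh0x, smul_add, smul_smul, mul_inv_cancel₀ hα0, one_smul, hz]; abel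
        refine Subtype.ext ?_
        rw [smul_val, e, Matrix.mulVec_smul, mul_mulVec, mul_mulVec, inv_mulVec (σ ht') rfl, hax]
      · refine Subtype.ext ?_
        rw [smul_val, map_mul, map_mul, map_inv, mul_mulVec, mul_mulVec, he, inv_mulVec (σ ht') hh0e,
          show mat (σ y) *ᵥ v0 F m = v.1 from congrArg Subtype.val h.2.2.2, hh0v]
    refine Eq.trans ?_ (well D hsurj hker hlift h')
    have hK : ht' ∈ D.K := Loc_mono σ r (inf_le_left.trans inf_le_right) hht
    have hV : y⁻¹ * ht' * y⁻¹⁻¹ ∈ D.K := Loc_conj σ r y⁻¹ (fun a ha => by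
      show (σ y⁻¹ * a * (σ y⁻¹)⁻¹) • D.e = D.e
      rw [map_inv, inv_inv, mul_smul, mul_smul, h.2.2.2, show a • v = v from ha, inv_smul_eq_iff, h.2.2.2])
      (Loc_mono σ r inf_le_right hht)
    rw [inv_inv] at hV
    rw [QuotientGroup.eq]
    have : y⁻¹ * (ht' * y * ht'⁻¹) = (y⁻¹ * ht' * y) * ht'⁻¹ := by group
    rw [this]
    exact mul_mem hV (inv_mem hK)
  -- lifted radical elements on plane vectors
  have hM : ∀ (z : Vec) (w : UVec F q (2 + m)), H z z = 0 → H z (v0 F m) = 0 → H z (v1 F m) = 0 →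
      ∀ α β : F, w.1 = α • v0 F m + β • v1 F m → ∀ u ∈ Loc σ r (radical q z),
        u • D.C w = D.C (σ u • w) := by
    intro z w hzz hze hzf α β hw u hu
    have hwz : H w.1 z = 0 := by
      rw [hw, H_add_left, H_smul_left, H_smul_left, (H_eq_zero_comm hF).1 hze, (H_eq_zero_comm hF).1 hzf]; ring
    obtain ⟨τ, hτ⟩ := (Loc_image σ r hu).2 w.1 hwz
    -- an element with the same effect fixing a good point
    obtain ⟨u1, hu1, hu1w, hgood⟩ : ∃ u1 ∈ Loc σ r (radical q z), mat (σ u1) *ᵥ w.1 = w.1 + τ • z ∧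
        u1 • D.C w = D.C (σ u1 • w) := by
      by_cases hβ : β = 0
      · have hα : α ≠ 0 := fun hα0 => by
          have := w.2
          rw [hw, hα0, hβ, zero_smul, zero_smul, add_zero, H_zero_left] at this
          exact zero_ne_one this
        obtain ⟨a, ha, hax, haf⟩ := exists_push hF hzz (x := v0 F m) (y := w.1) ((H_eq_zero_comm hF).1 hze) hwz
          (by rw [hw, hβ, zero_smul, add_zero, H_smul_left, he0, mul_one]; exact hα) τ
        have haf' : mat a *ᵥ v1 F m = v1 F m := haf _ ((H_eq_zero_comm hF).1 hzf) hfe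
        obtain ⟨u1, hu1, rfl⟩ := Loc_surj σ r hsurj
          (hP z (radical q z ⊓ stabilizer G (⟨v1 F m, hf0⟩ : UVec F q (2 + m))) inf_le_left).2
          (show a ∈ _ from ⟨ha, Subtype.ext haf'⟩)
        refine ⟨u1, Loc_mono σ r inf_le_left hu1, hax, compat_of_common D hsurj hker hind (x := ⟨v1 F m, hf0⟩)
          hfe ?_ (Loc_mono σ r inf_le_right hu1)⟩
        show H (v1 F m) w.1 = 0
        rw [hw, hβ, zero_smul, add_zero, H_smul_right, hfe, mul_zero]
      · obtain ⟨a, ha, hax, haf⟩ := exists_push hF hzz (x := v1 F m) (y := w.1) ((H_eq_zero_comm hF).1 hzf) hwz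
          (by rw [hw, H_add_left, H_smul_left, H_smul_left, hef, hf0, mul_zero, zero_add, mul_one]; exact hβ) τ
        have hae : mat a *ᵥ v0 F m = v0 F m := haf _ ((H_eq_zero_comm hF).1 hze) hef
        obtain ⟨u1, hu1, rfl⟩ := Loc_surj σ r hsurj (hP z (radical q z ⊓ stabilizer G D.e) inf_le_left).2
          (show a ∈ _ from ⟨ha, Subtype.ext hae⟩)
        exact ⟨u1, Loc_mono σ r inf_le_left hu1, hax,
          compat_K D hsurj hker hind (Loc_mono σ r inf_le_right hu1) w⟩
    have h0mem : u1⁻¹ * u ∈ Loc σ r (radical q z) := mul_mem (inv_mem hu1) hu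
    have hfix : σ (u1⁻¹ * u) ∈ radical q z ⊓ stabilizer G w := by
      refine ⟨Loc_image σ r h0mem, Subtype.ext ?_⟩
      rw [smul_val, map_mul, map_inv, mul_mulVec, hτ]
      exact inv_mulVec (σ u1) hu1w
    obtain ⟨l, hl, hle⟩ := Loc_surj σ r hsurj (hP z _ inf_le_left).2 hfix
    have hfc : (u1⁻¹ * u) • D.C w = D.C w := by
      rw [Loc_ext σ r hker (hP z _ le_rfl).1 h0mem (Loc_mono σ r inf_le_left hl) hle.symm]
      exact fixes_C D hsurj hker hind (Loc_mono σ r inf_le_right hl)
    calc u • D.C w = u1 • ((u1⁻¹ * u) • D.C w) := by rw [← mul_smul, mul_inv_cancel_left]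
      _ = D.C (σ u1 • w) := by rw [hfc, hgood]
      _ = _ := by
        congr 1
        exact Subtype.ext (by rw [smul_val, smul_val, hu1w, hτ])
  let S : Set E := {g | σ g ∈ plane F q m ∧ ∀ x : UVec F q (2 + m), H x.1 (v0 F m) = 0 →
    H x.1 (v1 F m) = 0 → g ∈ Loc σ r (stabilizer G x)}
  have hfr2 := pair_frame he0 hf0 hef hfe
  refine CosetAbs.main D hsurj hker hcen hind S (fun g hg v => ?_) ?_
  · set α := H v.1 (v0 F m) with hα
    set β := H v.1 (v1 F m) with hβ
    set t := v.1 - α • v0 F m - β • v1 F m with ht0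
    have hte : H t (v0 F m) = 0 := by
      rw [ht0, H_sub_left, H_sub_left, H_smul_left, H_smul_left, he0, hfe, ← hα]; ring
    have htf : H t (v1 F m) = 0 := by
      rw [ht0, H_sub_left, H_sub_left, H_smul_left, H_smul_left, hf0, hef, ← hβ]; ring
    have hv : v.1 = α • v0 F m + β • v1 F m + t := by rw [ht0]; abel
    have witness : ∀ x : Vec, H x x = 1 → H x (v0 F m) = 0 → H x (v1 F m) = 0 → H x t = 0 →
        g • D.C v = D.C (σ g • v) := fun x hx h1 h2 h3 =>
      compat_of_common D hsurj hker hind (x := ⟨x, hx⟩) h1 (by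
        show H x v.1 = 0
        rw [hv, H_add_right hF, H_add_right hF, H_smul_right, H_smul_right, h1, h2, h3]; ring)
        (hg.2 _ h1 h2)
    by_cases ht00 : t = 0
    · obtain ⟨x, hx, hx'⟩ := exists_unit_perp hF ![v0 F m, v1 F m] ![v0 F m, v1 F m] hfr2 id (fun _ => rfl)
        (by omega)
      exact witness x hx (hx' 0) (hx' 1) (by rw [ht00, H_zero_right hF])
    by_cases htt : H t t ≠ 0
    · obtain ⟨c, hc⟩ := UnitaryCount.exists_norm_eq hF (μ := (H t t)⁻¹) (inv_ne_zero htt)
        (by rw [inv_pow, H_conj hF])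
      obtain ⟨x, hx, hx'⟩ := exists_unit_perp hF ![v0 F m, v1 F m, c • t] ![v0 F m, v1 F m, c • t]
        (triple_frame hF he0 hf0 (by rw [UnitaryCount.hermForm_smul_smul, hc, inv_mul_cancel₀ htt]) hef
          (by rw [H_smul_right, (H_eq_zero_comm hF).1 hte, mul_zero])
          (by rw [H_smul_right, (H_eq_zero_comm hF).1 htf, mul_zero])) id (fun _ => rfl) (by omega)
      have h3 : H x (c • t) = 0 := hx' 2
      rw [H_smul_right, mul_eq_zero, or_iff_right (pow_ne_zero _ (fun hc0 => by
        rw [hc0, zero_pow (by omega)] at hc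
        exact inv_ne_zero htt hc.symm))] at h3
      exact witness x hx (hx' 0) (hx' 1) h3
    push Not at htt
    have hgt : mat (σ g) *ᵥ t = t := plane_fix hF hm2 hg.1 hte htf
    set w0 := α • v0 F m + β • v1 F m with hw0
    have hw0t : H w0 t = 0 := by
      rw [hw0, H_add_left, H_smul_left, H_smul_left, (H_eq_zero_comm hF).1 hte, (H_eq_zero_comm hF).1 htf]; ring
    have hw0u : H w0 w0 = 1 := by
      have := v.2
      rw [show v.1 = w0 + t from hv] at this
      simpa [H_add_left, H_add_right hF, htt, hw0t, (H_eq_zero_comm hF).1 hw0t] using this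
    obtain ⟨a, ha, haw⟩ : ∃ a ∈ radical q t, mat a *ᵥ w0 = w0 + t := by
      by_cases hβ0 : β = 0
      · have hα0 : α ≠ 0 := fun hα0 => by
          rw [hw0, hα0, hβ0, zero_smul, zero_smul, add_zero, H_zero_left] at hw0u
          exact zero_ne_one hw0u
        obtain ⟨a, ha, hax, -⟩ := exists_push hF htt (x := v0 F m) (y := w0) ((H_eq_zero_comm hF).1 hte) hw0t
          (by rw [hw0, hβ0, zero_smul, add_zero, H_smul_left, he0, mul_one]; exact hα0) 1
        exact ⟨a, ha, by rw [hax, one_smul]⟩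
      · obtain ⟨a, ha, hax, -⟩ := exists_push hF htt (x := v1 F m) (y := w0) ((H_eq_zero_comm hF).1 htf) hw0t
          (by rw [hw0, H_add_left, H_smul_left, H_smul_left, hef, hf0, mul_zero, zero_add, mul_one]; exact hβ0) 1
        exact ⟨a, ha, by rw [hax, one_smul]⟩
    obtain ⟨u, hu, rfl⟩ := Loc_surj σ r hsurj (hP t (radical q t) le_rfl).2 ha
    set W : UVec F q (2 + m) := ⟨w0, hw0u⟩ with hW
    have hvW : v = σ u • W := Subtype.ext (by rw [smul_val, haw]; exact hv)
    obtain ⟨x, hx, hx'⟩ := exists_unit_perp hF ![v0 F m, v1 F m] ![v0 F m, v1 F m] hfr2 id (fun _ => rfl)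
      (by omega)
    have hgW : g • D.C W = D.C (σ g • W) :=
      compat_of_common D hsurj hker hind (x := ⟨x, hx⟩) (hx' 0) (by
        show H x w0 = 0
        rw [hw0, H_add_right hF, H_smul_right, H_smul_right, show H x (v0 F m) = 0 from hx' 0,
          show H x (v1 F m) = 0 from hx' 1]; ring) (hg.2 _ (hx' 0) (hx' 1))
    -- the image of the plane vector
    set γ := H (mat (σ g) *ᵥ w0) (v0 F m) with hγ
    set δ := H (mat (σ g) *ᵥ w0) (v1 F m) with hδ
    have hgw0 : mat (σ g) *ᵥ w0 = γ • v0 F m + δ • v1 F m := by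
      set d := mat (σ g) *ᵥ w0 - γ • v0 F m - δ • v1 F m with hd
      have hde : H d (v0 F m) = 0 := by
        rw [hd, H_sub_left, H_sub_left, H_smul_left, H_smul_left, he0, hfe, ← hγ]; ring
      have hdf : H d (v1 F m) = 0 := by
        rw [hd, H_sub_left, H_sub_left, H_smul_left, H_smul_left, hf0, hef, ← hδ]; ring
      have hz : ∀ s : Vec, H s (v0 F m) = 0 → H s (v1 F m) = 0 → H (mat (σ g) *ᵥ w0) s = 0 := by
        intro s h1 h2
        rw [← plane_fix hF hm2 hg.1 h1 h2, SU_H, hw0, H_add_left, H_smul_left, H_smul_left,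
          (H_eq_zero_comm hF).1 h1, (H_eq_zero_comm hF).1 h2]; ring
      have hd0 : d = 0 := eq_zero_of_H hF fun s => by
        set s' := s - H s (v0 F m) • v0 F m - H s (v1 F m) • v1 F m with hs'
        have h1 : H s' (v0 F m) = 0 := by
          rw [hs', H_sub_left, H_sub_left, H_smul_left, H_smul_left, he0, hfe]; ring
        have h2 : H s' (v1 F m) = 0 := by
          rw [hs', H_sub_left, H_sub_left, H_smul_left, H_smul_left, hf0, hef]; ring
        have h3 : H d s' = 0 := by
          rw [hd, H_sub_left, H_sub_left, H_smul_left, H_smul_left, hz s' h1 h2,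
            (H_eq_zero_comm hF).1 h1, (H_eq_zero_comm hF).1 h2]; ring
        rw [show s = s' + (H s (v0 F m) • v0 F m + H s (v1 F m) • v1 F m) by rw [hs']; abel,
          H_add_right hF, H_add_right hF, H_smul_right, H_smul_right, h3, hde, hdf]; ring
      rw [hd, sub_sub, sub_eq_zero] at hd0
      exact hd0
    have hu' : g * u * g⁻¹ ∈ Loc σ r (radical q t) :=
      Loc_conj σ r g (fun a ha => radical_conj hgt ha) hu
    rw [hvW, ← hM t W htt hte htf α β rfl u hu, ← mul_smul,
      show g * u = (g * u * g⁻¹) * g by group, mul_smul, hgW,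
      hM t (σ g • W) htt hte htf γ δ hgw0 _ hu', smul_smul, smul_smul, ← map_mul, ← map_mul,
      show g * u * g⁻¹ * g = g * u by group]
  · rw [eq_top_iff, ← gen hF hm2]
    refine Subgroup.closure_mono (Set.union_subset_union ?_ ?_)
    · intro A hA
      exact Subtype.ext (hA _ rfl)
    · intro a ha
      obtain ⟨g, hga, hg⟩ := exists_plane_lift hF hm2 hsurj hcen hker ht hc1 hc2
        (fun x x' hx hxe hxf hxe' hxf' hz0 hcase => by
          exfalso
          rcases hcase with hq2 | hsp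
          · omega
          refine hz0 ?_
          obtain ⟨a, b, c, hc⟩ := Submodule.mem_span_triple.1 hsp
          have k0 := congrArg (fun t => H t (v0 F m)) hc
          have k1 := congrArg (fun t => H t (v1 F m)) hc
          have k2 := congrArg (fun t => H t x) hc
          simp only [H_add_left, H_sub_left, H_smul_left, he0, hf0, hx, hef, hfe, hxe, hxf, hxe', hxf',
            (H_eq_zero_comm hF).1 hxe, (H_eq_zero_comm hF).1 hxf, mul_zero, mul_one, add_zero, zero_add,
            sub_self] at k0 k1 k2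
          rw [← hc, k0, k1, k2, zero_smul, zero_smul, zero_smul, add_zero, add_zero]) ha
      exact ⟨g, ⟨hga.symm ▸ ha, hg⟩, hga⟩

end Cfsg.Agent.SimpleFacts.SUMult.CosetFour
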