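import Cfsg.Agent.SimpleFacts.SUMult.Triv
import Mathlib

/-!
Semidirect products with an element acting without fixed points on the abelianisation of the normal factor.
-/

set_option autoImplicit false
set_option linter.unusedSectionVars false

namespace Cfsg.Agent.SimpleFacts.SUMult.Descent

open Cfsg.Agent.SimpleFacts.SUMult Ext
open scoped commutatorElement

universe u v

variable {G : Type u} [Group G] [Finite G] {E : Type v} [Group E] [Finite E] (σ : E →* G)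

theorem mem_commutator_iff {Q : Subgroup G} (x : Q) : x ∈ commutator Q ↔ x.1 ∈ ⁅Q, Q⁆ := by
  rw [← Subgroup.map_subtype_commutator]
  constructor
  · exact fun h => ⟨x, h, rfl⟩
  · rintro ⟨y, hy, he⟩
    rwa [show x = y from Subtype.ext he.symm]

/-- A normal subgroup with an element, centralising a complement, fixing nothing in its abelianisation. -/
theorem good_semidirect (hsurj : Function.Surjective σ) (hcen : σ.ker ≤ Subgroup.center E) {Q L : Subgroup G}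
    (hQL : ∀ l ∈ L, ∀ x ∈ Q, l * x * l⁻¹ ∈ Q) (hd : Q ⊓ L = ⊥) {t : G} (htL : ∀ l ∈ L, Commute t l)
    (htQ : ∀ x ∈ Q, t * x * t⁻¹ ∈ Q) (hfix : ∀ x ∈ Q, ⁅t, x⁆ ∈ ⁅Q, Q⁆ → x ∈ ⁅Q, Q⁆)
    (hQ : Good σ Q) (hL : Good σ L) : Good σ (Q ⊔ L) := by
  classical
  obtain ⟨tt, rfl⟩ := hsurj t
  set Qt := Q.comap σ with hQt
  set D : Subgroup E := ⁅Qt, Qt⁆ with hD
  have hDQ : D ≤ Qt := Ext.comm_le Qt
  have hmap : D.map σ = ⁅Q, Q⁆ := by
    rw [hD, Subgroup.map_commutator, hQt, Subgroup.map_comap_eq_self_of_surjective hsurj]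
  have hQc : ∀ g : E, (∀ x ∈ Q, σ g * x * (σ g)⁻¹ ∈ Q) → ∀ y ∈ Qt, g * y * g⁻¹ ∈ Qt := fun g hg y hy => by
    show σ (g * y * g⁻¹) ∈ Q
    rw [map_mul, map_mul, map_inv]
    exact hg _ hy
  have hDc : ∀ g : E, (∀ x ∈ Q, σ g * x * (σ g)⁻¹ ∈ Q) → ∀ y ∈ D, g * y * g⁻¹ ∈ D := by
    intro g hg y hy
    have h3 := Subgroup.mem_map_of_mem (MulAut.conj g).toMonoidHom hy
    rw [hD, Subgroup.map_commutator] at h3
    refine Subgroup.commutator_mono ?_ ?_ h3 <;>
    · rintro _ ⟨w, hw, rfl⟩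
      exact hQc g hg w hw
  have hQin : ∀ g ∈ Qt, ∀ x ∈ Q, σ g * x * (σ g)⁻¹ ∈ Q := fun g hg x hx =>
    mul_mem (mul_mem hg hx) (inv_mem hg)
  have hcomm : ∀ {a b}, a ∈ Qt → b ∈ Qt → ⁅a, b⁆ ∈ D := fun ha hb => Subgroup.commutator_mem_commutator ha hb
  have hbr : ∀ {g}, g ∈ Qt → ⁅tt, g⁆ ∈ Qt := fun {g} hg => by
    rw [commutatorElement_def]
    exact mul_mem (hQc tt htQ g hg) (inv_mem hg)
  -- the complement
  let N : Subgroup E :=
    { carrier := {x | ∃ g ∈ Qt, ∃ d ∈ D, x = ⁅tt, g⁆ * d}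
      one_mem' := ⟨1, one_mem _, 1, one_mem _, by rw [commutatorElement_one_right, mul_one]⟩
      mul_mem' := by
        rintro _ _ ⟨g, hg, d, hd', rfl⟩ ⟨g', hg', d', hd'', rfl⟩
        refine ⟨g * g', mul_mem hg hg', ⁅⁅tt, g'⁆⁻¹, g⁆⁻¹ * (⁅tt, g'⁆⁻¹ * d * ⁅tt, g'⁆) * d',
          mul_mem (mul_mem (inv_mem (hcomm (inv_mem (hbr hg')) hg)) ?_) hd'', ?_⟩
        · have := hDc _ (hQin _ (inv_mem (hbr hg'))) d hd'
          rwa [inv_inv] at this
        · simp only [commutatorElement_def]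
          group
      inv_mem' := by
        rintro _ ⟨g, hg, d, hd', rfl⟩
        refine ⟨g⁻¹, inv_mem hg, ⁅g⁻¹, ⁅tt, g⁆⁆ * (⁅tt, g⁆ * d⁻¹ * ⁅tt, g⁆⁻¹),
          mul_mem (hcomm (inv_mem hg) (hbr hg)) (hDc _ (hQin _ (hbr hg)) _ (inv_mem hd')), ?_⟩
        simp only [commutatorElement_def]
        group }
  have hNQ : N ≤ Qt := by
    rintro _ ⟨g, hg, d, hd', rfl⟩
    exact mul_mem (hbr hg) (hDQ hd')
  have hDN : D ≤ N := fun d hd' => ⟨1, one_mem _, d, hd', by rw [commutatorElement_one_right, one_mul]⟩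
  have hNker : ∀ x ∈ N, σ x = 1 → x = 1 := by
    rintro _ ⟨g, hg, d, hd', rfl⟩ hx
    have h1 : σ g ∈ ⁅Q, Q⁆ := by
      refine hfix _ hg ?_
      rw [map_mul, map_commutatorElement] at hx
      rw [eq_inv_of_mul_eq_one_left hx, ← hmap]
      exact inv_mem (Subgroup.mem_map_of_mem σ hd')
    rw [← hmap] at h1
    obtain ⟨e, he, he'⟩ := h1
    have h2 : ⁅tt, g⁆ ∈ D := by
      rw [SpMult.Lifts.bracket_congr hcen (rfl : σ tt = σ tt) he'.symm, commutatorElement_def]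
      exact mul_mem (hDc tt htQ e he) (inv_mem he)
    exact hQ _ hx (mul_mem h2 hd')
  have hNQ' : ∀ x ∈ Q, ∃ y ∈ N, σ y = x := by
    have hin : ∀ x : Q, ⁅σ tt, x.1⁆ ∈ Q := fun x => by
      rw [commutatorElement_def]
      exact mul_mem (htQ _ x.2) (inv_mem x.2)
    let f : Q →* Abelianization Q :=
      { toFun := fun x => Abelianization.of ⟨⁅σ tt, x.1⁆, hin x⟩
        map_one' := by
          rw [← map_one (Abelianization.of (G := Q))]
          exact congrArg _ (Subtype.ext (commutatorElement_one_right (σ tt)))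
        map_mul' := fun a b => by
          have e : (⟨⁅σ tt, (a * b).1⁆, hin (a * b)⟩ : Q) =
              ⟨⁅σ tt, a.1⁆, hin a⟩ * (a * ⟨⁅σ tt, b.1⁆, hin b⟩ * a⁻¹) := Subtype.ext (by
            show ⁅σ tt, a.1 * b.1⁆ = ⁅σ tt, a.1⁆ * (a.1 * ⁅σ tt, b.1⁆ * a.1⁻¹)
            simp only [commutatorElement_def]
            group)
          rw [e, map_mul, map_mul, map_mul, map_inv]
          congr 1
          rw [mul_comm (Abelianization.of a), mul_inv_cancel_right] }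
    have hker : commutator Q ≤ f.ker := Abelianization.commutator_subset_ker f
    have hinj : Function.Injective (Abelianization.lift f) := by
      rw [injective_iff_map_eq_one]
      intro a ha
      obtain ⟨a, rfl⟩ := QuotientGroup.mk_surjective a
      have h1 : Abelianization.of (⟨⁅σ tt, a.1⁆, hin a⟩ : Q) = 1 := ha
      rw [← MonoidHom.mem_ker, Abelianization.ker_of, mem_commutator_iff] at h1
      show Abelianization.of a = 1
      rw [← MonoidHom.mem_ker, Abelianization.ker_of, mem_commutator_iff]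
      exact hfix _ a.2 h1
    intro x hx
    obtain ⟨a, ha⟩ := Finite.injective_iff_surjective.1 hinj (Abelianization.of ⟨x, hx⟩)
    obtain ⟨a, rfl⟩ := QuotientGroup.mk_surjective a
    have h1 : Abelianization.of ((⟨⁅σ tt, a.1⁆, hin a⟩ : Q)⁻¹ * ⟨x, hx⟩) = 1 := by
      rw [map_mul, map_inv, ← ha]
      exact inv_mul_cancel _
    rw [← MonoidHom.mem_ker, Abelianization.ker_of, mem_commutator_iff, ← hmap] at h1
    obtain ⟨d, hd', he⟩ := h1
    obtain ⟨g, hg⟩ := hsurj a.1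
    refine ⟨⁅tt, g⁆ * d, ⟨g, show σ g ∈ Q by rw [hg]; exact a.2, d, hd', rfl⟩, ?_⟩
    rw [map_mul, map_commutatorElement, hg, he]
    exact mul_inv_cancel_left _ _
  have hNn : ∀ l : E, σ l ∈ L → ∀ x ∈ N, l * x * l⁻¹ ∈ N := by
    rintro l hl _ ⟨g, hg, d, hd', rfl⟩
    refine ⟨l * g * l⁻¹, hQc l (fun x hx => hQL _ hl x hx) g hg, l * d * l⁻¹,
      hDc l (fun x hx => hQL _ hl x hx) d hd', ?_⟩
    have : σ tt = σ (l * tt * l⁻¹) := by
      rw [map_mul, map_mul, map_inv, ← (htL _ hl).eq, mul_inv_cancel_right]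
    rw [SpMult.Lifts.bracket_congr hcen this (rfl : σ (l * g * l⁻¹) = σ (l * g * l⁻¹))]
    simp only [commutatorElement_def]
    group
  intro z hz hzd
  have hdec : ∀ x ∈ (Q ⊔ L).comap σ, ∃ n ∈ N, ∃ l, σ l ∈ L ∧ x = n * l := by
    intro x hx
    have hle : L ≤ Subgroup.normalizer (Q : Set G) := fun l hl => Subgroup.mem_normalizer_iff.2 fun a => by
      refine ⟨hQL l hl a, fun ha => ?_⟩
      have := hQL _ (inv_mem hl) _ ha
      rwa [show l⁻¹ * (l * a * l⁻¹) * l⁻¹⁻¹ = a by group] at this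
    have h1 : σ x ∈ ((Q ⊔ L : Subgroup G) : Set G) := hx
    rw [Subgroup.coe_mul_of_right_le_normalizer_left Q L hle, Set.mem_mul] at h1
    obtain ⟨a, ha, b, hb, he⟩ := h1
    obtain ⟨n, hn, rfl⟩ := hNQ' a ha
    exact ⟨n, hn, n⁻¹ * x, by rw [map_mul, map_inv, ← he, inv_mul_cancel_left]; exact hb, by group⟩
  have hmem : z ∈ N ⊔ ⁅L.comap σ, L.comap σ⁆ := by
    refine Subgroup.commutator_le.2 ?_ hzd
    intro x hx y hy
    obtain ⟨n, hn, l, hl, rfl⟩ := hdec x hx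
    obtain ⟨n', hn', l', hl', rfl⟩ := hdec y hy
    have e : ⁅n * l, n' * l'⁆ = n * (l * n' * l⁻¹) * ⁅l, l'⁆ * (l' * n⁻¹ * l'⁻¹) * n'⁻¹ := by
      simp only [commutatorElement_def]
      group
    rw [e]
    exact mul_mem (mul_mem (mul_mem (mul_mem (Subgroup.mem_sup_left hn) (Subgroup.mem_sup_left (hNn l hl n' hn')))
      (Subgroup.mem_sup_right (Subgroup.commutator_mem_commutator hl hl')))
      (Subgroup.mem_sup_left (hNn l' hl' _ (inv_mem hn)))) (Subgroup.mem_sup_left (inv_mem hn'))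
  have hnorm : ⁅L.comap σ, L.comap σ⁆ ≤ Subgroup.normalizer (N : Set E) := by
    intro l hl
    have hl' : σ l ∈ L := Ext.comm_le (L.comap σ) hl
    refine Subgroup.mem_normalizer_iff.2 fun a => ⟨hNn l hl' a, fun ha => ?_⟩
    have := hNn l⁻¹ (by rw [map_inv]; exact inv_mem hl') _ ha
    rwa [show l⁻¹ * (l * a * l⁻¹) * l⁻¹⁻¹ = a by group] at this
  rw [← SetLike.mem_coe, Subgroup.coe_mul_of_right_le_normalizer_left _ _ hnorm, Set.mem_mul] at hmem
  obtain ⟨n, hn, y, hy, rfl⟩ := hmem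
  rw [MonoidHom.mem_ker, map_mul] at hz
  have h1 : σ n = 1 := by
    have hB : σ n ∈ L := by
      rw [eq_inv_of_mul_eq_one_left hz]
      exact inv_mem (Ext.comm_le (L.comap σ) hy)
    have : σ n ∈ Q ⊓ L := ⟨hNQ hn, hB⟩
    rwa [hd, Subgroup.mem_bot] at this
  rw [h1, one_mul] at hz
  rw [hNker n hn h1, hL y hz hy, one_mul]

end Cfsg.Agent.SimpleFacts.SUMult.Descent
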