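import Cfsg.Agent.SimpleFacts.SUMult.HeisTwo
import Cfsg.Agent.SimpleFacts.SUMult.Descent
import Cfsg.Agent.SimpleFacts.SUMult.CosetGeom
import Mathlib

/-!
The part of the multiplier at the characteristic: descent to the stabiliser of an isotropic vector.
-/

set_option autoImplicit false
set_option linter.unusedSectionVars false
set_option linter.unusedSimpArgs false

namespace Cfsg.Agent.SimpleFacts.SUMult.PPart

open Matrix
open Cfsg.Agent.Forms Cfsg.Agent.Classical Cfsg.Agent.Classical.Unitary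
open Cfsg.Agent.SimpleFacts.SUMult Ext Blocks Heis HeisGood HeisPair
open scoped commutatorElement

universe u v

variable {F : Type u} [Field F] [Fintype F] {q d : ℕ}
variable (hF : Fintype.card F = q ^ 2) {e h : Fin 2 → F} (P : Frame.Hyp q e h)
include hF P

/-- The stabiliser of the isotropic vector. -/
theorem stab_eq :
    fix (q := q) ({eV d e} : Set (Fin (2 + d) → F)) = heis hF P d ⊔ (blkR (k := 2) (m := d)).range := by
  refine le_antisymm ?_ (sup_le ?_ ?_)
  · intro g hg
    have hge : mat g *ᵥ eV d e = eV d e := hg _ rfl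
    obtain ⟨x, w, hxw⟩ : ∃ x w, mat g *ᵥ Fin.append h (0 : Fin d → F) = Fin.append x w :=
      ⟨_, _, (eta _).symm⟩
    have h1 : Cfsg.hermForm 2 F q x e = 1 := by
      have h1 := SU_H g (Fin.append h (0 : Fin d → F)) (eV d e)
      rwa [hge, hxw, eV, H_append, H_append, H_zero_right hF, add_zero, H_zero_right hF, add_zero,
        Frame.he hF P] at h1
    set α := Cfsg.hermForm 2 F q x h with hα
    have hx : x = h + α • e := by
      conv_lhs => rw [Frame.decomp hF P x]
      rw [h1, one_smul, add_comm]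
    have htr : α + α ^ q = - Cfsg.hermForm d F q w w := by
      have h2 := SU_H g (Fin.append h (0 : Fin d → F)) (Fin.append h 0)
      rw [hxw, H_append, H_append, H_zero_left, add_zero, hx] at h2
      simp only [H_add_left, H_add_right hF, H_smul_left, H_smul_right, P.hh, P.eh, P.ee, Frame.he hF P] at h2
      linear_combination h2
    obtain ⟨u, hu⟩ := co_exists hF P w htr
    have hue : mat u *ᵥ eV d e = eV d e := by
      rw [show mat u = _ from hu, Unip.unM_mulVec hF, H_eV hF P, (H_eq_zero_comm hF).1 (H_iW_eV hF P w)]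
      simp
    have hmem : u⁻¹ * g ∈ (blkR (k := 2) (m := d)).range := by
      rw [← fix_std hF]
      have k1 : mat (u⁻¹ * g) *ᵥ eV d e = eV d e := by rw [mul_mulVec, hge, inv_mulVec u hue]
      have k2 : mat (u⁻¹ * g) *ᵥ Fin.append h (0 : Fin d → F) = Fin.append h 0 := by
        rw [mul_mulVec, hxw, hx, inv_mulVec u (co_apply hF P hu)]
      rintro _ ⟨i, rfl⟩
      rw [stdF, single_left, Frame.decomp hF P (Pi.single i 1)]
      have e1 : ∀ a b : F, Fin.append (a • e + b • h) (0 : Fin d → F) = a • eV d e + b • Fin.append h 0 := by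
        intro a b
        funext j
        induction j using Fin.addCases <;> simp [eV]
      rw [e1, Matrix.mulVec_add, Matrix.mulVec_smul, Matrix.mulVec_smul, k1, k2]
    have := Subgroup.mul_mem_sup (show u ∈ heis hF P d from ⟨w, α, hu⟩) hmem
    rwa [mul_inv_cancel_left] at this
  · rintro u ⟨w, a, hu⟩ x hx
    rw [Set.mem_singleton_iff.1 hx, show mat u = _ from hu, Unip.unM_mulVec hF, H_eV hF P,
      (H_eq_zero_comm hF).1 (H_iW_eV hF P w)]
    simp
  · rintro _ ⟨L, rfl⟩ x hx
    rw [Set.mem_singleton_iff.1 hx, eV, blkR_mulVec, Matrix.mulVec_zero]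

theorem heis_inf (he : e ≠ 0) : heis hF P d ⊓ (blkR (k := 2) (m := d)).range = ⊥ := by
  rw [eq_bot_iff]
  rintro u ⟨⟨w, a, hu⟩, ⟨L, hL⟩⟩
  have h1 := co_apply hF P hu
  rw [← hL, blkR_mulVec, Matrix.mulVec_zero] at h1
  have hw : w = 0 := funext fun i => by simpa using (congrFun h1 (Fin.natAdd 2 i)).symm
  have ha : a • e = 0 := funext fun i => by
    have := congrFun h1 (Fin.castAdd d i)
    simpa using this
  rw [hw, (smul_eq_zero.1 ha).resolve_right he] at hu
  exact co_eq_one hF P hu

/-- The derived group of the radical is its centre. -/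
theorem commutator_heis (hd : 1 ≤ d) : ⁅heis hF P d, heis hF P d⁆ = cent hF P d := by
  refine le_antisymm (Subgroup.commutator_le.2 fun x ⟨w, a, hx⟩ y ⟨w', a', hy⟩ => ⟨_, co_commutator hF P hx hy⟩) ?_
  rintro z ⟨a, hz⟩
  have htr := co_trace hF P hz
  rw [H_zero_left, neg_zero] at htr
  obtain ⟨t, ht⟩ := Classical.Unitary.exists_trace_eq hF (c := (1 : F)) (one_pow q)
  set i : Fin d := ⟨0, hd⟩
  have hneg : ∀ w : Fin d → F, (- Cfsg.hermForm d F q w w) ^ q = - Cfsg.hermForm d F q w w := fun w => by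
    rw [← HermStd.qHom_apply hF, map_neg, HermStd.qHom_apply, H_conj hF]
  obtain ⟨b, hb⟩ := Classical.Unitary.exists_trace_eq hF (hneg (Pi.single i (a * t)))
  obtain ⟨b', hb'⟩ := Classical.Unitary.exists_trace_eq hF (hneg (Pi.single i (1 : F)))
  obtain ⟨x, hx⟩ := co_exists hF P _ hb
  obtain ⟨y, hy⟩ := co_exists hF P _ hb'
  have he : z = ⁅x, y⁆ := SU_ext fun v => by
    rw [show mat z = _ from hz, show mat ⁅x, y⁆ = _ from co_commutator hF P hx hy, H_single_pair hF,
      H_single_pair hF, if_pos rfl, one_pow, mul_one, one_mul, if_pos rfl, mul_pow,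
      eq_neg_of_add_eq_zero_right htr]
    congr 2
    linear_combination (-a) * ht
  rw [he]
  exact Subgroup.commutator_mem_commutator ⟨_, _, hx⟩ ⟨_, _, hy⟩

/-- The index of the stabiliser is prime to the characteristic. -/
theorem index_stab (p : ℕ) [Fact p.Prime] [CharP F p] (hd : 1 ≤ d) (he : e ≠ 0) :
    ¬ p ∣ (fix (q := q) ({eV d e} : Set (Fin (2 + d) → F))).index := by
  classical
  set S := fix (q := q) ({eV d e} : Set (Fin (2 + d) → F)) with hS
  have hev : eV d e ≠ 0 := fun h0 => he (funext fun i => by simpa [eV] using congrFun h0 (Fin.castAdd d i))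
  let T := {v : Fin (2 + d) → F // v ≠ 0 ∧ Cfsg.hermForm (2 + d) F q v v = 0}
  let f : Cfsg.SU (2 + d) F q → T := fun g => ⟨mat g *ᵥ eV d e,
    fun h0 => hev ((inv_mulVec g h0).symm.trans (Matrix.mulVec_zero _)),
    by rw [SU_H, H_eV hF P]⟩
  have hfs : Function.Surjective f := fun v => by
    obtain ⟨A, hA⟩ := exists_su_iso hF (by omega) hev v.2.1 (H_eV hF P) v.2.2
    exact ⟨A, Subtype.ext hA⟩
  have hfib : ∀ a b, f a = f b ↔ a⁻¹ * b ∈ S := fun a b => by
    constructor
    · intro h0 x hx
      rw [Set.mem_singleton_iff.1 hx, mul_mulVec, show mat b *ᵥ eV d e = mat a *ᵥ eV d e from (congrArg Subtype.val h0).symm]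
      exact inv_mulVec a rfl
    · intro h0
      refine Subtype.ext ?_
      have := h0 _ rfl
      rw [mul_mulVec] at this
      show mat a *ᵥ eV d e = mat b *ᵥ eV d e
      conv_lhs => rw [← this]
      rw [← mul_mulVec, mul_inv_cancel, mat_one, one_mulVec]
  have hidx : S.index = Nat.card T := by
    refine Nat.card_congr (Equiv.ofBijective (Quotient.lift f fun a b hab => (hfib a b).2 ?_) ⟨?_, ?_⟩)
    · exact QuotientGroup.leftRel_apply.1 hab
    · intro a b
      induction a using Quotient.inductionOn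
      induction b using Quotient.inductionOn
      exact fun h0 => Quotient.sound (QuotientGroup.leftRel_apply.2 ((hfib _ _).1 h0))
    · intro v
      obtain ⟨A, rfl⟩ := hfs v
      exact ⟨⟦A⟧, rfl⟩
  have hc : Nat.card T + 1 = UnitaryCount.cnt F q (2 + d) 0 := HermStab.card_isotropic hF
  obtain ⟨m, hm⟩ : ∃ m, 2 + d = m + 2 := ⟨d, by omega⟩
  rw [hm, HermStab.cnt_eq_fac hF] at hc
  have hT : Nat.card T = HermStab.fac q m * HermStab.fac q (m + 1) := by omega
  obtain ⟨n, hpp, hn⟩ := FiniteField.card F p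
  rw [hF] at hn
  have hpq : p ∣ q := hpp.dvd_of_dvd_pow (show p ∣ q ^ 2 by rw [hn]; exact dvd_pow_self p n.pos.ne')
  have hfac : ∀ i, ¬ p ∣ HermStab.fac q i := by
    intro i hdvd
    have h1 : p ∣ q ^ (i + 1) := hpq.trans (dvd_pow_self q (Nat.succ_ne_zero i))
    have hq1 : 1 ≤ q ^ (i + 1) := Nat.one_le_pow _ _ (by have := HermStd.one_lt_q hF; omega)
    unfold HermStab.fac at hdvd
    split_ifs at hdvd
    · exact hpp.one_lt.ne' (Nat.dvd_one.1 ((Nat.dvd_add_right h1).1 hdvd))
    · have h2 := Nat.dvd_sub h1 hdvd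
      rw [show q ^ (i + 1) - (q ^ (i + 1) - 1) = 1 by omega] at h2
      exact hpp.one_lt.ne' (Nat.dvd_one.1 h2)
  rw [hidx, hT]
  intro hd'
  rcases (hpp.dvd_mul).1 hd' with h' | h'
  · exact hfac _ h'
  · exact hfac _ h'

omit P in
/-- The descent step at the characteristic. -/
theorem triv_char (p : ℕ) [Fact p.Prime] [CharP F p] (hd : 1 ≤ d)
    (hcase : (q = 2 ∧ (d = 1 ∨ d = 3 ∨ d = 5)) ∨ (3 ≤ q ∧ (d ≠ 2 ∨ 4 ≤ q)))
    (hL : ∀ (E : Type v) [Group E] [Finite E] (σ : E →* ↥(Cfsg.SU (2 + d) F q)), Function.Surjective σ →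
      σ.ker ≤ Subgroup.center E → IsPGroup p σ.ker →
      Good σ (blkR (k := 2) (m := d) (F := F) (q := q)).range) : Triv.{u, v} p (Cfsg.SU (2 + d) F q) := by
  classical
  obtain ⟨e, h, P, he⟩ := Frame.exists_hyp hF
  refine Triv.of_sub _ (index_stab hF P p hd he) fun E _ _ σ hsurj hcen hker => ?_
  rw [stab_eq hF P]
  have hQL : ∀ l ∈ (blkR (k := 2) (m := d) (F := F) (q := q)).range, ∀ x ∈ heis hF P d,
      l * x * l⁻¹ ∈ heis hF P d := by
    rintro _ ⟨L, rfl⟩ x ⟨w, a, hx⟩
    exact ⟨_, _, blk_conj hF P L hx⟩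
  rcases hcase with ⟨hq, hdc⟩ | ⟨hq, hdc⟩
  · have hp2 : p = 2 := by
      obtain ⟨n, hpp, hn⟩ := FiniteField.card F p
      rw [hF, hq] at hn
      exact (Nat.prime_dvd_prime_iff_eq hpp Nat.prime_two).1 (hpp.dvd_of_dvd_pow
        (show p ∣ 2 ^ 2 by rw [hn]; exact dvd_pow_self p n.pos.ne'))
    subst hp2
    have hQ := HeisTwo.good_two hF P hsurj hcen hker hq (by omega) he
    rcases eq_or_ne d 1 with rfl | hd1
    · have hb : (blkR (k := 2) (m := 1) (F := F) (q := q)).range = ⊥ := by
        rw [eq_bot_iff]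
        rintro _ ⟨L, rfl⟩
        have hL1 : L = 1 := SU_ext fun v => funext fun i => by
          have hdet : (mat L).det = 1 := L.1.2
          rw [Matrix.det_fin_one] at hdet
          fin_cases i
          simp [Matrix.mulVec, dotProduct, mat_one, hdet]
        rw [hL1, map_one]
        exact one_mem _
      rw [hb, sup_bot_eq]
      exact hQ
    -- an element of order three
    obtain ⟨ν, hν, hν1⟩ : ∃ w : F, w ^ (q + 1) = 1 ∧ w ≠ 1 := by
      obtain ⟨g, hg⟩ := IsCyclic.exists_generator (α := (powMonoidHom (q + 1) : Fˣ →* Fˣ).ker)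
      refine ⟨((g : Fˣ) : F), by simpa using congrArg Units.val g.2, fun h1 => ?_⟩
      have ho := orderOf_eq_card_of_forall_mem_zpowers hg
      rw [natCard_normOne hF, show g = 1 from Subtype.ext (Units.ext h1), orderOf_one] at ho
      omega
    have hν0 : ν ≠ 0 := fun h0 => by simp [h0] at hν
    have hν3 : ν ^ 3 = 1 := by rw [hq] at hν; exact hν
    have hc : ν ^ d ≠ 0 := pow_ne_zero _ hν0
    have hdet : ν ^ d * ((ν ^ d) ^ q)⁻¹ * ∏ _i : Fin d, ν = 1 := by
      rw [Finset.prod_const, Finset.card_univ, Fintype.card_fin, hq]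
      field_simp
    refine Descent.good_semidirect σ hsurj hcen hQL (heis_inf hF P he)
      (t := Frame.tor hF P (ν ^ d) hc (fun _ => ν) (fun _ => hν) hdet) ?_ ?_ ?_ hQ (hL E σ hsurj hcen hker)
    · rintro _ ⟨L, rfl⟩
      refine SU_ext fun v => ?_
      rw [← eta v, mul_mulVec, mul_mulVec, blkR_mulVec, Frame.tor_mulVec, Frame.tor_mulVec, blkR_mulVec,
        show (fun i => ν * v (Fin.natAdd 2 i)) = ν • fun i => v (Fin.natAdd 2 i) from rfl, Matrix.mulVec_smul]
      rfl
    · rintro x ⟨w, a, hx⟩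
      exact ⟨_, _, tor_conj hF P _ hc _ (fun _ => hν) hdet hx⟩
    · rintro x ⟨w, a, hx⟩ hm
      rw [commutator_heis hF P hd] at hm ⊢
      obtain ⟨b, hb⟩ := hm
      have h1 := co_mul hF P (tor_conj hF P _ hc _ (fun _ => hν) hdet hx) (co_inv hF P hx)
      rw [← commutatorElement_def] at h1
      have h2 := (co_unique hF P hb h1 he).1
      have hl : (ν ^ d) ^ q * ν ≠ 1 := by
        rw [hq]
        rcases hdc with rfl | rfl | rfl
        · exact absurd rfl hd1
        · rw [show (ν ^ 3) ^ 2 * ν = ν by rw [hν3]; ring]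
          exact hν1
        · intro h5
          have : ν ^ 2 = 1 := by linear_combination h5 - (ν ^ 8 + ν ^ 5 + ν ^ 2) * hν3
          exact hν1 (by linear_combination hν3 - ν * this)
      refine ⟨a, ?_⟩
      have hw : w = 0 := by
        funext i
        have h3 := congrFun h2 i
        simp only [Pi.zero_apply, Pi.add_apply, Pi.neg_apply, Pi.smul_apply, smul_eq_mul] at h3
        have h4 : ((ν ^ d) ^ q * ν - 1) * w i = 0 := by linear_combination -h3
        exact (mul_eq_zero.1 h4).resolve_left (sub_ne_zero.2 hl)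
      rwa [hw] at hx
  · have hQ := good_of_section hF P hsurj hcen hd hq hdc he
    obtain ⟨c, hc0, hc1, hcq⟩ : ∃ c : F, c ≠ 0 ∧ c ≠ 1 ∧ c ^ q = c := by
      by_contra hcon
      push Not at hcon
      have h1 := natCard_fixField hF
      have : Fintype (fixField hF) := Fintype.ofFinite _
      rw [Nat.card_eq_fintype_card] at h1
      have hle : Fintype.card (fixField hF) ≤ ({0, 1} : Finset F).card := by
        rw [← Fintype.card_coe]
        refine Fintype.card_le_of_injective (fun x => ⟨x.1, ?_⟩) fun a b hab => Subtype.ext (by simpa using hab)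
        simp only [Finset.mem_insert, Finset.mem_singleton]
        by_contra hne
        push Not at hne
        exact hcon x.1 hne.1 hne.2 ((mem_fixField hF).1 x.2)
      have := Finset.card_le_two (a := (0 : F)) (b := 1)
      omega
    have hdet : c * (c ^ q)⁻¹ * ∏ _i : Fin d, (1 : F) = 1 := by
      rw [hcq, mul_inv_cancel₀ hc0, Finset.prod_const_one, mul_one]
    refine Descent.good_semidirect σ hsurj hcen hQL (heis_inf hF P he)
      (t := Frame.tor hF P c hc0 (fun _ => 1) (fun _ => one_pow _) hdet) ?_ ?_ ?_ hQ (hL E σ hsurj hcen hker)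
    · rintro _ ⟨L, rfl⟩
      refine SU_ext fun v => ?_
      rw [← eta v, mul_mulVec, mul_mulVec, blkR_mulVec, Frame.tor_mulVec, Frame.tor_mulVec, blkR_mulVec]
      simp
    · rintro x ⟨w, a, hx⟩
      exact ⟨_, _, tor_conj hF P _ hc0 _ (fun _ => one_pow _) hdet hx⟩
    · rintro x ⟨w, a, hx⟩ hm
      rw [commutator_heis hF P hd] at hm ⊢
      obtain ⟨b, hb⟩ := hm
      have h1 := co_mul hF P (tor_conj hF P _ hc0 _ (fun _ => one_pow _) hdet hx) (co_inv hF P hx)
      rw [← commutatorElement_def] at h1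
      have h2 := (co_unique hF P hb h1 he).1
      refine ⟨a, ?_⟩
      have hw : w = 0 := by
        funext i
        have h3 := congrFun h2 i
        simp only [Pi.zero_apply, Pi.add_apply, Pi.neg_apply, Pi.smul_apply, smul_eq_mul, one_mul, hcq] at h3
        have h4 : (c - 1) * w i = 0 := by linear_combination -h3
        exact (mul_eq_zero.1 h4).resolve_left (sub_ne_zero.2 hc1)
      rwa [hw] at hx

omit P in
/-- The block lies in a group of one dimension more. -/
theorem good_block {r : ℕ} {E : Type v} [Group E] [Finite E] (σ : E →* ↥(Cfsg.SU (2 + d) F q))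
    (hsurj : Function.Surjective σ) (hcen : σ.ker ≤ Subgroup.center E) (hker : IsPGroup r σ.ker)
    (ht : Triv.{u, v} r (Cfsg.SU (1 + d) F q)) : Good σ (blkR (k := 2) (m := d) (F := F) (q := q)).range := by
  obtain ⟨φ⟩ := CosetGeom.fix_one_equiv hF (show 2 + d = 1 + (1 + d) by omega)
    (x := stdF (F := F) 2 d 0) (by rw [stdF, H_single_single hF, if_pos rfl])
  have hle : (blkR (k := 2) (m := d) (F := F) (q := q)).range ≤ fix ({stdF (F := F) 2 d 0} : Set _) := by
    rw [← fix_std hF]
    exact fix_mono (by simp)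
  exact Good.mono hle (good_of_triv σ hsurj hcen hker (ht.congr φ.symm))

omit P in
/-- A block of the same dimension. -/
theorem good_block_self {r : ℕ} {E : Type v} [Group E] [Finite E] (σ : E →* ↥(Cfsg.SU (2 + d) F q))
    (hsurj : Function.Surjective σ) (hcen : σ.ker ≤ Subgroup.center E) (hker : IsPGroup r σ.ker)
    (ht : Triv.{u, v} r (Cfsg.SU d F q)) : Good σ (blkR (k := 2) (m := d) (F := F) (q := q)).range :=
  good_of_triv σ hsurj hcen hker (ht.congr (MonoidHom.ofInjective (blkR_injective hF)))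

end Cfsg.Agent.SimpleFacts.SUMult.PPart
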