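import Cfsg.Agent.SimpleFacts.SUMult.CosetStep
import Cfsg.Agent.SimpleFacts.SUMult.CosetFour
import Cfsg.Agent.SimpleFacts.SUMult.BaseThree
import Cfsg.Agent.SimpleFacts.SUMult.BaseTwo
import Cfsg.Agent.SimpleFacts.SUMult.PPart
import Cfsg.Agent.SimpleFacts.SchurFromCover
import Cfsg.Agent.GStructB.StemExt
import Mathlib

/-!
The multiplier of the special unitary groups is trivial outside the exceptional cases.
-/

set_option autoImplicit false
set_option linter.unusedSectionVars false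
set_option linter.unusedSimpArgs false

namespace Cfsg.Agent.SimpleFacts.SUMult.Main

open Matrix
open Cfsg.Agent.Forms Cfsg.Agent.Classical Cfsg.Agent.Classical.Unitary
open Cfsg.Agent.SimpleFacts.SUMult Ext Blocks

universe u v

variable {F : Type u} [Field F] [Fintype F] {q : ℕ}

theorem coAb_big (hF : Fintype.card F = q ^ 2) {r : ℕ} [Fact r.Prime] {n : ℕ} (hn : 3 ≤ n)
    (h : ¬ (n = 3 ∧ q = 2)) : CoAb r (Cfsg.SU n F q) :=
  CoAb.of_commutator_eq_top (Fact.out : r.Prime).one_lt.ne' (commutator_SU_eq_top hF hn h)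

theorem triv_one (hF : Fintype.card F = q ^ 2) {r : ℕ} [Fact r.Prime] : Triv.{u, v} r (Cfsg.SU 1 F q) := by
  refine Triv.of_sq_not_dvd ?_
  have h1 : Nat.card (Cfsg.SU 1 F q) = 1 := by
    rw [Nat.card_eq_one_iff_unique]
    refine ⟨⟨fun a b => SU_ext fun v => funext fun i => ?_⟩, ⟨1⟩⟩
    have ha : (mat a).det = 1 := a.1.2
    have hb : (mat b).det = 1 := b.1.2
    rw [Matrix.det_fin_one] at ha hb
    fin_cases i
    simp [Matrix.mulVec, dotProduct, ha, hb]
  rw [h1, Nat.dvd_one]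
  exact fun h => (Fact.out : r.Prime).one_lt.ne' ((pow_eq_one_iff.1 h).resolve_right two_ne_zero)

variable (hF : Fintype.card F = q ^ 2) (p : ℕ) [Fact p.Prime] [CharP F p]
include hF

theorem triv_big (hq : 3 ≤ q) : ∀ n : ℕ, 3 ≤ n → ∀ r : ℕ, r.Prime → ¬ (r = p ∧ n = 4 ∧ q = 3) →
    Triv.{u, v} r (Cfsg.SU n F q) := by
  intro n
  induction n using Nat.strong_induction_on with
  | _ n ih =>
    intro hn r hr hexc
    have : Fact r.Prime := ⟨hr⟩
    have hne : ∀ m, ¬ (m = 3 ∧ q = 2) := fun m h => by omega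
    rcases (show n = 3 ∨ n = 4 ∨ 5 ≤ n by omega) with rfl | rfl | hn5
    · by_cases hrp : r = p
      · subst hrp
        exact PPart.triv_char hF r (d := 1) le_rfl (Or.inr ⟨hq, Or.inl (by norm_num)⟩)
          fun E _ _ σ h1 h2 h3 => PPart.good_block_self hF σ h1 h2 h3 (triv_one hF)
      · exact BaseThree.triv_three hF p hrp
    · by_cases hrp : r = p
      · subst hrp
        have hq4 : 4 ≤ q := by
          by_contra h
          exact hexc ⟨rfl, rfl, by omega⟩
        exact PPart.triv_char hF r (d := 2) (by norm_num) (Or.inr ⟨hq, Or.inr hq4⟩)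
          fun E _ _ σ h1 h2 h3 => PPart.good_block hF σ h1 h2 h3
            (ih 3 (by norm_num) le_rfl r hr (by rintro ⟨-, h, -⟩; omega))
      · exact CosetFour.triv_four hF hq p hrp (m := 2) rfl
          (ih 3 (by norm_num) le_rfl r hr (by rintro ⟨-, h, -⟩; omega)) (coAb_big hF le_rfl (hne _))
          (Point.coAb_of_ne_char hF p hrp (by norm_num) (by norm_num))
    · by_cases h53 : r = p ∧ n = 5 ∧ q = 3
      · obtain ⟨rfl, rfl, rfl⟩ := h53
        exact PPart.triv_char hF r (d := 3) (by norm_num) (Or.inr ⟨le_rfl, Or.inl (by norm_num)⟩)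
          fun E _ _ σ h1 h2 h3 => PPart.good_block_self hF σ h1 h2 h3
            (ih 3 (by norm_num) le_rfl r hr (by rintro ⟨-, h, -⟩; omega))
      · obtain ⟨m, rfl⟩ : ∃ m, n = 2 + m := ⟨n - 2, by omega⟩
        exact CosetStep.triv_step hF (by omega) (Or.inl hq)
          (ih (1 + m) (by omega) (by omega) r hr (by
            rintro ⟨h1, h2, h3⟩
            exact h53 ⟨h1, by omega, h3⟩))
          (coAb_big hF (by omega) (hne _)) (coAb_big hF (by omega) (hne _))

omit hF [Fact p.Prime] [CharP F p] in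
theorem small_sq {r N M a b : ℕ} (hr : r.Prime) (h2 : r ≠ 2) (h3 : r ≠ 3) (hN : N = 2 ^ a * 3 ^ b * M)
    (h : r ^ 2 ∣ N) : r ^ 2 ∣ M := by
  refine Nat.Coprime.dvd_of_dvd_mul_left ?_ (hN ▸ h)
  exact Nat.Coprime.mul_right
    (Nat.Coprime.pow 2 a ((Nat.coprime_primes hr Nat.prime_two).2 h2))
    (Nat.Coprime.pow 2 b ((Nat.coprime_primes hr Nat.prime_three).2 h3))

theorem triv_four_two (hq : q = 2) {r : ℕ} (hr : r.Prime) (hr2 : r ≠ 2) (hp : p = 2) :
    Triv.{u, v} r (Cfsg.SU 4 F q) := by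
  have : Fact r.Prime := ⟨hr⟩
  by_cases hr3 : r = 3
  · subst hr3
    refine Point.triv_point hF (m := 3) (BaseThree.triv_three hF p (by omega)) (BaseThree.coAb_three_two hF hq) ?_
    intro hd
    have h := Point.natCard_point_index hF (m := 3) (by norm_num)
    rw [if_neg (by decide)] at h
    have key : ∀ I : ℕ, 3 ∣ I → I * (2 + 1) = 2 ^ 3 * (2 ^ (3 + 1) - 1) → False := fun I h1 h2 => by omega
    rw [show q + 1 = 2 + 1 by omega, show q ^ (3 + 1) - 1 = 2 ^ (3 + 1) - 1 by rw [hq],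
      show q ^ 3 = 2 ^ 3 by rw [hq]] at h
    exact key _ hd h
  · refine Triv.of_sq_not_dvd fun h => ?_
    rw [BaseTwo.natCard_four hF hq] at h
    have h5 := small_sq hr hr2 hr3 (show (25920 : ℕ) = 2 ^ 6 * 3 ^ 4 * 5 by norm_num) h
    have := Nat.le_of_dvd (by norm_num) h5
    have := hr.two_le
    have : r = 2 := by nlinarith
    exact hr2 this

theorem triv_five_two (hq : q = 2) {r : ℕ} (hr : r.Prime) (hp : p = 2) :
    Triv.{u, v} r (Cfsg.SU 5 F q) := by
  have : Fact r.Prime := ⟨hr⟩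
  by_cases hr2 : r = 2
  · subst hp
    subst hr2
    refine PPart.triv_char hF 2 (d := 3) (by norm_num) (Or.inl ⟨hq, Or.inr (Or.inl rfl)⟩)
      fun E _ _ σ h1 h2 h3 => PPart.good_block_self hF σ h1 h2 h3 ?_
    exact PPart.triv_char hF 2 (d := 1) le_rfl (Or.inl ⟨hq, Or.inl rfl⟩)
      fun E _ _ σ h1 h2 h3 => PPart.good_block_self hF σ h1 h2 h3 (triv_one hF)
  by_cases hr3 : r = 3
  · subst hr3
    refine Point.triv_point hF (m := 4) (triv_four_two hF p hq hr hr2 hp) (coAb_big hF (by norm_num) (by omega)) ?_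
    intro hd
    have h := Point.natCard_point_index hF (m := 4) (by norm_num)
    rw [if_pos (by decide)] at h
    have key : ∀ I : ℕ, 3 ∣ I → I * (2 + 1) = 2 ^ 4 * (2 ^ (4 + 1) + 1) → False := fun I h1 h2 => by omega
    rw [show q + 1 = 2 + 1 by omega, show q ^ (4 + 1) + 1 = 2 ^ (4 + 1) + 1 by rw [hq],
      show q ^ 4 = 2 ^ 4 by rw [hq]] at h
    exact key _ hd h
  · refine Triv.of_sq_not_dvd fun h => ?_
    rw [BaseTwo.natCard_five hF hq] at h
    have h5 := small_sq hr hr2 hr3 (show (13685760 : ℕ) = 2 ^ 10 * 3 ^ 5 * 55 by norm_num) h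
    have hd : r ∣ 5 * 11 := (dvd_pow_self r two_ne_zero).trans h5
    rcases hr.dvd_mul.1 hd with hd | hd
    · rw [(Nat.prime_dvd_prime_iff_eq hr (by norm_num)).1 hd] at h5
      norm_num at h5
    · rw [(Nat.prime_dvd_prime_iff_eq hr (by norm_num)).1 hd] at h5
      norm_num at h5

theorem triv_seven_two (hq : q = 2) {r : ℕ} (hr : r.Prime) (hp : p = 2) :
    Triv.{u, v} r (Cfsg.SU 7 F q) := by
  have : Fact r.Prime := ⟨hr⟩
  by_cases hr2 : r = 2
  · subst hp
    subst hr2
    exact PPart.triv_char hF 2 (d := 5) (by norm_num) (Or.inl ⟨hq, Or.inr (Or.inr rfl)⟩)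
      fun E _ _ σ h1 h2 h3 => PPart.good_block_self hF σ h1 h2 h3 (triv_five_two hF 2 hq Nat.prime_two rfl)
  by_cases hr3 : r = 3
  · subst hr3
    exact BaseTwo.triv_seven hF hq (BaseThree.triv_three hF p (by omega)) (triv_four_two hF p hq hr hr2 hp)
      (BaseThree.coAb_three_two hF hq) (coAb_big hF (by norm_num) (by omega))
  · refine Triv.of_sq_not_dvd fun h => ?_
    rw [BaseTwo.natCard_seven hF hq] at h
    have h5 := small_sq hr hr2 hr3 (show (227787103272960 : ℕ) = 2 ^ 21 * 3 ^ 8 * 16555 by norm_num) h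
    have hd : r ∣ 5 * (7 * (11 * 43)) := (dvd_pow_self r two_ne_zero).trans h5
    rcases hr.dvd_mul.1 hd with hd | hd
    · rw [(Nat.prime_dvd_prime_iff_eq hr (by norm_num)).1 hd] at h5
      norm_num at h5
    rcases hr.dvd_mul.1 hd with hd | hd
    · rw [(Nat.prime_dvd_prime_iff_eq hr (by norm_num)).1 hd] at h5
      norm_num at h5
    rcases hr.dvd_mul.1 hd with hd | hd
    · rw [(Nat.prime_dvd_prime_iff_eq hr (by norm_num)).1 hd] at h5
      norm_num at h5
    · rw [(Nat.prime_dvd_prime_iff_eq hr (by norm_num)).1 hd] at h5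
      norm_num at h5

theorem triv_two_big (hq : q = 2) : ∀ n : ℕ, 3 ≤ n → n ≠ 3 → n ≠ 4 → n ≠ 6 → ∀ r : ℕ, r.Prime →
    Triv.{u, v} r (Cfsg.SU n F q) := by
  obtain ⟨p, hpc⟩ := CharP.exists F
  have : Fact p.Prime := ⟨CharP.char_is_prime F p⟩
  have hp : p = 2 := by
    obtain ⟨n, hpp, hn⟩ := FiniteField.card F p
    rw [hF, hq] at hn
    exact (Nat.prime_dvd_prime_iff_eq hpp Nat.prime_two).1 (hpp.dvd_of_dvd_pow
      (show p ∣ 2 ^ 2 by rw [hn]; exact dvd_pow_self p n.pos.ne'))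
  intro n
  induction n using Nat.strong_induction_on with
  | _ n ih =>
    intro hn h3 h4 h6 r hr
    have : Fact r.Prime := ⟨hr⟩
    rcases (show n = 5 ∨ n = 7 ∨ 8 ≤ n by omega) with rfl | rfl | hn8
    · exact triv_five_two hF p hq hr hp
    · exact triv_seven_two hF p hq hr hp
    · obtain ⟨m, rfl⟩ : ∃ m, n = 2 + m := ⟨n - 2, by omega⟩
      exact CosetStep.triv_step hF (by omega) (Or.inr (by omega))
        (ih (1 + m) (by omega) (by omega) (by omega) (by omega) (by omega) r hr)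
        (coAb_big hF (by omega) (by omega)) (coAb_big hF (by omega) (by omega))

omit p [Fact p.Prime] [CharP F p] in
/-- The special unitary groups have trivial multiplier. -/
theorem main (n : ℕ) (hn : 3 ≤ n) (h3 : ¬ (n = 3 ∧ q = 2)) (h42 : ¬ (n = 4 ∧ q = 2)) (h43 : ¬ (n = 4 ∧ q = 3))
    (h62 : ¬ (n = 6 ∧ q = 2)) : Cfsg.HasCyclicSchurMultiplier (Cfsg.SU n F q) 1 := by
  obtain ⟨p, hpc⟩ := CharP.exists F
  have : Fact p.Prime := ⟨CharP.char_is_prime F p⟩
  refine GStructB.StemExt.hasCyclicSchurMultiplier_one fun E _ _ σ hσ => ker_bot σ hσ fun r hr => ?_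
  have hq1 := HermStd.one_lt_q hF
  rcases (show q = 2 ∨ 3 ≤ q by omega) with hq | hq
  · exact triv_two_big hF hq n hn (by omega) (by omega) (by omega) r hr
  · exact triv_big hF p hq n hn r hr (by omega)

omit p [Fact p.Prime] [CharP F p] in
theorem center_cyclic (n : ℕ) (hn : 2 ≤ n) : IsCyclic (Subgroup.center (Cfsg.SU n F q)) := by
  let f : Subgroup.center (Cfsg.SU n F q) →* F :=
    { toFun := fun z => mat z.1 ⟨0, by omega⟩ ⟨0, by omega⟩
      map_one' := by
        show mat (1 : Cfsg.SU n F q) _ _ = 1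
        rw [mat_one, Matrix.one_apply_eq]
      map_mul' := fun a b => by
        obtain ⟨x, hx⟩ := (mem_center_iff hF hn a.1).1 a.2
        show mat (a.1 * b.1) _ _ = mat a.1 _ _ * mat b.1 _ _
        rw [mat_mul, hx, Matrix.smul_mul, Matrix.one_mul]
        simp }
  refine isCyclic_of_subgroup_isDomain f fun a b h => Subtype.ext (SU_ext fun v => ?_)
  obtain ⟨x, hx⟩ := (mem_center_iff hF hn a.1).1 a.2
  obtain ⟨y, hy⟩ := (mem_center_iff hF hn b.1).1 b.2
  have h1 : mat a.1 ⟨0, by omega⟩ ⟨0, by omega⟩ = mat b.1 ⟨0, by omega⟩ ⟨0, by omega⟩ := h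
  rw [hx, hy] at h1
  simp at h1
  rw [hx, hy, h1]

end Cfsg.Agent.SimpleFacts.SUMult.Main
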