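import Cfsg.Agent.SimpleFacts.SLnSystem
import Cfsg.Agent.SimpleFacts.SpMult.Lifts
import Mathlib

/-!
Central extensions by a finite `r`-group: when does the derived group of a preimage meet the kernel trivially,
local lifts of subgroups whose abelianisation is prime to `r`.
-/

set_option autoImplicit false
set_option linter.unusedSectionVars false

namespace Cfsg.Agent.SimpleFacts.SUMult.Ext

open scoped commutatorElement

universe u v w

/-- Every central extension by an `r`-group has derived group meeting the kernel trivially. -/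
def Triv (r : ℕ) (G : Type u) [Group G] : Prop :=
  ∀ (E : Type v) [Group E] [Finite E] (σ : E →* G), Function.Surjective σ → σ.ker ≤ Subgroup.center E →
    IsPGroup r σ.ker → ∀ z ∈ σ.ker, z ∈ commutator E → z = 1

/-- The abelianisation has exponent prime to `r`. -/
def CoAb (r : ℕ) (G : Type u) [Group G] : Prop := ∀ g : G, ∃ m : ℕ, ¬ r ∣ m ∧ g ^ m ∈ commutator G

theorem CoAb.congr {r : ℕ} {G : Type u} [Group G] {G' : Type w} [Group G'] (h : CoAb r G) (e : G ≃* G') :
    CoAb r G' := fun g => by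
  obtain ⟨m, hm, hg⟩ := h (e.symm g)
  refine ⟨m, hm, ?_⟩
  have := Subgroup.mem_map_of_mem e.toMonoidHom hg
  rw [_root_.commutator_def, Subgroup.map_commutator] at this
  have h2 := Subgroup.commutator_mono le_top le_top this
  rw [← _root_.commutator_def] at h2
  simpa using h2

theorem CoAb.of_commutator_eq_top {r : ℕ} (hr : r ≠ 1) {G : Type u} [Group G] (h : commutator G = ⊤) :
    CoAb r G := fun g => ⟨1, by simpa using hr, by rw [h]; trivial⟩

theorem coAb_of_subsingleton {r : ℕ} (hr : r ≠ 1) (G : Type u) [Group G] [Subsingleton G] : CoAb r G :=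
  fun g => ⟨1, by simpa using hr, by rw [Subsingleton.elim (g ^ 1) 1]; exact one_mem _⟩

section ext

variable {G : Type u} [Group G] {E : Type v} [Group E] [Finite E] (σ : E →* G)

/-- The derived group of the preimage meets the kernel trivially. -/
def Good (A : Subgroup G) : Prop := ∀ z ∈ σ.ker, z ∈ ⁅A.comap σ, A.comap σ⁆ → z = 1

theorem Good.mono {σ : E →* G} {A B : Subgroup G} (h : A ≤ B) (hB : Good σ B) : Good σ A := fun z hz hd =>
  hB z hz (Subgroup.commutator_mono (Subgroup.comap_mono h) (Subgroup.comap_mono h) hd)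

variable {r : ℕ} (hsurj : Function.Surjective σ) (hcen : σ.ker ≤ Subgroup.center E) (hker : IsPGroup r σ.ker)
include hsurj hcen hker

theorem good_of_triv {A : Subgroup G} (hA : Triv.{u, v} r A) : Good σ A := by
  intro z hz hd
  let τ : A.comap σ →* A := (σ.comp (A.comap σ).subtype).codRestrict A fun y => y.2
  have hτ : Function.Surjective τ := fun a => by
    obtain ⟨y, hy⟩ := hsurj a.1
    exact ⟨⟨y, show σ y ∈ A by rw [hy]; exact a.2⟩, Subtype.ext hy⟩
  have hk : ∀ y : A.comap σ, y ∈ τ.ker ↔ y.1 ∈ σ.ker := fun y => by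
    simp only [MonoidHom.mem_ker]
    exact ⟨fun h => congrArg Subtype.val h, fun h => Subtype.ext h⟩
  have hc : τ.ker ≤ Subgroup.center (A.comap σ) := fun y hy => Subgroup.mem_center_iff.2 fun g =>
    Subtype.ext (Subgroup.mem_center_iff.1 (hcen ((hk y).1 hy)) g.1)
  have hp : IsPGroup r τ.ker := fun y => by
    obtain ⟨k, hk'⟩ := hker ⟨y.1.1, (hk y.1).1 y.2⟩
    have := congrArg Subtype.val hk'
    exact ⟨k, Subtype.ext (Subtype.ext this)⟩
  rw [← Subgroup.map_subtype_commutator] at hd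
  obtain ⟨z', hz', rfl⟩ := hd
  exact congrArg Subtype.val (hA _ τ hτ hc hp z' ((hk z').2 hz) hz')

/-- A central element of the derived group lies in the derived group of a subgroup of index prime to `r`. -/
theorem mem_sub [Fact r.Prime] {A : Subgroup G} (hidx : ¬ r ∣ A.index) {z : E} (hz : z ∈ σ.ker)
    (hd : z ∈ commutator E) : z ∈ ⁅A.comap σ, A.comap σ⁆ := by
  obtain ⟨k, hk⟩ := hker ⟨z, hz⟩
  refine SLnSystem.mem_derived_of_index (σ := σ) hcen _ (fun x hx => ?_) ?_ hz hd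
    ⟨k, congrArg Subtype.val hk⟩
  · show σ x ∈ A
    rw [MonoidHom.mem_ker.1 hx]
    exact one_mem A
  · rwa [Subgroup.index_comap_of_surjective _ hsurj]

end ext

/-- It suffices to control a subgroup of index prime to `r`. -/
theorem Triv.of_sub {r : ℕ} [Fact r.Prime] {G : Type u} [Group G] (A : Subgroup G) (hidx : ¬ r ∣ A.index)
    (h : ∀ (E : Type v) [Group E] [Finite E] (σ : E →* G), Function.Surjective σ →
      σ.ker ≤ Subgroup.center E → IsPGroup r σ.ker → Good σ A) : Triv.{u, v} r G := by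
  intro E _ _ σ h1 h2 h3 z hz hd
  exact h E σ h1 h2 h3 z hz (mem_sub σ h1 h2 h3 hidx hz hd)

theorem Triv.congr {r : ℕ} {G : Type u} [Group G] {G' : Type w} [Group G'] (h : Triv.{u, v} r G)
    (e : G ≃* G') : Triv.{w, v} r G' := by
  intro E _ _ σ h1 h2 h3 z hz hd
  have hk : (e.symm.toMonoidHom.comp σ).ker = σ.ker := by
    ext x
    simp [MonoidHom.mem_ker]
  exact h E (e.symm.toMonoidHom.comp σ) (e.symm.surjective.comp h1) (hk.le.trans h2)
    (fun x => by
      obtain ⟨k, hx⟩ := h3 ⟨x.1, hk.le x.2⟩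
      refine ⟨k, Subtype.ext ?_⟩
      have h4 := congrArg Subtype.val hx
      simp only [SubgroupClass.coe_pow, OneMemClass.coe_one] at h4 ⊢
      exact h4) z (hk.ge hz) hd

/-- Preimages of cyclic groups are abelian. -/
theorem good_of_cyclic {G : Type u} [Group G] {E : Type v} [Group E] [Finite E] (σ : E →* G)
    (hcen : σ.ker ≤ Subgroup.center E) (A : Subgroup G) [IsCyclic A] : Good σ A := by
  intro z _ hd
  let τ : A.comap σ →* A := (σ.comp (A.comap σ).subtype).codRestrict A fun y => y.2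
  have hk : τ.ker ≤ Subgroup.center (A.comap σ) := fun y hy => Subgroup.mem_center_iff.2 fun g =>
    Subtype.ext (Subgroup.mem_center_iff.1 (hcen (MonoidHom.mem_ker.2
      (congrArg Subtype.val (MonoidHom.mem_ker.1 hy)))) g.1)
  have hc := τ.isMulCommutative_of_isCyclic_of_ker_le_center hk
  have : ⁅A.comap σ, A.comap σ⁆ = ⊥ := by
    rw [eq_bot_iff, Subgroup.commutator_le]
    intro a ha b hb
    rw [Subgroup.mem_bot, commutatorElement_eq_one_iff_mul_comm]
    exact congrArg Subtype.val (hc.is_comm.comm ⟨a, ha⟩ ⟨b, hb⟩)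
  rwa [this, Subgroup.mem_bot] at hd

theorem Triv.of_cyclic {r : ℕ} [Fact r.Prime] {G : Type u} [Group G] (A : Subgroup G) [IsCyclic A]
    (hidx : ¬ r ∣ A.index) : Triv.{u, v} r G :=
  Triv.of_sub A hidx fun _ _ _ σ _ h2 _ => good_of_cyclic σ h2 A

/-- A Sylow subgroup of order at most `r` suffices. -/
theorem Triv.of_sq_not_dvd {r : ℕ} [Fact r.Prime] {G : Type u} [Group G] [Finite G]
    (h : ¬ r ^ 2 ∣ Nat.card G) : Triv.{u, v} r G := by
  obtain ⟨P⟩ : Nonempty (Sylow r G) := inferInstance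
  have hc : IsCyclic (P : Subgroup G) := by
    obtain ⟨k, hk⟩ := IsPGroup.iff_card.1 P.isPGroup'
    have hd : r ^ k ∣ Nat.card G := hk ▸ (P : Subgroup G).card_subgroup_dvd_card
    rcases k with _ | _ | k
    · rw [pow_zero] at hk
      have := (Nat.card_eq_one_iff_unique.1 hk).1
      exact isCyclic_of_subsingleton
    · rw [pow_one] at hk
      exact isCyclic_of_prime_card hk
    · exact absurd ((pow_dvd_pow r (by omega)).trans hd) h
  exact Triv.of_cyclic (P : Subgroup G) P.not_dvd_index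

/-! ### Local lifts -/

section loc

variable {G : Type u} [Group G] {E : Type v} [Group E] [Finite E] (σ : E →* G) (r : ℕ)

/-- The part of the preimage which is prime to `r` modulo its derived group. -/
noncomputable def Loc (A : Subgroup G) : Subgroup E :=
  (((powMonoidHom (ordCompl[r] (Nat.card E))).comp
    (Abelianization.of : A.comap σ →* Abelianization (A.comap σ))).ker).map (A.comap σ).subtype

theorem mem_Loc {A : Subgroup G} {g : E} :
    g ∈ Loc σ r A ↔ σ g ∈ A ∧ g ^ ordCompl[r] (Nat.card E) ∈ ⁅A.comap σ, A.comap σ⁆ := by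
  rw [← Subgroup.map_subtype_commutator]
  constructor
  · rintro ⟨y, hy, rfl⟩
    refine ⟨y.2, ⟨y ^ ordCompl[r] (Nat.card E), ?_, rfl⟩⟩
    rw [← Abelianization.ker_of, SetLike.mem_coe, MonoidHom.mem_ker, map_pow]
    exact MonoidHom.mem_ker.1 hy
  · rintro ⟨h1, ⟨y, hy, he⟩⟩
    refine ⟨⟨g, h1⟩, ?_, rfl⟩
    have : y = (⟨g, h1⟩ : A.comap σ) ^ ordCompl[r] (Nat.card E) := Subtype.ext he
    rw [this, SetLike.mem_coe, ← Abelianization.ker_of, MonoidHom.mem_ker, map_pow] at hy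
    exact hy

theorem Loc_image {A : Subgroup G} {g : E} (hg : g ∈ Loc σ r A) : σ g ∈ A := ((mem_Loc σ r).1 hg).1

theorem Loc_mono {A B : Subgroup G} (h : A ≤ B) : Loc σ r A ≤ Loc σ r B := fun g hg => by
  obtain ⟨h1, h2⟩ := (mem_Loc σ r).1 hg
  exact (mem_Loc σ r).2 ⟨h h1, Subgroup.commutator_mono (Subgroup.comap_mono h) (Subgroup.comap_mono h) h2⟩

theorem Loc_conj (x : E) {A B : Subgroup G} (h : ∀ a ∈ A, σ x * a * (σ x)⁻¹ ∈ B) {g : E}
    (hg : g ∈ Loc σ r A) : x * g * x⁻¹ ∈ Loc σ r B := by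
  obtain ⟨h1, h2⟩ := (mem_Loc σ r).1 hg
  refine (mem_Loc σ r).2 ⟨by rw [map_mul, map_mul, map_inv]; exact h _ h1, ?_⟩
  rw [conj_pow]
  have h3 := Subgroup.mem_map_of_mem (MulAut.conj x).toMonoidHom h2
  rw [Subgroup.map_commutator] at h3
  refine Subgroup.commutator_mono ?_ ?_ h3 <;>
  · rintro _ ⟨y, hy, rfl⟩
    show σ (x * y * x⁻¹) ∈ B
    rw [map_mul, map_mul, map_inv]
    exact h _ hy

variable [Fact r.Prime]

theorem eq_one_of_pow {z : E} (hker : IsPGroup r σ.ker) (hz : z ∈ σ.ker)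
    (h : z ^ ordCompl[r] (Nat.card E) = 1) : z = 1 := by
  obtain ⟨k, hk⟩ := hker ⟨z, hz⟩
  have h1 : orderOf z ∣ r ^ k := orderOf_dvd_of_pow_eq_one (congrArg Subtype.val hk)
  have h2 := orderOf_dvd_of_pow_eq_one h
  obtain ⟨j, -, hj⟩ := (Nat.dvd_prime_pow Fact.out).1 h1
  rcases j with _ | j
  · exact orderOf_eq_one_iff.1 (by rw [hj, pow_zero])
  · rw [hj] at h2
    exact absurd ((dvd_pow_self r (Nat.succ_ne_zero j)).trans h2)
      (Nat.not_dvd_ordCompl Fact.out Nat.card_pos.ne')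

theorem Loc_inj {A : Subgroup G} (hker : IsPGroup r σ.ker) (hA : Good σ A) {g : E} (hg : g ∈ Loc σ r A)
    (h1 : σ g = 1) : g = 1 :=
  eq_one_of_pow σ r hker h1 (hA _ (pow_mem (MonoidHom.mem_ker.2 h1) _) ((mem_Loc σ r).1 hg).2)

theorem Loc_ext {A : Subgroup G} (hker : IsPGroup r σ.ker) (hA : Good σ A) {g g' : E} (hg : g ∈ Loc σ r A)
    (hg' : g' ∈ Loc σ r A) (h : σ g = σ g') : g = g' :=
  inv_mul_eq_one.1 (Loc_inj σ r hker hA (mul_mem (inv_mem hg) hg') (by rw [map_mul, map_inv, h, inv_mul_cancel]))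

theorem Loc_surj (hsurj : Function.Surjective σ) {A : Subgroup G} (hA : CoAb r A) {a : G} (ha : a ∈ A) :
    ∃ g ∈ Loc σ r A, σ g = a := by
  obtain ⟨g, rfl⟩ := hsurj a
  obtain ⟨m', hm', hd⟩ := hA ⟨σ g, ha⟩
  set N := Nat.card E with hN
  set m := ordCompl[r] N with hm
  set R := r ^ N.factorization r with hR
  have hN0 : N ≠ 0 := Nat.card_pos.ne'
  have hgA : (σ g) ^ m ∈ ⁅A, A⁆ := by
    rw [← Subgroup.map_subtype_commutator]
    refine ⟨(⟨σ g, ha⟩ : A) ^ m, ?_, rfl⟩
    rw [SetLike.mem_coe, ← Abelianization.ker_of, MonoidHom.mem_ker, map_pow, ← orderOf_eq_one_iff]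
    set x := Abelianization.of (⟨σ g, ha⟩ : A) with hx
    have hxm : x ^ m' = 1 := by
      rw [hx, ← map_pow, ← MonoidHom.mem_ker, Abelianization.ker_of]
      exact hd
    have h1 : (x ^ m) ^ R = 1 := by
      rw [← pow_mul, mul_comm m, hR, hm, Nat.ordProj_mul_ordCompl_eq_self, hx, ← map_pow]
      have : (⟨σ g, ha⟩ : A) ^ N = 1 := Subtype.ext (by
        show σ g ^ N = 1
        rw [← map_pow, hN, pow_card_eq_one', map_one])
      rw [this, map_one]
    have h2 : (x ^ m) ^ m' = 1 := by rw [← pow_mul, mul_comm m, pow_mul, hxm, one_pow]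
    have hco : Nat.Coprime R m' := Nat.Coprime.pow_left _ ((Fact.out : r.Prime).coprime_iff_not_dvd.2 hm')
    exact Nat.eq_one_of_dvd_coprimes hco (orderOf_dvd_of_pow_eq_one h1) (orderOf_dvd_of_pow_eq_one h2)
  have hcop : IsCoprime (R : ℤ) (m : ℤ) := Int.isCoprime_iff_gcd_eq_one.2 (by
    rw [Int.gcd_natCast_natCast]
    exact Nat.Coprime.pow_left _ ((Fact.out : r.Prime).coprime_iff_not_dvd.2
      (Nat.not_dvd_ordCompl Fact.out hN0)))
  obtain ⟨a, b, hab⟩ := hcop
  have hmap : ⁅A, A⁆ = (⁅A.comap σ, A.comap σ⁆).map σ := by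
    rw [Subgroup.map_commutator, Subgroup.map_comap_eq_self_of_surjective hsurj]
  rw [hmap] at hgA
  obtain ⟨d, hd', he⟩ := hgA
  have hdA : σ d ∈ A := by rw [he]; exact pow_mem ha _
  refine ⟨g ^ (a * R) * d ^ b, mul_mem ((mem_Loc σ r).2 ⟨?_, ?_⟩) (zpow_mem ((mem_Loc σ r).2 ⟨hdA, ?_⟩) _), ?_⟩
  · rw [map_zpow]
    exact zpow_mem ha _
  · have : (g ^ (a * (R : ℤ))) ^ m = 1 := by
      have h0 : g ^ (R * m) = 1 := by
        rw [hR, hm, Nat.ordProj_mul_ordCompl_eq_self, hN, pow_card_eq_one']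
      rw [← zpow_natCast, ← zpow_mul, show a * (R : ℤ) * (m : ℤ) = ((R * m : ℕ) : ℤ) * a by push_cast; ring,
        zpow_mul, zpow_natCast, h0, one_zpow]
    rw [this]
    exact one_mem _
  · exact pow_mem hd' _
  · rw [map_mul, map_zpow, map_zpow, he, ← zpow_natCast (σ g), ← zpow_mul, ← zpow_add, mul_comm (m : ℤ), hab,
      zpow_one]

end loc

/-! ### Assembly -/

/-- A stem extension is trivial if each prime is. -/
theorem ker_bot {G : Type u} [Group G] {E : Type v} [Group E] [Finite E] (σ : E →* G)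
    (hσ : Cfsg.IsStemExtension σ) (h : ∀ r : ℕ, r.Prime → Triv.{u, v} r G) : σ.ker = ⊥ := by
  classical
  obtain ⟨hsurj, hcen, hder⟩ := hσ
  set n := Nat.card σ.ker with hn
  have hn0 : n ≠ 0 := Nat.card_pos.ne'
  rw [Subgroup.eq_bot_iff_forall]
  by_contra hcon
  push Not at hcon
  obtain ⟨y, hy, hne⟩ := hcon
  have hn1 : n ≠ 1 := fun h1 => by
    have := (Nat.card_eq_one_iff_unique.1 (hn ▸ h1)).1
    exact hne (congrArg Subtype.val (Subsingleton.elim (⟨y, hy⟩ : σ.ker) 1))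
  obtain ⟨r, hr, hdvd⟩ := Nat.exists_prime_and_dvd hn1
  have : Fact r.Prime := ⟨hr⟩
  let N : Subgroup E :=
    { carrier := {x | x ∈ σ.ker ∧ x ^ (ordCompl[r] n) = 1}
      one_mem' := ⟨one_mem _, one_pow _⟩
      mul_mem' := fun {a b} ha hb => ⟨mul_mem ha.1 hb.1, by
        rw [(show Commute a b from (Subgroup.mem_center_iff.1 (hcen ha.1) b).symm).mul_pow, ha.2, hb.2, one_mul]⟩
      inv_mem' := fun {a} ha => ⟨inv_mem ha.1, by rw [inv_pow, ha.2, inv_one]⟩ }
  have hNn : N.Normal := ⟨fun x hx g => by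
    rwa [Subgroup.mem_center_iff.1 (hcen hx.1) g, mul_inv_cancel_right]⟩
  obtain ⟨⟨z, hz⟩, hzo⟩ := exists_prime_orderOf_dvd_card' r hdvd
  rw [Subgroup.orderOf_mk] at hzo
  let σ' : E ⧸ N →* G := QuotientGroup.lift N σ fun x hx => hx.1
  have hs' : Function.Surjective σ' := fun A => by
    obtain ⟨g, rfl⟩ := hsurj A
    exact ⟨QuotientGroup.mk g, rfl⟩
  have hk' : σ'.ker = σ.ker.map (QuotientGroup.mk' N) := QuotientGroup.ker_lift _ _ _
  have hc' : σ'.ker ≤ Subgroup.center (E ⧸ N) := by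
    rw [hk']
    rintro _ ⟨x, hx, rfl⟩
    rw [Subgroup.mem_center_iff]
    intro g
    induction g using QuotientGroup.induction_on with
    | H g => exact congrArg (QuotientGroup.mk' N) (Subgroup.mem_center_iff.1 (hcen hx) g)
  have hp' : IsPGroup r σ'.ker := by
    rintro ⟨y, hy⟩
    rw [hk'] at hy
    obtain ⟨x, hx, rfl⟩ := hy
    refine ⟨n.factorization r, Subtype.ext ?_⟩
    show (QuotientGroup.mk' N x) ^ _ = 1
    rw [← map_pow, QuotientGroup.mk'_apply, QuotientGroup.eq_one_iff]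
    refine ⟨pow_mem hx _, ?_⟩
    rw [← pow_mul, Nat.ordProj_mul_ordCompl_eq_self]
    exact congrArg Subtype.val (pow_card_eq_one' (x := (⟨x, hx⟩ : σ.ker)))
  have h1 := h r hr _ σ' hs' hc' hp' (QuotientGroup.mk' N z) (by rw [hk']; exact ⟨z, hz, rfl⟩)
    (by
      have := Subgroup.mem_map_of_mem (QuotientGroup.mk' N) (hder hz)
      rw [_root_.commutator_def, Subgroup.map_commutator] at this
      exact Subgroup.commutator_mono le_top le_top this)
  rw [QuotientGroup.mk'_apply, QuotientGroup.eq_one_iff] at h1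
  exact Nat.not_dvd_ordCompl Fact.out hn0 (hzo ▸ orderOf_dvd_of_pow_eq_one h1.2)

/-! ### Products and cyclic quotients -/

section prod

variable {G : Type u} [Group G] {E : Type v} [Group E] [Finite E] (σ : E →* G) {r : ℕ} [Fact r.Prime]
  (hsurj : Function.Surjective σ) (hcen : σ.ker ≤ Subgroup.center E) (hker : IsPGroup r σ.ker)
include hsurj hcen hker

/-- Lifts of two commuting subgroups, one with abelianisation prime to `r`, commute. -/
theorem commute_of_coAb {A B : Subgroup G} (hA : CoAb r A) (hc : ∀ a ∈ A, ∀ b ∈ B, Commute a b) {x y : E}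
    (hx : σ x ∈ A) (hy : σ y ∈ B) : Commute x y := by
  have hk : ∀ {u : E}, σ u ∈ A → ⁅u, y⁆ ∈ σ.ker := fun {u} hu => by
    rw [MonoidHom.mem_ker, map_commutatorElement, commutatorElement_eq_one_iff_commute]
    exact hc _ hu _ hy
  let χ : A.comap σ →* σ.ker :=
    { toFun := fun u => ⟨⁅u.1, y⁆, hk u.2⟩
      map_one' := Subtype.ext (commutatorElement_one_left y)
      map_mul' := fun u u' => Subtype.ext (by
        show ⁅u.1 * u'.1, y⁆ = ⁅u.1, y⁆ * ⁅u'.1, y⁆
        have hz := Subgroup.mem_center_iff.1 (hcen (hk u'.2))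
        calc ⁅u.1 * u'.1, y⁆ = u.1 * ⁅u'.1, y⁆ * (y * u.1⁻¹ * y⁻¹) := by
              simp only [commutatorElement_def]; group
          _ = ⁅u'.1, y⁆ * u.1 * (y * u.1⁻¹ * y⁻¹) := by rw [hz u.1]
          _ = ⁅u'.1, y⁆ * ⁅u.1, y⁆ := by simp only [commutatorElement_def]; group
          _ = _ := (hz _).symm) }
  obtain ⟨g, hg, he⟩ := Loc_surj σ r hsurj hA hx
  obtain ⟨hg1, hg2⟩ := (mem_Loc σ r).1 hg
  rw [← Subgroup.map_subtype_commutator] at hg2
  obtain ⟨g', hg', he'⟩ := hg2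
  let _ : CommGroup σ.ker := { (inferInstance : Group σ.ker) with
    mul_comm := fun a b => Subtype.ext (Subgroup.mem_center_iff.1 (hcen b.2) a.1) }
  have h2 : χ g' = 1 := Abelianization.commutator_subset_ker χ hg'
  have h3 : g' = (⟨g, hg1⟩ : A.comap σ) ^ ordCompl[r] (Nat.card E) := Subtype.ext he'
  rw [h3, map_pow] at h2
  have h4 : (χ ⟨g, hg1⟩ : E) = 1 := eq_one_of_pow σ r hker (χ _).2 (congrArg Subtype.val h2)
  rw [← commutatorElement_eq_one_iff_commute]
  rw [← SpMult.Lifts.bracket_congr hcen he rfl]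
  exact h4

omit hsurj hcen hker in
theorem comm_le (K : Subgroup E) : ⁅K, K⁆ ≤ K := Subgroup.commutator_le.2 fun _ h1 _ h2 =>
  mul_mem (mul_mem (mul_mem h1 h2) (inv_mem h1)) (inv_mem h2)

/-- Two commuting subgroups with trivial intersection. -/
theorem good_sup {A B : Subgroup G} (hA : Good σ A) (hB : Good σ B) (hcA : CoAb r A)
    (hc : ∀ a ∈ A, ∀ b ∈ B, Commute a b) (hd : A ⊓ B = ⊥) : Good σ (A ⊔ B) := by
  intro z hz hzd
  have hsup : ∀ x ∈ (A ⊔ B).comap σ, ∃ a b, σ a ∈ A ∧ σ b ∈ B ∧ x = a * b := by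
    intro x hx
    have hle : B ≤ Subgroup.normalizer (A : Set G) := fun b hb => Subgroup.mem_normalizer_iff.2 fun a => by
      constructor
      · intro ha
        rwa [← (hc a ha b hb).eq, mul_inv_cancel_right]
      · intro ha
        have := hc _ ha b hb
        have e : b * a * b⁻¹ = a := by
          have h1 : (b * a * b⁻¹) * b = b * (b * a * b⁻¹) := this.eq
          calc b * a * b⁻¹ = b⁻¹ * (b * (b * a * b⁻¹)) := by group
            _ = b⁻¹ * ((b * a * b⁻¹) * b) := by rw [h1]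
            _ = a := by group
        rwa [e] at ha
    have h1 : σ x ∈ ((A ⊔ B : Subgroup G) : Set G) := hx
    rw [Subgroup.coe_mul_of_right_le_normalizer_left A B hle, Set.mem_mul] at h1
    obtain ⟨a, ha, b, hb, he⟩ := h1
    obtain ⟨a', rfl⟩ := hsurj a
    exact ⟨a', a'⁻¹ * x, ha, by rw [map_mul, map_inv, ← he, inv_mul_cancel_left]; exact hb, by group⟩
  have hnorm : ⁅B.comap σ, B.comap σ⁆ ≤ Subgroup.normalizer ((⁅A.comap σ, A.comap σ⁆ : Subgroup E) : Set E) := by
    refine fun b hb => Subgroup.mem_normalizer_iff.2 fun a => ?_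
    have hbB : σ b ∈ B := comm_le (B.comap σ) hb
    have hle : ⁅A.comap σ, A.comap σ⁆ ≤ A.comap σ := comm_le (A.comap σ)
    constructor
    · intro ha
      rwa [← (commute_of_coAb σ hsurj hcen hker hcA hc (hle ha) hbB).eq, mul_inv_cancel_right]
    · intro ha
      have h1 := (commute_of_coAb σ hsurj hcen hker hcA hc (hle ha) hbB).eq
      have e : b * a * b⁻¹ = a := by
        calc b * a * b⁻¹ = b⁻¹ * (b * (b * a * b⁻¹)) := by group
          _ = b⁻¹ * ((b * a * b⁻¹) * b) := by rw [h1]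
          _ = a := by group
      rwa [e] at ha
  have hmem : z ∈ ⁅A.comap σ, A.comap σ⁆ ⊔ ⁅B.comap σ, B.comap σ⁆ := by
    refine Subgroup.commutator_le.2 ?_ hzd
    intro x hx y hy
    obtain ⟨a, b, ha, hb, rfl⟩ := hsup x hx
    obtain ⟨a', b', ha', hb', rfl⟩ := hsup y hy
    have c1 := commute_of_coAb σ hsurj hcen hker hcA hc ha hb
    have c2 := commute_of_coAb σ hsurj hcen hker hcA hc ha hb'
    have c3 := commute_of_coAb σ hsurj hcen hker hcA hc ha' hb
    have c4 := commute_of_coAb σ hsurj hcen hker hcA hc ha' hb'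
    have e : ⁅a * b, a' * b'⁆ = ⁅a, a'⁆ * ⁅b, b'⁆ := by
      simp only [commutatorElement_def]
      calc a * b * (a' * b') * (a * b)⁻¹ * (a' * b')⁻¹
          = a * (b * a') * (b' * b⁻¹) * a⁻¹ * (b'⁻¹ * a'⁻¹) := by group
        _ = a * (a' * b) * (b' * b⁻¹) * a⁻¹ * (b'⁻¹ * a'⁻¹) := by rw [c3.symm.eq]
        _ = a * a' * ((b * b' * b⁻¹) * a⁻¹) * (b'⁻¹ * a'⁻¹) := by group
        _ = a * a' * (a⁻¹ * (b * b' * b⁻¹)) * (b'⁻¹ * a'⁻¹) := by
          rw [(((c1.mul_right c2).mul_right c1.inv_right).inv_left).eq]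
        _ = a * a' * a⁻¹ * ((b * b' * b⁻¹ * b'⁻¹) * a'⁻¹) := by group
        _ = a * a' * a⁻¹ * (a'⁻¹ * (b * b' * b⁻¹ * b'⁻¹)) := by
          rw [((((c3.mul_right c4).mul_right c3.inv_right).mul_right c4.inv_right).inv_left).eq]
        _ = _ := by group
    rw [e]
    exact mul_mem (Subgroup.mem_sup_left (Subgroup.commutator_mem_commutator ha ha'))
      (Subgroup.mem_sup_right (Subgroup.commutator_mem_commutator hb hb'))
  rw [← SetLike.mem_coe, Subgroup.coe_mul_of_right_le_normalizer_left _ _ hnorm, Set.mem_mul] at hmem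
  obtain ⟨a, ha, b, hb, rfl⟩ := hmem
  have hA' : σ a ∈ A := comm_le (A.comap σ) ha
  have hB' : σ b ∈ B := comm_le (B.comap σ) hb
  rw [MonoidHom.mem_ker, map_mul] at hz
  have h1 : σ a = 1 := by
    have hB'' : σ a ∈ B := by
      rw [eq_inv_of_mul_eq_one_left hz]
      exact inv_mem hB'
    have : σ a ∈ A ⊓ B := ⟨hA', hB''⟩
    rwa [hd, Subgroup.mem_bot] at this
  rw [h1, one_mul] at hz
  rw [hA a h1 ha, hB b hz hb, one_mul]

/-- A normal subgroup with cyclic quotient. -/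
theorem good_of_cyclic_quotient {H N : Subgroup G} (hle : N ≤ H) (hn : ∀ h ∈ H, ∀ a ∈ N, h * a * h⁻¹ ∈ N)
    {d : G} (hd : d ∈ H) (hgen : ∀ h ∈ H, ∃ a ∈ N, ∃ i : ℤ, h = a * d ^ i) (hN : Good σ N)
    (hcN : CoAb r N) : Good σ H := by
  intro z hz hzd
  obtain ⟨dt, rfl⟩ := hsurj d
  set M := Loc σ r N with hM
  have hMnorm : ∀ x : E, σ x ∈ H → ∀ g ∈ M, x * g * x⁻¹ ∈ M := fun x hx g hg =>
    Loc_conj σ r x (fun a ha => hn _ hx a ha) hg
  have hdec : ∀ x ∈ H.comap σ, ∃ g ∈ M, ∃ k ∈ σ.ker, ∃ i : ℤ, x = g * k * dt ^ i := by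
    intro x hx
    obtain ⟨a, ha, i, hi⟩ := hgen _ hx
    obtain ⟨g, hg, rfl⟩ := Loc_surj σ r hsurj hcN ha
    refine ⟨g, hg, g⁻¹ * (x * dt ^ (-i)), ?_, i, by group⟩
    rw [MonoidHom.mem_ker, map_mul, map_inv, map_mul, map_zpow, hi, zpow_neg, mul_inv_cancel_right,
      inv_mul_cancel]
  have hz' : z ∈ M := by
    refine Subgroup.commutator_le.2 ?_ hzd
    intro x hx y hy
    obtain ⟨g, hg, k, hk, i, rfl⟩ := hdec x hx
    obtain ⟨g', hg', k', hk', j, rfl⟩ := hdec y hy
    have e1 : σ (g * k * dt ^ i) = σ (g * dt ^ i) := by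
      rw [map_mul, map_mul, map_mul, MonoidHom.mem_ker.1 hk, mul_one]
    have e2 : σ (g' * k' * dt ^ j) = σ (g' * dt ^ j) := by
      rw [map_mul, map_mul, map_mul, MonoidHom.mem_ker.1 hk', mul_one]
    rw [SpMult.Lifts.bracket_congr hcen e1 e2]
    have key : ⁅g * dt ^ i, g' * dt ^ j⁆ =
        g * (dt ^ i * g' * (dt ^ i)⁻¹) * (dt ^ j * g⁻¹ * (dt ^ j)⁻¹) * g'⁻¹ := by
      simp only [commutatorElement_def]
      group
    rw [key]
    have hdi : ∀ l : ℤ, σ (dt ^ l) ∈ H := fun l => by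
      rw [map_zpow]
      exact zpow_mem hd l
    exact mul_mem (mul_mem (mul_mem hg (hMnorm _ (hdi i) _ hg')) (hMnorm _ (hdi j) _ (inv_mem hg))) (inv_mem hg')
  exact Loc_inj σ r hker hN hz' hz

end prod

end Cfsg.Agent.SimpleFacts.SUMult.Ext
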