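import Cfsg.Agent.Lib.Classical.UnitarySimple
import Cfsg.Agent.Lib.Classical.UnitaryFrames
import Cfsg.Agent.Lib.Forms.HermStab
import Cfsg.Agent.SimpleFacts.SUMult.Triv
import Mathlib

/-!
Block subgroups of unitary groups, pointwise stabilisers of orthonormal families, transitivity.
-/

set_option autoImplicit false
set_option linter.unusedSectionVars false
set_option linter.unusedSimpArgs false

namespace Cfsg.Agent.SimpleFacts.SUMult.Blocks

open Matrix
open Cfsg.Agent.Forms Cfsg.Agent.Classical Cfsg.Agent.Classical.Unitary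

universe u

variable {F : Type u} [Field F] [Fintype F] {q n k m : ℕ}

local notation "Vec" => (Fin n → F)
local notation "H" => Cfsg.hermForm n F q

/-- Pointwise stabiliser. -/
def fix (S : Set (Fin n → F)) : Subgroup (Cfsg.SU n F q) where
  carrier := {g | ∀ x ∈ S, mat g *ᵥ x = x}
  one_mem' x _ := one_mulVec x
  mul_mem' {a b} ha hb x hx := by rw [mul_mulVec, hb x hx, ha x hx]
  inv_mem' {a} ha x hx := inv_mulVec a (ha x hx)

theorem fix_mono {S T : Set (Fin n → F)} (h : S ⊆ T) : fix (q := q) T ≤ fix S :=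
  fun _ hg x hx => hg x (h hx)

theorem fix_union (S T : Set (Fin n → F)) : fix (q := q) (S ∪ T) = fix S ⊓ fix T := by
  ext g
  exact ⟨fun h => ⟨fun x hx => h x (Or.inl hx), fun x hx => h x (Or.inr hx)⟩,
    fun h x hx => hx.elim (h.1 x) (h.2 x)⟩

theorem conj_fix {S T : Set (Fin n → F)} (g : Cfsg.SU n F q) (h : ∀ y ∈ T, ∃ x ∈ S, mat g *ᵥ x = y)
    {a : Cfsg.SU n F q} (ha : a ∈ fix S) : g * a * g⁻¹ ∈ fix T := fun y hy => by
  obtain ⟨x, hx, rfl⟩ := h y hy
  rw [mul_mulVec, mul_mulVec, inv_mulVec g rfl, ha x hx]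

/-- A block diagonal matrix. -/
def blkM (M : Matrix (Fin k) (Fin k) F) (M' : Matrix (Fin m) (Fin m) F) :
    Matrix (Fin (k + m)) (Fin (k + m)) F :=
  Matrix.reindexAlgEquiv F F finSumFinEquiv (Matrix.fromBlocks M 0 0 M')

theorem det_blkM (M : Matrix (Fin k) (Fin k) F) (M' : Matrix (Fin m) (Fin m) F) :
    (blkM M M').det = M.det * M'.det := by
  rw [blkM, Matrix.det_reindexAlgEquiv, Matrix.det_fromBlocks_zero₁₂]

theorem blkM_mulVec (M : Matrix (Fin k) (Fin k) F) (M' : Matrix (Fin m) (Fin m) F) (x : Fin k → F)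
    (y : Fin m → F) : blkM M M' *ᵥ Fin.append x y = Fin.append (M *ᵥ x) (M' *ᵥ y) := by
  funext i
  induction i using Fin.addCases with
  | left i => simp [blkM, Matrix.mulVec, dotProduct, Fin.sum_univ_add]
  | right j => simp [blkM, Matrix.mulVec, dotProduct, Fin.sum_univ_add]

theorem eta (x : Fin (k + m) → F) :
    Fin.append (fun i => x (Fin.castAdd m i)) (fun j => x (Fin.natAdd k j)) = x :=
  Fin.append_castAdd_natAdd

theorem single_left (i : Fin k) :
    (Pi.single (Fin.castAdd m i) 1 : Fin (k + m) → F) = Fin.append (Pi.single i 1) 0 := by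
  funext j
  induction j using Fin.addCases with
  | left j => simp [Pi.single_apply, Fin.ext_iff]
  | right j => simp [Pi.single_apply, Fin.ext_iff]; omega

theorem single_right (i : Fin m) :
    (Pi.single (Fin.natAdd k i) 1 : Fin (k + m) → F) = Fin.append 0 (Pi.single i 1) := by
  funext j
  induction j using Fin.addCases with
  | left j => simp [Pi.single_apply, Fin.ext_iff]; omega
  | right j => simp [Pi.single_apply, Fin.ext_iff]

theorem blkM_preserves {M : Matrix (Fin k) (Fin k) F} {M' : Matrix (Fin m) (Fin m) F}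
    (h : ∀ u v, Cfsg.hermForm k F q (M *ᵥ u) (M *ᵥ v) = Cfsg.hermForm k F q u v)
    (h' : ∀ u v, Cfsg.hermForm m F q (M' *ᵥ u) (M' *ᵥ v) = Cfsg.hermForm m F q u v)
    (u v : Fin (k + m) → F) :
    Cfsg.hermForm (k + m) F q (blkM M M' *ᵥ u) (blkM M M' *ᵥ v) = Cfsg.hermForm (k + m) F q u v := by
  rw [← eta u, ← eta v, blkM_mulVec, blkM_mulVec, H_append, H_append, h, h']

/-- Block diagonal special unitary matrices. -/
def suBlk : Cfsg.SU k F q × Cfsg.SU m F q →* Cfsg.SU (k + m) F q where
  toFun g := suMk (blkM (mat g.1) (mat g.2))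
    (by rw [det_blkM, show (mat g.1).det = 1 from g.1.1.2, show (mat g.2).det = 1 from g.2.1.2, one_mul])
    (blkM_preserves g.1.2 g.2.2)
  map_one' := SU_ext fun x => by
    rw [suMk_mulVec, ← eta x, blkM_mulVec, mat_one, Prod.fst_one, Prod.snd_one, mat_one, mat_one, one_mulVec,
      one_mulVec, one_mulVec]
  map_mul' a b := SU_ext fun x => by
    rw [suMk_mulVec, mul_mulVec, suMk_mulVec, suMk_mulVec, ← eta x, blkM_mulVec, blkM_mulVec, blkM_mulVec,
      Prod.fst_mul, Prod.snd_mul, mul_mulVec, mul_mulVec]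

theorem suBlk_mulVec (g : Cfsg.SU k F q × Cfsg.SU m F q) (x : Fin k → F) (y : Fin m → F) :
    mat (suBlk g) *ᵥ Fin.append x y = Fin.append (mat g.1 *ᵥ x) (mat g.2 *ᵥ y) :=
  blkM_mulVec _ _ x y

theorem suBlk_injective : Function.Injective (suBlk (F := F) (q := q) (k := k) (m := m)) := by
  intro a b h
  refine Prod.ext (SU_ext fun x => ?_) (SU_ext fun y => ?_)
  · have := congrArg (fun g => mat g *ᵥ Fin.append x 0) h
    simp only [suBlk_mulVec] at this
    funext i
    simpa using congrFun this (Fin.castAdd m i)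
  · have := congrArg (fun g => mat g *ᵥ Fin.append 0 y) h
    simp only [suBlk_mulVec] at this
    funext j
    simpa using congrFun this (Fin.natAdd k j)

/-- The lower block. -/
def blkR : Cfsg.SU m F q →* Cfsg.SU (k + m) F q := suBlk.comp (MonoidHom.inr _ _)

theorem blkR_mulVec (g : Cfsg.SU m F q) (x : Fin k → F) (y : Fin m → F) :
    mat (blkR g) *ᵥ Fin.append x y = Fin.append x (mat g *ᵥ y) := by
  rw [blkR, MonoidHom.comp_apply, suBlk_mulVec]
  simp [mat_one]

/-- The upper block. -/
def blkL : Cfsg.SU k F q →* Cfsg.SU (k + m) F q := suBlk.comp (MonoidHom.inl _ _)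

theorem blkL_mulVec (g : Cfsg.SU k F q) (x : Fin k → F) (y : Fin m → F) :
    mat (blkL g) *ᵥ Fin.append x y = Fin.append (mat g *ᵥ x) y := by
  rw [blkL, MonoidHom.comp_apply, suBlk_mulVec]
  simp [mat_one]

/-- The first standard vectors. -/
def stdF (k m : ℕ) : Fin k → Fin (k + m) → F := fun i => Pi.single (Fin.castAdd m i) 1

variable (hF : Fintype.card F = q ^ 2)
include hF

/-- Block diagonal unitary matrices. -/
noncomputable def guBlk (g : Cfsg.GU k F q) (g' : Cfsg.GU m F q) : Cfsg.GU (k + m) F q :=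
  guMk hF (blkM (gmat g) (gmat g')) (blkM_preserves g.2 g'.2)

theorem gmat_guBlk (g : Cfsg.GU k F q) (g' : Cfsg.GU m F q) :
    gmat (guBlk hF g g') = blkM (gmat g) (gmat g') := rfl

theorem fix_std : fix (q := q) (Set.range (stdF (F := F) k m)) = (blkR (k := k) (m := m)).range := by
  refine le_antisymm ?_ ?_
  · intro A hA
    have hx : ∀ x : Fin k → F, mat A *ᵥ Fin.append x (0 : Fin m → F) = Fin.append x 0 := by
      intro x
      have e : Fin.append x (0 : Fin m → F) = ∑ i, x i • stdF k m i := by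
        funext j
        induction j using Fin.addCases with
        | left j => simp [stdF, Pi.single_apply, Finset.sum_apply, Fin.castAdd_inj]
        | right j =>
          simp [stdF, Pi.single_apply, Fin.ext_iff, Finset.sum_apply]
          refine (Finset.sum_eq_zero fun i _ => ?_).symm
          rw [if_neg (by omega)]
      rw [e, Matrix.mulVec_sum]
      exact Finset.sum_congr rfl fun i _ => by rw [Matrix.mulVec_smul, hA _ ⟨i, rfl⟩]
    set M : Matrix (Fin m) (Fin m) F :=
      Matrix.of fun i j => mat A (Fin.natAdd k i) (Fin.natAdd k j) with hM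
    have h0 : ∀ y : Fin m → F, mat A *ᵥ Fin.append 0 y = Fin.append 0 (M *ᵥ y) := by
      intro y
      funext i
      induction i using Fin.addCases with
      | left i =>
        rw [Fin.append_left, ← H_single_right hF (mat A *ᵥ _)]
        conv_lhs => rw [show (Pi.single (Fin.castAdd m i) 1 : Fin (k + m) → F) = stdF k m i from rfl,
          ← hA _ ⟨i, rfl⟩]
        rw [SU_H, stdF, H_single_right hF, Fin.append_left]
      | right j => simp [hM, Matrix.mulVec, dotProduct, Fin.sum_univ_add]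
    have hAb : mat A = blkM (1 : Matrix (Fin k) (Fin k) F) M := by
      refine mat_ext fun x => ?_
      rw [← eta x, blkM_mulVec, one_mulVec]
      set a := fun i => x (Fin.castAdd m i)
      set b := fun j => x (Fin.natAdd k j)
      have e : Fin.append a b = Fin.append a 0 + Fin.append 0 b := by
        funext j
        induction j using Fin.addCases <;> simp
      rw [e, Matrix.mulVec_add, hx, h0]
      funext j
      induction j using Fin.addCases <;> simp
    have hd : M.det = 1 := by
      have h1 : (mat A).det = 1 := A.1.2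
      rwa [hAb, det_blkM, Matrix.det_one, one_mul] at h1
    have hp : ∀ u v, Cfsg.hermForm m F q (M *ᵥ u) (M *ᵥ v) = Cfsg.hermForm m F q u v := by
      intro u v
      have h1 := SU_H A (Fin.append 0 u) (Fin.append 0 v)
      rwa [h0, h0, H_append, H_append, H_zero_left, zero_add, zero_add] at h1
    refine ⟨suMk M hd hp, SU_ext fun x => ?_⟩
    rw [← eta x, blkR_mulVec, suMk_mulVec, hAb, blkM_mulVec, one_mulVec]
  · rintro _ ⟨g, rfl⟩ _ ⟨i, rfl⟩
    rw [stdF, single_left, blkR_mulVec, Matrix.mulVec_zero]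

theorem blkR_injective : Function.Injective (blkR (F := F) (q := q) (k := k) (m := m)) := by
  intro a b h
  have := suBlk_injective h
  exact (Prod.ext_iff.1 this).2

/-- The stabiliser of an orthonormal family. -/
theorem fix_frame_equiv {f : Fin k → Fin (k + m) → F} (hf : IsFrame q f) :
    Nonempty (fix (q := q) (Set.range f) ≃* Cfsg.SU m F q) := by
  obtain ⟨g, hg⟩ := exists_gu_frame hF f hf
  let Φ : Cfsg.SU m F q →* Cfsg.SU (k + m) F q := (conjSU g).comp blkR
  have hinv : ∀ s, conjSU g⁻¹ (conjSU g s) = s := fun s => SU_ext fun x => by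
    rw [conjSU_mulVec, conjSU_mulVec, inv_inv, ← gmul_mulVec, ← gmul_mulVec g⁻¹ g, inv_mul_cancel,
      gmat_one, one_mulVec, one_mulVec]
  have hinv' : ∀ s, conjSU g (conjSU g⁻¹ s) = s := fun s => SU_ext fun x => by
    rw [conjSU_mulVec, conjSU_mulVec, inv_inv, ← gmul_mulVec, ← gmul_mulVec g g⁻¹, mul_inv_cancel,
      gmat_one, one_mulVec, one_mulVec]
  have hΦ : Function.Injective Φ := fun a b h => by
    have := congrArg (conjSU g⁻¹) h
    simp only [Φ, MonoidHom.comp_apply, hinv] at this
    exact blkR_injective hF this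
  have hr : Φ.range = fix (q := q) (Set.range f) := by
    refine le_antisymm ?_ ?_
    · rintro _ ⟨s, rfl⟩ _ ⟨i, rfl⟩
      have h1 : blkR (k := k) s ∈ fix (q := q) (Set.range (stdF (F := F) k m)) := by
        rw [fix_std hF]; exact ⟨s, rfl⟩
      show mat (conjSU g (blkR s)) *ᵥ f i = f i
      rw [conjSU_mulVec, ginv_mulVec g (hg i)]
      exact (congrArg _ (h1 _ ⟨i, rfl⟩)).trans (hg i)
    · intro A hA
      have : conjSU g⁻¹ A ∈ fix (q := q) (Set.range (stdF (F := F) k m)) := by
        rintro _ ⟨i, rfl⟩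
        rw [conjSU_mulVec, inv_inv, stdF, hg, hA _ ⟨i, rfl⟩]
        exact ginv_mulVec g (hg i)
      rw [fix_std hF] at this
      obtain ⟨s, hs⟩ := this
      exact ⟨s, by rw [MonoidHom.comp_apply, hs, hinv']⟩
  exact ⟨((MonoidHom.ofInjective hΦ).trans (MulEquiv.subgroupCongr hr)).symm⟩

/-- A reflection. -/
theorem exists_refl {z : Vec} (hz : H z z = 1) {δ : F} (hδ : δ ^ (q + 1) = 1) :
    ∃ D : Cfsg.GU n F q, (gmat D).det = δ ∧ ∀ x, H x z = 0 → gmat D *ᵥ x = x := by
  set M : Matrix (Fin n) (Fin n) F := 1 + (δ - 1) • Matrix.vecMulVec z (fun i => z i ^ q) with hM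
  have hMx : ∀ x, M *ᵥ x = x + ((δ - 1) * H x z) • z := fun x => by
    rw [hM, add_mulVec, one_mulVec, smul_mulVec, vecMulVec_mulVec, op_smul_eq_smul, smul_smul,
      dotProduct_comm]
    rfl
  have hδ1 : (δ - 1) ^ q = δ ^ q - 1 := by
    rw [← HermStd.qHom_apply hF, map_sub, map_one, HermStd.qHom_apply]
  have hp : ∀ u v, H (M *ᵥ u) (M *ᵥ v) = H u v := by
    intro u v
    rw [hMx, hMx]
    simp only [H_add_left, H_add_right hF, H_smul_left, H_smul_right, hz, mul_pow, hδ1]
    rw [H_conj hF v z]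
    rw [pow_succ] at hδ
    linear_combination (H u z * H z v) * hδ
  refine ⟨guMk hF M hp, ?_, fun x hx => ?_⟩
  · show M.det = δ
    rw [hM, ← Matrix.smul_vecMulVec, Matrix.vecMulVec_eq Unit,
      Matrix.det_one_add_replicateCol_mul_replicateRow, dotProduct_comm, smul_dotProduct, ← H_eq_dot, hz]
    simp
  · show M *ᵥ x = x
    rw [hMx, hx, mul_zero, zero_smul, add_zero]

theorem det_norm_gu (g : Cfsg.GU n F q) : (gmat g).det ^ (q + 1) = 1 := HermStd.det_norm hF _ g.2

/-- Correct the determinant by a reflection. -/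
theorem exists_su_of_gu_fix (g : Cfsg.GU n F q) {z : Vec} (hz : H z z = 1) :
    ∃ A : Cfsg.SU n F q, ∀ x, H x z = 0 → mat A *ᵥ x = gmat g *ᵥ x := by
  have hd := det_norm_gu hF g
  have hd0 : (gmat g).det ≠ 0 := fun h => by simp [h] at hd
  obtain ⟨D, hD, hDx⟩ := exists_refl hF hz (δ := (gmat g).det⁻¹) (by rw [inv_pow, hd, inv_one])
  refine ⟨suOfGU (g * D) (by rw [gmat_mul, Matrix.det_mul, hD, mul_inv_cancel₀ hd0]), fun x hx => ?_⟩
  show gmat (g * D) *ᵥ x = _
  rw [gmul_mulVec, hDx x hx]

omit hF in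
theorem gmat_mulVec_inj (g : Cfsg.GU n F q) {x y : Vec} (h : gmat g *ᵥ x = gmat g *ᵥ y) : x = y := by
  rw [← ginv_mulVec g h, ← gmul_mulVec, ← gmul_mulVec, inv_mul_cancel, gmat_one, one_mulVec] at *

/-- `SU` is transitive on orthonormal families of size less than `n`. -/
theorem exists_su_frame {f f' : Fin k → Fin n → F} (hk : k < n) (hf : IsFrame q f) (hf' : IsFrame q f') :
    ∃ A : Cfsg.SU n F q, ∀ i, mat A *ᵥ f i = f' i := by
  obtain ⟨r, rfl⟩ : ∃ r, n = k + (r + 1) := ⟨n - k - 1, by omega⟩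
  obtain ⟨g, hg⟩ := exists_gu_frame hF f hf
  obtain ⟨g', hg'⟩ := exists_gu_frame hF f' hf'
  set z := gmat g *ᵥ (Pi.single (Fin.natAdd k (0 : Fin (r + 1))) 1 : Fin (k + (r + 1)) → F) with hz
  obtain ⟨A, hA⟩ := exists_su_of_gu_fix hF (g' * g⁻¹) (z := z)
    (by rw [hz, GU_H, H_single_single hF, if_pos rfl])
  refine ⟨A, fun i => ?_⟩
  rw [hA (f i) (by
    rw [← hg i, hz, GU_H, H_single_single hF, if_neg (by simp [Fin.ext_iff]; omega)]), gmul_mulVec,
    ginv_mulVec g (hg i), hg']

/-- `SU` is transitive on non-zero isotropic vectors. -/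
theorem exists_su_iso (hn : 3 ≤ n) {u v : Vec} (hu : u ≠ 0) (hv : v ≠ 0) (huu : H u u = 0)
    (hvv : H v v = 0) : ∃ A : Cfsg.SU n F q, mat A *ᵥ u = v := by
  obtain ⟨u₀, hu₀, hu₀1, -, hu₀z⟩ := exists_isotropic_pair hF (n := n) ⟨0, by omega⟩ ⟨1, by omega⟩
    (by simp [Fin.ext_iff])
  have hu₀0 : u₀ ≠ 0 := fun h => by simp [h] at hu₀1
  obtain ⟨g, hg⟩ := HermStab.exists_move_tuple hF (f := ![u₀]) (g := ![u])
    (LinearIndependent.of_subsingleton 0 hu₀0) (LinearIndependent.of_subsingleton 0 hu)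
    (fun i j => by fin_cases i; fin_cases j; simpa using hu₀)
    (fun i j => by fin_cases i; fin_cases j; simpa using huu)
  have hgu : gmat g *ᵥ u₀ = u := by simpa using hg 0
  obtain ⟨g', hg'⟩ := HermStab.exists_move_tuple hF (f := ![u]) (g := ![v])
    (LinearIndependent.of_subsingleton 0 hu) (LinearIndependent.of_subsingleton 0 hv)
    (fun i j => by fin_cases i; fin_cases j; simpa using huu)
    (fun i j => by fin_cases i; fin_cases j; simpa using hvv)
  obtain ⟨A, hA⟩ := exists_su_of_gu_fix hF g' (z := gmat g *ᵥ (Pi.single ⟨2, by omega⟩ 1 : Vec))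
    (by rw [GU_H, H_single_single hF, if_pos rfl])
  refine ⟨A, ?_⟩
  rw [hA u (by
    rw [← hgu, GU_H, H_single_right hF, hu₀z _ (by simp [Fin.ext_iff]) (by simp [Fin.ext_iff])])]
  simpa using hg' 0

omit hF in
theorem pair_frame {x y : Vec} (hx : H x x = 1) (hy : H y y = 1) (hxy : H x y = 0) (hyx : H y x = 0) :
    IsFrame q ![x, y] := by
  intro i j
  fin_cases i <;> fin_cases j <;> simp [hx, hy, hxy, hyx]

omit hF in
theorem one_frame {x : Vec} (hx : H x x = 1) : IsFrame q ![x] := by
  intro i j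
  fin_cases i; fin_cases j; simpa using hx

/-- A unit vector orthogonal to a short list containing an orthonormal family. -/
theorem exists_unit_perp {l : ℕ} (f : Fin k → Fin n → F) (g : Fin l → Fin n → F) (hg : IsFrame q g)
    (idx : Fin l → Fin k) (hidx : ∀ i, f (idx i) = g i) (hk : 2 * k < n + l) :
    ∃ z : Vec, H z z = 1 ∧ ∀ i, H z (f i) = 0 := by
  classical
  let L : Vec →ₗ[F] (Fin k → F) := LinearMap.pi fun l => hlin q (f l)
  set W := LinearMap.ker L with hW
  have hWm : ∀ {z}, z ∈ W → ∀ l, H z (f l) = 0 := fun {z} hz l => congrFun (LinearMap.mem_ker.1 hz) l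
  by_cases hex : ∃ z ∈ W, H z z ≠ 0
  · obtain ⟨z, hz, hne⟩ := hex
    obtain ⟨a, ha⟩ := UnitaryCount.exists_norm_eq hF (μ := (H z z)⁻¹) (inv_ne_zero hne) (by
      rw [inv_pow, H_conj hF])
    refine ⟨a • z, ?_, fun l => by rw [H_smul_left, hWm hz, mul_zero]⟩
    rw [UnitaryCount.hermForm_smul_smul, ha, inv_mul_cancel₀ hne]
  exfalso
  push Not at hex
  have hti : ∀ a ∈ W, ∀ b ∈ W, H a b = 0 := by
    intro a ha b hb
    by_contra hne
    obtain ⟨t, ht⟩ := Witt.exists_trace_ne_zero (HermStd.qHom hF) (HermStd.qHom_ne_id hF)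
    rw [HermStd.qHom_apply] at ht
    have h1 := hex _ (add_mem (Submodule.smul_mem W (t / H a b) ha) hb)
    simp only [H_add_left, H_add_right hF, H_smul_left, H_smul_right, hex a ha, hex b hb, mul_zero,
      zero_add, add_zero] at h1
    rw [div_mul_cancel₀ _ hne, div_pow, H_conj hF a b,
      div_mul_cancel₀ _ (fun h0 => hne ((H_eq_zero_comm hF).1 h0)), add_comm] at h1
    exact ht (by linear_combination h1)
  set b := Module.finBasis F W with hb
  let φ : Vec →ₗ[F] (Fin (Module.finrank F W) → F) := LinearMap.pi fun l => hlin q (b l).1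
  have hφ : Function.Surjective φ := by
    intro c
    have : ∀ l, ∃ w : Vec, ∀ l', H w (b l').1 = if l' = l then 1 else 0 := by
      intro l
      obtain ⟨ψ, hψ⟩ := (b.coord l).exists_extend
      obtain ⟨w, hw⟩ := Witt.exists_repr (σ := HermStd.qHom hF)
        (Finite.injective_iff_surjective.1 (HermStd.qHom hF).injective) (HermStd.hermB hF n)
        (HermStd.hermB_nondegenerate hF).2 ψ
      refine ⟨w, fun l' => ?_⟩
      have h1 := LinearMap.congr_fun hw (b l').1
      rw [HermStd.hermB_apply] at h1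
      rw [← H_conj hF, h1, show ψ (b l').1 = b.coord l (b l') from LinearMap.congr_fun hψ (b l')]
      simp only [Module.Basis.coord_apply, Module.Basis.repr_self, Finsupp.single_apply]
      split <;> simp [zero_pow (q_ne_zero hF)]
    choose w hw using this
    refine ⟨∑ l, c l • w l, funext fun l' => ?_⟩
    simp [φ, LinearMap.pi_apply, H_sum_left, H_smul_left, hw]
  have hgH : ∀ (c : Fin l → F) (i : Fin l), H (∑ a, c a • g a) (g i) = c i := fun c i => by
    simp [H_sum_left, H_smul_left, hg _ _]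
  have hli : LinearIndependent F g := by
    rw [Fintype.linearIndependent_iff]
    intro c hc i
    have := hgH c i
    rwa [hc, H_zero_left, eq_comm] at this
  set P := Submodule.span F (Set.range g) with hP
  have hPker : P ≤ LinearMap.ker φ := by
    rw [hP, Submodule.span_le]
    rintro _ ⟨i, rfl⟩
    refine LinearMap.mem_ker.2 (funext fun l' => ?_)
    show H (g i) (b l').1 = 0
    rw [H_eq_zero_comm hF, ← hidx i]
    exact hWm (b l').2 _
  have hWker : W ≤ LinearMap.ker φ := fun z hz => LinearMap.mem_ker.2 (funext fun l => hti z hz _ (b l).2)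
  have hdis : W ⊓ P = ⊥ := by
    rw [eq_bot_iff]
    rintro z ⟨hz, hzP⟩
    obtain ⟨c, rfl⟩ := (Submodule.mem_span_range_iff_exists_fun F).1 hzP
    have h1 : ∀ i, c i = 0 := fun i => by
      rw [← hgH c i, ← hidx i]
      exact hWm hz _
    simp [h1]
  have h1 := Submodule.finrank_sup_add_finrank_inf_eq W P
  rw [hdis, finrank_bot, add_zero, hP, finrank_span_eq_card hli, Fintype.card_fin] at h1
  have h2 := Submodule.finrank_mono (sup_le hWker hPker)
  have h3 := LinearMap.finrank_range_add_finrank_ker φ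
  rw [LinearMap.range_eq_top.2 hφ, finrank_top, Module.finrank_pi, Module.finrank_pi, Fintype.card_fin,
    Fintype.card_fin] at h3
  have h4 := LinearMap.finrank_range_add_finrank_ker L
  have h5 : Module.finrank F (LinearMap.range L) ≤ k := by
    refine (Submodule.finrank_le _).trans ?_
    rw [Module.finrank_pi, Fintype.card_fin]
  rw [Module.finrank_pi, Fintype.card_fin, ← hW] at h4
  rw [← hP] at h1
  omega

end Cfsg.Agent.SimpleFacts.SUMult.Blocks
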