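import Cfsg.Agent.SimpleFacts.SUMult.CosetGeom
import Mathlib

/-!
The coset criterion on unit vectors: setting, lifts of a plane group, generation, induction step.
-/

set_option autoImplicit false
set_option linter.unusedSectionVars false
set_option linter.unusedSimpArgs false

namespace Cfsg.Agent.SimpleFacts.SUMult.CosetStep

open Matrix
open Cfsg.Agent.Forms Cfsg.Agent.Classical Cfsg.Agent.Classical.Unitary
open Cfsg.Agent.SimpleFacts.SUMult Ext Blocks CosetGeom CosetAbs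
open MulAction (stabilizer)

universe u v

variable {F : Type u} [Field F] [Fintype F] {q m : ℕ}

local notation "Vec" => (Fin (2 + m) → F)
local notation "H" => Cfsg.hermForm (2 + m) F q
local notation "G" => Cfsg.SU (2 + m) F q

/-- The first basis vector. -/
def v0 (F : Type u) [Field F] (m : ℕ) : Fin (2 + m) → F := stdF 2 m 0

/-- The second basis vector. -/
def v1 (F : Type u) [Field F] (m : ℕ) : Fin (2 + m) → F := stdF 2 m 1

/-- The group of the plane of the first two vectors. -/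
def plane (F : Type u) [Field F] [Fintype F] (q m : ℕ) : Subgroup (Cfsg.SU (2 + m) F q) :=
  fix {z | Cfsg.hermForm (2 + m) F q z z = 1 ∧ Cfsg.hermForm (2 + m) F q z (v0 F m) = 0 ∧
    Cfsg.hermForm (2 + m) F q z (v1 F m) = 0}

variable (hF : Fintype.card F = q ^ 2)
include hF

theorem v0_unit : H (v0 F m) (v0 F m) = 1 := by
  rw [v0, stdF, H_single_single hF, if_pos rfl]

theorem v1_unit : H (v1 F m) (v1 F m) = 1 := by
  rw [v1, stdF, H_single_single hF, if_pos rfl]

theorem v0_v1 : H (v0 F m) (v1 F m) = 0 := by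
  rw [v0, v1, stdF, stdF, H_single_single hF, if_neg (by simp [Fin.ext_iff])]

variable {E : Type v} [Group E] [Finite E] {σ : E →* ↥(Cfsg.SU (2 + m) F q)} {r : ℕ} [Fact r.Prime]

/-- The setting on unit vectors. -/
noncomputable def setting (hm : 2 ≤ m) (hsurj : Function.Surjective σ) (hcen : σ.ker ≤ Subgroup.center E)
    (hker : IsPGroup r σ.ker) (ht : Triv.{u, v} r (Cfsg.SU (1 + m) F q))
    (hc1 : CoAb r (Cfsg.SU (1 + m) F q)) (hc2 : CoAb r (Cfsg.SU m F q)) :
    Setting σ r (UVec F q (2 + m)) where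
  e := ⟨v0 F m, v0_unit hF⟩
  orth x y := H x.1 y.1 = 0
  orth_symm h := (H_eq_zero_comm hF).1 h
  orth_smul g x y h := by rw [smul_val, smul_val, SU_H, h]
  good x := by
    obtain ⟨φ⟩ := fix_one_equiv hF (show 2 + m = 1 + (1 + m) by omega) x.2
    rw [stab_eq]
    exact good_of_triv σ hsurj hcen hker (ht.congr φ.symm)
  coab_pair {x} h := by
    obtain ⟨φ⟩ := fix_two_equiv hF (rfl : 2 + m = 2 + m) x.2 (v0_unit hF) h
    rw [stab_eq, stab_eq, ← fix_union, Set.singleton_union]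
    exact hc2.congr φ.symm
  coab x := by
    obtain ⟨φ⟩ := fix_one_equiv hF (show 2 + m = 1 + (1 + m) by omega) x.2
    rw [stab_eq]
    exact hc1.congr φ.symm
  wit v := by
    obtain ⟨z, hz, hz'⟩ := exists_unit_perp hF ![v0 F m, v.1] ![v0 F m] (one_frame (v0_unit hF)) ![0]
      (fun i => by fin_cases i; rfl) (by omega)
    exact ⟨⟨z, hz⟩, hz' 0, hz' 1⟩
  trans {x v} h1 h2 := by
    obtain ⟨A, hA⟩ := exists_su_frame hF (f := ![x.1, v0 F m]) (f' := ![x.1, v.1]) (by omega)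
      (pair_frame x.2 (v0_unit hF) h1 ((H_eq_zero_comm hF).1 h1))
      (pair_frame x.2 v.2 h2 ((H_eq_zero_comm hF).1 h2))
    exact ⟨A, Subtype.ext (by simpa [smul_val] using hA 0), Subtype.ext (by simpa [smul_val] using hA 1)⟩

theorem linked_coab (hc1 : CoAb r (Cfsg.SU (1 + m) F q)) (hc2 : CoAb r (Cfsg.SU m F q))
    {x x' : UVec F q (2 + m)} (h : Linked q x.1 x'.1) :
    CoAb r ↥(stabilizer G x ⊓ stabilizer G x') := by
  rw [stab_eq, stab_eq, ← fix_union, Set.singleton_union]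
  rcases linked_fix hF x.2 x'.2 h with hf | ⟨x2, h1, h2, hf, -⟩
  · rw [hf]
    obtain ⟨φ⟩ := fix_one_equiv hF (show 2 + m = 1 + (1 + m) by omega) x.2
    exact hc1.congr φ.symm
  · rw [hf]
    obtain ⟨φ⟩ := fix_two_equiv hF (rfl : 2 + m = 2 + m) x.2 h1 h2
    exact hc2.congr φ.symm

variable (hm : 2 ≤ m) (hsurj : Function.Surjective σ) (hcen : σ.ker ≤ Subgroup.center E)
  (hker : IsPGroup r σ.ker) (ht : Triv.{u, v} r (Cfsg.SU (1 + m) F q)) (hc1 : CoAb r (Cfsg.SU (1 + m) F q))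
  (hc2 : CoAb r (Cfsg.SU m F q))
include hm hsurj hcen hker ht hc1 hc2

local notation "D" => setting hF hm hsurj hcen hker ht hc1 hc2

/-- Linked witnesses give the same coset. -/
theorem linked_eq {v x x' : UVec F q (2 + m)} {y y' : E} (h : (D).Lift v x y) (h' : (D).Lift v x' y')
    (hl : Linked q x.1 x'.1) : (y : E ⧸ (D).K) = (y' : E ⧸ (D).K) := by
  obtain ⟨a, ha, hav⟩ := linked_move hF (by omega) x.2 x'.2 (v0_unit hF) v.2 hl h.1 h.2.1 h'.1 h'.2.1
  exact eq_of_link (D) hsurj hker h h' (a := a)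
    ⟨Subtype.ext (ha _ (Or.inl rfl)), Subtype.ext (ha _ (Or.inr rfl))⟩ (Subtype.ext hav)
    (linked_coab hF hc1 hc2 hl)

/-- Independence, given room. -/
theorem indep_at {v x x' : UVec F q (2 + m)} {y y' : E} (h : (D).Lift v x y) (h' : (D).Lift v x' y')
    (hroom : x'.1 - H x'.1 x.1 • x.1 ≠ 0 →
      (q = 2 ∨ x'.1 - H x'.1 x.1 • x.1 ∈ Submodule.span F ({v0 F m, v.1, x.1} : Set Vec)) →
      ∃ w : Vec, H w w = 1 ∧ H w (v0 F m) = 0 ∧ H w v.1 = 0 ∧ H w x.1 = 0 ∧
        H w (x'.1 - H x'.1 x.1 • x.1) = 0) :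
    (y : E ⧸ (D).K) = (y' : E ⧸ (D).K) := by
  rcases CosetGeom.chain hF x.2 x'.2 h.1 h.2.1 h'.1 h'.2.1 hroom with hl | ⟨z, hz, hze, hzv, hl, hl'⟩
  · exact linked_eq hF hm hsurj hcen hker ht hc1 hc2 h h' hl
  · obtain ⟨w, hw⟩ := exists_lift (D) hsurj hker (x := ⟨z, hz⟩) (v := v) hze hzv
    exact (linked_eq hF hm hsurj hcen hker ht hc1 hc2 h hw hl).trans
      (linked_eq hF hm hsurj hcen hker ht hc1 hc2 hw h' hl')

/-- Elements of the plane group have lifts in every relevant lifted stabiliser. -/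
theorem exists_plane_lift (hroom : ∀ x x' : Vec, H x x = 1 → H x (v0 F m) = 0 → H x (v1 F m) = 0 →
      H x' (v0 F m) = 0 → H x' (v1 F m) = 0 → x' - H x' x • x ≠ 0 →
      (q = 2 ∨ x' - H x' x • x ∈ Submodule.span F ({v0 F m, v1 F m, x} : Set Vec)) →
      ∃ w : Vec, H w w = 1 ∧ H w (v0 F m) = 0 ∧ H w (v1 F m) = 0 ∧ H w x = 0 ∧ H w (x' - H x' x • x) = 0)
    {a : G} (ha : a ∈ plane F q m) :
    ∃ g : E, σ g = a ∧ ∀ x : UVec F q (2 + m), H x.1 (v0 F m) = 0 → H x.1 (v1 F m) = 0 →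
      g ∈ Loc σ r (stabilizer G x) := by
  have hmem : ∀ x : UVec F q (2 + m), H x.1 (v0 F m) = 0 → H x.1 (v1 F m) = 0 → a ∈ stabilizer G x :=
    fun x h1 h2 => Subtype.ext (ha _ ⟨x.2, h1, h2⟩)
  obtain ⟨z0, hz0, hz0'⟩ := exists_unit_perp hF ![v0 F m, v1 F m] ![v0 F m, v1 F m]
    (pair_frame (v0_unit hF) (v1_unit hF) (v0_v1 hF) ((H_eq_zero_comm hF).1 (v0_v1 hF))) id
    (fun _ => rfl) (by omega)
  obtain ⟨g, hg, hga⟩ := Loc_surj σ r hsurj ((D).coab ⟨z0, hz0⟩) (hmem _ (hz0' 0) (hz0' 1))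
  refine ⟨g, hga, ?_⟩
  have hstep : ∀ (x x' : UVec F q (2 + m)), H x.1 (v0 F m) = 0 → H x.1 (v1 F m) = 0 →
      H x'.1 (v0 F m) = 0 → H x'.1 (v1 F m) = 0 → Linked q x.1 x'.1 → g ∈ Loc σ r (stabilizer G x) →
      g ∈ Loc σ r (stabilizer G x') := by
    intro x x' h1 h2 h1' h2' hl hgx
    obtain ⟨g', hg', hga'⟩ := Loc_surj σ r hsurj ((D).coab x') (hmem x' h1' h2')
    rw [lift_unique_of_link hsurj hker ((D).good x) ((D).good x') (linked_coab hF hc1 hc2 hl) hgx hg'
      (hga.trans hga'.symm)]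
    exact hg'
  intro x h1 h2
  rcases CosetGeom.chain hF hz0 x.2 (hz0' 0) (hz0' 1) h1 h2
      (fun k0 k1 => hroom _ _ hz0 (hz0' 0) (hz0' 1) h1 h2 k0 k1) with
    hl | ⟨w, hw, hwe, hwf, hl, hl'⟩
  · exact hstep ⟨z0, hz0⟩ x (hz0' 0) (hz0' 1) h1 h2 hl hg
  · exact hstep ⟨w, hw⟩ x hwe hwf h1 h2 hl' (hstep ⟨z0, hz0⟩ ⟨w, hw⟩ (hz0' 0) (hz0' 1) hwe hwf hl hg)

omit hsurj hcen hker ht hc1 hc2 in
/-- The stabiliser of the first vector and the plane group generate. -/
theorem gen : Subgroup.closure ((fix (q := q) ({v0 F m} : Set Vec) : Set G) ∪ (plane F q m : Set G)) = ⊤ := by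
  set G0 := Subgroup.closure ((fix (q := q) ({v0 F m} : Set Vec) : Set G) ∪ (plane F q m : Set G)) with hG0
  have hK : ∀ {A : G}, A ∈ fix (q := q) ({v0 F m} : Set Vec) → A ∈ G0 :=
    fun h => Subgroup.subset_closure (Or.inl h)
  have hP : ∀ {A : G}, A ∈ plane F q m → A ∈ G0 := fun h => Subgroup.subset_closure (Or.inr h)
  have hblk : ∀ s : Cfsg.SU 2 F q, blkL (m := m) s ∈ plane F q m := by
    rintro s z ⟨-, h1, h2⟩
    rw [v0, stdF, H_single_right hF] at h1
    rw [v1, stdF, H_single_right hF] at h2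
    have e : z = Fin.append (0 : Fin 2 → F) (fun j => z (Fin.natAdd 2 j)) := by
      funext i
      induction i using Fin.addCases with
      | left i => fin_cases i <;> simp <;> assumption
      | right j => simp
    rw [e, blkL_mulVec, Matrix.mulVec_zero]
  -- moving plane vectors
  have hplane : ∀ v : Fin 2 → F, Cfsg.hermForm 2 F q v v = 1 →
      ∃ A ∈ plane F q m, mat A *ᵥ v0 F m = Fin.append v 0 := by
    intro v hv
    obtain ⟨s, hs⟩ := exists_su_frame hF (f := ![(Pi.single 0 1 : Fin 2 → F)]) (f' := ![v]) (by omega)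
      (one_frame (by rw [H_single_single hF, if_pos rfl])) (one_frame hv)
    refine ⟨blkL s, hblk s, ?_⟩
    rw [v0, stdF, single_left, blkL_mulVec]
    have := hs 0
    simp only [Matrix.cons_val_fin_one] at this
    rw [this]
  have hadd : ∀ (a b : F), Fin.append ![a, b] (0 : Fin m → F) = a • v0 F m + b • v1 F m := by
    intro a b
    funext i
    induction i using Fin.addCases with
    | left i => fin_cases i <;> simp [v0, v1, stdF, Pi.single_apply, Fin.ext_iff]
    | right j =>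
      simp [v0, v1, stdF, Pi.single_apply, Fin.ext_iff]
      omega
  -- reaching a vector
  have step : ∀ v : Vec, H v v = 1 → (H v (v0 F m)) ^ (q + 1) ≠ 1 →
      ∃ A ∈ G0, mat A *ᵥ v0 F m = v := by
    intro v hv hne
    set α := H v (v0 F m) with hα
    set w := v - α • v0 F m with hw
    have hwe : H w (v0 F m) = 0 := by rw [hw, H_sub_left, H_smul_left, v0_unit hF, ← hα]; ring
    have hew := (H_eq_zero_comm hF).1 hwe
    have hww : H w w = 1 - α ^ (q + 1) := by
      simp only [hw, H_sub_left, H_sub_right hF, H_smul_left, H_smul_right, hv, v0_unit hF, ← hα]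
      rw [← H_conj hF v (v0 F m), ← hα]
      ring
    have hN : (1 : F) - α ^ (q + 1) ≠ 0 := fun h0 => hne (sub_eq_zero.1 h0).symm
    obtain ⟨γ, hγ⟩ := UnitaryCount.exists_norm_eq hF (μ := H w w) (hww ▸ hN) (H_conj hF w w)
    have hγ0 : γ ≠ 0 := fun h0 => by
      rw [h0, zero_pow (by omega), hww] at hγ
      exact hN hγ.symm
    have hwu : H (γ⁻¹ • w) (γ⁻¹ • w) = 1 := by
      rw [UnitaryCount.hermForm_smul_smul, inv_pow, ← hγ, inv_mul_cancel₀ (pow_ne_zero _ hγ0)]
    obtain ⟨A, hA⟩ := exists_su_frame hF (f := ![v0 F m, v1 F m]) (f' := ![v0 F m, γ⁻¹ • w]) (by omega)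
      (pair_frame (v0_unit hF) (v1_unit hF) (v0_v1 hF) ((H_eq_zero_comm hF).1 (v0_v1 hF)))
      (pair_frame (v0_unit hF) hwu (by rw [H_smul_right, hew, mul_zero]) (by rw [H_smul_left, hwe, mul_zero]))
    have hA0 : mat A *ᵥ v0 F m = v0 F m := by simpa using hA 0
    have hA1 : mat A *ᵥ v1 F m = γ⁻¹ • w := by simpa using hA 1
    obtain ⟨B, hB, hBe⟩ := hplane ![α, γ] (by
      simp only [Cfsg.hermForm, Fin.sum_univ_two, Matrix.cons_val_zero, Matrix.cons_val_one]
      rw [← pow_succ', ← pow_succ', hγ, hww]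
      ring)
    refine ⟨A * B, mul_mem (hK fun y hy => by rw [Set.mem_singleton_iff.1 hy]; exact hA0) (hP hB), ?_⟩
    rw [mul_mulVec, hBe, hadd, Matrix.mulVec_add, Matrix.mulVec_smul, Matrix.mulVec_smul, hA0, hA1, smul_smul,
      mul_inv_cancel₀ hγ0, one_smul, hw]
    abel
  refine eq_top_iff.2 fun A _ => ?_
  suffices h : ∀ v : Vec, H v v = 1 → ∃ B ∈ G0, mat B *ᵥ v0 F m = v by
    obtain ⟨B, hB, hBA⟩ := h (mat A *ᵥ v0 F m) (by rw [SU_H, v0_unit hF])
    have : B⁻¹ * A ∈ fix (q := q) ({v0 F m} : Set Vec) := by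
      intro y hy
      rw [Set.mem_singleton_iff.1 hy, mul_mulVec, inv_mulVec B hBA]
    have := mul_mem hB (hK this)
    rwa [mul_inv_cancel_left] at this
  intro v hv
  by_cases hne : (H v (v0 F m)) ^ (q + 1) ≠ 1
  · exact step v hv hne
  push Not at hne
  set α := H v (v0 F m) with hα
  set w := v - α • v0 F m with hw
  have hwe : H w (v0 F m) = 0 := by rw [hw, H_sub_left, H_smul_left, v0_unit hF, ← hα]; ring
  -- a unit orthogonal to the isotropic part
  obtain ⟨z, hz, hz'⟩ := exists_unit_perp hF ![v0 F m, w] ![v0 F m] (one_frame (v0_unit hF)) ![0]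
    (fun i => by fin_cases i; rfl) (by omega)
  have hze : H z (v0 F m) = 0 := hz' 0
  have hzw : H z w = 0 := hz' 1
  obtain ⟨A, hA⟩ := exists_su_frame hF (f := ![v0 F m, z]) (f' := ![v0 F m, v1 F m]) (by omega)
    (pair_frame (v0_unit hF) hz ((H_eq_zero_comm hF).1 hze) hze)
    (pair_frame (v0_unit hF) (v1_unit hF) (v0_v1 hF) ((H_eq_zero_comm hF).1 (v0_v1 hF)))
  have hA0 : mat A *ᵥ v0 F m = v0 F m := by simpa using hA 0
  have hA1 : mat A *ᵥ z = v1 F m := by simpa using hA 1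
  set w' := mat A *ᵥ w with hw'
  have hw'e : H w' (v0 F m) = 0 := by rw [hw', ← hA0, SU_H, hwe]
  have hw'f : H w' (v1 F m) = 0 := by rw [hw', ← hA1, SU_H, (H_eq_zero_comm hF).1 hzw]
  obtain ⟨B, hB, hBe⟩ := hplane ![0, 1] (by simp [Cfsg.hermForm, Fin.sum_univ_two, zero_pow (q_ne_zero hF)])
  obtain ⟨z2, hz2, hz2'⟩ := exists_unit_perp hF ![v0 F m, v1 F m] ![v0 F m, v1 F m]
    (pair_frame (v0_unit hF) (v1_unit hF) (v0_v1 hF) ((H_eq_zero_comm hF).1 (v0_v1 hF))) id
    (fun _ => rfl) (by omega)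
  have hBe' : mat B *ᵥ v0 F m = v1 F m := by rw [hBe, hadd, zero_smul, one_smul, zero_add]
  have hBw : mat B *ᵥ w' = w' := by
    -- the plane group fixes the orthogonal of the plane
    by_cases hu : H w' w' = 0
    · have h1 : mat B *ᵥ (w' + z2) = w' + z2 ∨ H w' z2 ≠ 0 := by
        by_cases h0 : H w' z2 = 0
        · exact Or.inl (hB _ ⟨by simp [H_add_left, H_add_right hF, hu, hz2, h0, (H_eq_zero_comm hF).1 h0],
            by rw [H_add_left, hw'e]; simpa using hz2' 0, by rw [H_add_left, hw'f]; simpa using hz2' 1⟩)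
        · exact Or.inr h0
      have hb2 : mat B *ᵥ z2 = z2 := hB _ ⟨hz2, hz2' 0, hz2' 1⟩
      rcases h1 with h1 | h0
      · rw [Matrix.mulVec_add, hb2] at h1
        exact add_right_cancel h1
      · set μ := H w' z2 with hμ
        set s := w' - μ • z2 with hs
        have hss : H s s = - μ ^ (q + 1) := by
          simp only [hs, H_sub_left, H_sub_right hF, H_smul_left, H_smul_right, hu, hz2, ← hμ]
          rw [← H_conj hF w' z2, ← hμ]
          ring
        obtain ⟨c, hc⟩ := UnitaryCount.exists_norm_eq hF (μ := (H s s)⁻¹)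
          (by rw [hss]; exact inv_ne_zero (neg_ne_zero.2 (pow_ne_zero _ h0))) (by rw [inv_pow, H_conj hF])
        have hc0 : c ≠ 0 := fun hc0 => by
          rw [hc0, zero_pow (by omega), hss] at hc
          exact inv_ne_zero (neg_ne_zero.2 (pow_ne_zero _ h0)) hc.symm
        have h1 : mat B *ᵥ (c • s) = c • s := hB _
          ⟨by rw [UnitaryCount.hermForm_smul_smul, hc,
              inv_mul_cancel₀ (by rw [hss]; exact neg_ne_zero.2 (pow_ne_zero _ h0))],
            by rw [H_smul_left, hs, H_sub_left, H_smul_left, hw'e, show H z2 (v0 F m) = 0 from hz2' 0]; ring,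
            by rw [H_smul_left, hs, H_sub_left, H_smul_left, hw'f, show H z2 (v1 F m) = 0 from hz2' 1]; ring⟩
        rw [Matrix.mulVec_smul] at h1
        have h2 : mat B *ᵥ s = s := smul_right_injective _ hc0 h1
        rw [hs, Matrix.mulVec_sub, Matrix.mulVec_smul, hb2] at h2
        exact sub_left_injective h2
    · obtain ⟨c, hc⟩ := UnitaryCount.exists_norm_eq hF (μ := (H w' w')⁻¹) (inv_ne_zero hu)
        (by rw [inv_pow, H_conj hF])
      have hc0 : c ≠ 0 := fun hc0 => by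
        rw [hc0, zero_pow (by omega)] at hc
        exact inv_ne_zero hu hc.symm
      have h1 : mat B *ᵥ (c • w') = c • w' := hB _
        ⟨by rw [UnitaryCount.hermForm_smul_smul, hc, inv_mul_cancel₀ hu],
          by rw [H_smul_left, hw'e, mul_zero], by rw [H_smul_left, hw'f, mul_zero]⟩
      rw [Matrix.mulVec_smul] at h1
      exact smul_right_injective _ hc0 h1
  set v' := mat (B * A) *ᵥ v with hv'
  have hv'e : v' = α • v1 F m + w' := by
    rw [hv', show v = α • v0 F m + w by rw [hw]; abel, mul_mulVec, Matrix.mulVec_add, Matrix.mulVec_smul,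
      hA0, ← hw', Matrix.mulVec_add, Matrix.mulVec_smul, hBw, hBe']
  obtain ⟨C, hC, hCv⟩ := step v' (by rw [hv', SU_H, hv]) (by
    rw [hv'e, H_add_left, H_smul_left, (H_eq_zero_comm hF).1 (v0_v1 hF), hw'e, mul_zero, add_zero,
      zero_pow (by omega)]
    exact zero_ne_one)
  refine ⟨(B * A)⁻¹ * C, mul_mem (inv_mem (mul_mem (hP hB) (hK fun y hy => by
    rw [Set.mem_singleton_iff.1 hy]; exact hA0))) hC, ?_⟩
  rw [mul_mulVec, hCv, hv']
  exact inv_mulVec (B * A) rfl

omit hsurj hcen hker ht hc1 hc2 hm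

/-- The induction step in dimension at least five. -/
theorem triv_step (hm : 3 ≤ m) (hq : 3 ≤ q ∨ 5 ≤ m) (ht : Triv.{u, v} r (Cfsg.SU (1 + m) F q))
    (hc1 : CoAb r (Cfsg.SU (1 + m) F q)) (hc2 : CoAb r (Cfsg.SU m F q)) :
    Triv.{u, v} r (Cfsg.SU (2 + m) F q) := by
  intro E _ _ σ hsurj hcen hker
  set D' := setting hF (by omega) hsurj hcen hker ht hc1 hc2 with hD'
  have hind : D'.Indep := fun v x x' y y' h h' =>
    indep_at hF (by omega) hsurj hcen hker ht hc1 hc2 h h' fun _ hz =>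
      room hF (by omega) (by omega) (v0_unit hF) x.2 h.1 _ hz
  let S : Set E := {g | σ g ∈ plane F q m ∧ ∀ x : UVec F q (2 + m), H x.1 (v0 F m) = 0 →
    H x.1 (v1 F m) = 0 → g ∈ Loc σ r (stabilizer G x)}
  refine CosetAbs.main D' hsurj hker hcen hind S (fun g hg v => ?_) ?_
  · obtain ⟨z, hz, hz'⟩ := exists_unit_perp hF ![v0 F m, v1 F m, v.1] ![v0 F m, v1 F m]
      (pair_frame (v0_unit hF) (v1_unit hF) (v0_v1 hF) ((H_eq_zero_comm hF).1 (v0_v1 hF))) ![0, 1]
      (fun i => by fin_cases i <;> rfl) (by omega)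
    exact compat_of_common D' hsurj hker hind (x := ⟨z, hz⟩) (hz' 0) (hz' 2) (hg.2 _ (hz' 0) (hz' 1))
  · rw [eq_top_iff, ← gen hF (show 2 ≤ m by omega)]
    refine Subgroup.closure_mono (Set.union_subset_union ?_ ?_)
    · intro A hA
      show A • D'.e = D'.e
      exact Subtype.ext (hA _ rfl)
    · intro a ha
      obtain ⟨g, hga, hg⟩ := exists_plane_lift hF (show 2 ≤ m by omega) hsurj hcen hker ht hc1 hc2
        (fun x x' hx hxe _ _ _ _ hz => room hF (by omega) (by omega) (v0_unit hF) hx hxe _ hz) ha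
      exact ⟨g, ⟨hga.symm ▸ ha, hg⟩, hga⟩

end Cfsg.Agent.SimpleFacts.SUMult.CosetStep
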