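import Cfsg.Agent.SimpleFacts.SUMult.Blocks
import Mathlib

/-!
A hyperbolic plane followed by an orthonormal family: the diagonal elements.
-/

set_option autoImplicit false
set_option linter.unusedSectionVars false
set_option linter.unusedSimpArgs false

namespace Cfsg.Agent.SimpleFacts.SUMult.Frame

open Matrix
open Cfsg.Agent.Forms Cfsg.Agent.Classical Cfsg.Agent.Classical.Unitary
open Cfsg.Agent.SimpleFacts.SUMult Blocks

universe u

variable {F : Type u} [Field F] [Fintype F] {q d : ℕ}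

/-- A hyperbolic pair in the plane. -/
structure Hyp (q : ℕ) (e h : Fin 2 → F) : Prop where
  ee : Cfsg.hermForm 2 F q e e = 0
  hh : Cfsg.hermForm 2 F q h h = 0
  eh : Cfsg.hermForm 2 F q e h = 1

/-- The matrix acting by `a` and `b` on the pair. -/
def planeM (q : ℕ) (e h : Fin 2 → F) (a b : F) : Matrix (Fin 2) (Fin 2) F :=
  !![e 0, h 0; e 1, h 1] * Matrix.diagonal ![a, b] * !![h 0 ^ q, h 1 ^ q; e 0 ^ q, e 1 ^ q]

variable (hF : Fintype.card F = q ^ 2)
include hF

theorem exists_hyp : ∃ e h : Fin 2 → F, Hyp q e h ∧ e ≠ 0 := by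
  obtain ⟨u, huu, hu1, -, -⟩ := exists_isotropic_pair hF (n := 2) 0 1 (by decide)
  have hu : u ≠ 0 := fun h => by simp [h] at hu1
  obtain ⟨v, hv, huv⟩ := exists_partner hF hu huu
  exact ⟨u, v, ⟨huu, hv, huv⟩, hu⟩

variable {e h : Fin 2 → F} (P : Hyp q e h)
include P

theorem he : Cfsg.hermForm 2 F q h e = 1 := by rw [← H_conj hF, P.eh, one_pow]

theorem left_inv : !![h 0 ^ q, h 1 ^ q; e 0 ^ q, e 1 ^ q] * !![e 0, h 0; e 1, h 1] = 1 := by
  have h1 := P.eh
  have h2 := P.hh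
  have h3 := P.ee
  have h4 := he hF P
  simp only [Cfsg.hermForm, Fin.sum_univ_two] at h1 h2 h3 h4
  ext i j
  fin_cases i <;> fin_cases j <;> simp [Matrix.mul_apply, Fin.sum_univ_two]
  · linear_combination h1
  · linear_combination h2
  · linear_combination h3
  · linear_combination h4

theorem right_inv : !![e 0, h 0; e 1, h 1] * !![h 0 ^ q, h 1 ^ q; e 0 ^ q, e 1 ^ q] = 1 :=
  mul_eq_one_comm.1 (left_inv hF P)

theorem planeM_one : planeM q e h 1 1 = 1 := by
  rw [planeM, show (![1, 1] : Fin 2 → F) = fun _ => 1 by funext i; fin_cases i <;> rfl, Matrix.diagonal_one,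
    Matrix.mul_one, right_inv hF P]

theorem planeM_mul (a b a' b' : F) :
    planeM q e h a b * planeM q e h a' b' = planeM q e h (a * a') (b * b') := by
  simp only [planeM, Matrix.mul_assoc]
  rw [← Matrix.mul_assoc !![h 0 ^ q, h 1 ^ q; e 0 ^ q, e 1 ^ q] !![e 0, h 0; e 1, h 1], left_inv hF P,
    Matrix.one_mul, ← Matrix.mul_assoc (Matrix.diagonal ![a, b]), Matrix.diagonal_mul_diagonal]
  congr 3
  funext i
  fin_cases i <;> rfl

theorem planeM_det (a b : F) : (planeM q e h a b).det = a * b := by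
  rw [planeM, Matrix.det_mul, Matrix.det_mul, mul_right_comm, ← Matrix.det_mul, right_inv hF P, Matrix.det_one,
    one_mul, Matrix.det_diagonal, Fin.prod_univ_two]
  rfl

theorem planeM_e (a b : F) : planeM q e h a b *ᵥ e = a • e := by
  have h1 := P.eh
  have h3 := P.ee
  simp only [Cfsg.hermForm, Fin.sum_univ_two] at h1 h3
  have k : !![h 0 ^ q, h 1 ^ q; e 0 ^ q, e 1 ^ q] *ᵥ e = ![1, 0] := by
    funext i
    fin_cases i <;> simp [Matrix.mulVec, dotProduct, Fin.sum_univ_two]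
    · linear_combination h1
    · linear_combination h3
  rw [planeM, ← Matrix.mulVec_mulVec, k, ← Matrix.mulVec_mulVec,
    show Matrix.diagonal ![a, b] *ᵥ ![1, 0] = ![a, 0] by funext i; fin_cases i <;> simp [Matrix.mulVec_diagonal]]
  funext i
  fin_cases i <;> simp [Matrix.mulVec, dotProduct, Fin.sum_univ_two, mul_comm]

theorem planeM_h (a b : F) : planeM q e h a b *ᵥ h = b • h := by
  have h2 := P.hh
  have h4 := he hF P
  simp only [Cfsg.hermForm, Fin.sum_univ_two] at h2 h4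
  have k : !![h 0 ^ q, h 1 ^ q; e 0 ^ q, e 1 ^ q] *ᵥ h = ![0, 1] := by
    funext i
    fin_cases i <;> simp [Matrix.mulVec, dotProduct, Fin.sum_univ_two]
    · linear_combination h2
    · linear_combination h4
  rw [planeM, ← Matrix.mulVec_mulVec, k, ← Matrix.mulVec_mulVec,
    show Matrix.diagonal ![a, b] *ᵥ ![0, 1] = ![0, b] by funext i; fin_cases i <;> simp [Matrix.mulVec_diagonal]]
  funext i
  fin_cases i <;> simp [Matrix.mulVec, dotProduct, Fin.sum_univ_two, mul_comm]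

theorem decomp (x : Fin 2 → F) : x = Cfsg.hermForm 2 F q x h • e + Cfsg.hermForm 2 F q x e • h := by
  have h1 := congrArg (fun M => M *ᵥ x) (right_inv hF P)
  simp only [Matrix.one_mulVec] at h1
  conv_lhs => rw [← h1]
  funext i
  fin_cases i <;> simp [Matrix.mulVec, dotProduct, Matrix.mul_apply, Fin.sum_univ_two, Cfsg.hermForm] <;> ring

theorem planeM_preserves {c : F} (hc : c ≠ 0) (x y : Fin 2 → F) :
    Cfsg.hermForm 2 F q (planeM q e h c (c ^ q)⁻¹ *ᵥ x) (planeM q e h c (c ^ q)⁻¹ *ᵥ y) =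
      Cfsg.hermForm 2 F q x y := by
  conv_rhs => rw [decomp hF P x, decomp hF P y]
  conv_lhs => rw [decomp hF P x, decomp hF P y]
  simp only [Matrix.mulVec_add, Matrix.mulVec_smul, planeM_e hF P, planeM_h hF P, H_add_left, H_add_right hF,
    H_smul_left, H_smul_right, P.ee, P.hh, P.eh, he hF P, inv_pow, pow_qq hF]
  have : c ^ q ≠ 0 := pow_ne_zero _ hc
  field_simp
  ring

/-- The diagonal elements. -/
def tor (c : F) (hc : c ≠ 0) (μ : Fin d → F) (hμ : ∀ i, μ i ^ (q + 1) = 1)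
    (hdet : c * (c ^ q)⁻¹ * ∏ i, μ i = 1) : Cfsg.SU (2 + d) F q :=
  suMk (blkM (planeM q e h c (c ^ q)⁻¹) (Matrix.diagonal μ))
    (by rw [det_blkM, planeM_det hF P, Matrix.det_diagonal, hdet])
    (blkM_preserves (planeM_preserves hF P hc) (diag_preserves hF μ hμ))

theorem tor_mulVec (c : F) (hc : c ≠ 0) (μ : Fin d → F) (hμ : ∀ i, μ i ^ (q + 1) = 1)
    (hdet : c * (c ^ q)⁻¹ * ∏ i, μ i = 1) (x : Fin 2 → F) (y : Fin d → F) :
    mat (tor hF P c hc μ hμ hdet) *ᵥ Fin.append x y =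
      Fin.append (planeM q e h c (c ^ q)⁻¹ *ᵥ x) (fun i => μ i * y i) := by
  rw [tor, suMk_mulVec, blkM_mulVec]
  congr 1
  funext i
  rw [Matrix.mulVec_diagonal]

theorem tor_mul (c c' : F) (hc : c ≠ 0) (hc' : c' ≠ 0) (μ μ' : Fin d → F) (hμ : ∀ i, μ i ^ (q + 1) = 1)
    (hμ' : ∀ i, μ' i ^ (q + 1) = 1) (hdet : c * (c ^ q)⁻¹ * ∏ i, μ i = 1)
    (hdet' : c' * (c' ^ q)⁻¹ * ∏ i, μ' i = 1) :
    tor hF P c hc μ hμ hdet * tor hF P c' hc' μ' hμ' hdet' =
      tor hF P (c * c') (mul_ne_zero hc hc') (fun i => μ i * μ' i)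
        (fun i => by rw [mul_pow, hμ, hμ', one_mul])
        (by rw [mul_pow, mul_inv, Finset.prod_mul_distrib]; linear_combination (c' * (c' ^ q)⁻¹ * ∏ i, μ' i) * hdet + hdet') := by
  refine SU_ext fun x => ?_
  rw [← eta x, mul_mulVec, tor_mulVec, tor_mulVec, tor_mulVec, Matrix.mulVec_mulVec, planeM_mul hF P,
    mul_pow, mul_inv]
  congr 1
  funext i
  ring

end Cfsg.Agent.SimpleFacts.SUMult.Frame
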