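import Cfsg.Agent.SimpleFacts.SUMult.Frame
import Cfsg.Agent.SimpleFacts.SUMult.Unip
import Mathlib

/-!
The radical of the stabiliser of an isotropic vector in coordinates: pairs `(w, a)`.
-/

set_option autoImplicit false
set_option linter.unusedSectionVars false
set_option linter.unusedSimpArgs false

namespace Cfsg.Agent.SimpleFacts.SUMult.Heis

open Matrix
open Cfsg.Agent.Forms Cfsg.Agent.Classical Cfsg.Agent.Classical.Unitary
open Cfsg.Agent.SimpleFacts.SUMult Blocks Unip
open scoped commutatorElement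

universe u

variable {F : Type u} [Field F] [Fintype F] {q d : ℕ}

local notation "G" => Cfsg.SU (2 + d) F q
local notation "H" => Cfsg.hermForm (2 + d) F q
local notation "Hd" => Cfsg.hermForm d F q

/-- The isotropic vector. -/
def eV (d : ℕ) (e : Fin 2 → F) : Fin (2 + d) → F := Fin.append e 0

/-- The orthogonal of the plane. -/
def iW (w : Fin d → F) : Fin (2 + d) → F := Fin.append 0 w

/-- Coordinates. -/
def Co (q : ℕ) (e : Fin 2 → F) (g : Cfsg.SU (2 + d) F q) (w : Fin d → F) (a : F) : Prop :=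
  mat g = unM q (eV d e) (iW w) a

theorem iW_zero : iW (0 : Fin d → F) = 0 := by
  funext i
  induction i using Fin.addCases <;> simp [iW]

theorem iW_add (w w' : Fin d → F) : iW (w + w') = iW w + iW w' := by
  funext i
  induction i using Fin.addCases <;> simp [iW]

theorem iW_smul (c : F) (w : Fin d → F) : iW (c • w) = c • iW w := by
  funext i
  induction i using Fin.addCases <;> simp [iW]

variable (hF : Fintype.card F = q ^ 2) {e h : Fin 2 → F} (P : Frame.Hyp q e h)
include hF P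

theorem H_eV : H (eV d e) (eV d e) = 0 := by
  rw [eV, H_append, P.ee, H_zero_left, add_zero]

theorem H_iW_eV (w : Fin d → F) : H (iW w) (eV d e) = 0 := by
  rw [eV, iW, H_append, H_zero_left, H_zero_right hF, add_zero]

theorem H_iW (w w' : Fin d → F) : H (iW w) (iW w') = Hd w w' := by
  rw [iW, iW, H_append, H_zero_left, zero_add]

theorem co_apply {g : G} {w : Fin d → F} {a : F} (hg : Co q e g w a) :
    mat g *ᵥ Fin.append h 0 = Fin.append (h + a • e) w := by
  rw [show mat g = _ from hg, unM_mulVec hF]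
  have h1 : H (Fin.append h (0 : Fin d → F)) (eV d e) = 1 := by
    rw [eV, H_append, H_zero_left, add_zero, Frame.he hF P]
  have h2 : H (Fin.append h (0 : Fin d → F)) (iW w) = 0 := by
    rw [iW, H_append, H_zero_left, H_zero_right hF, add_zero]
  rw [h1, h2]
  funext i
  induction i using Fin.addCases <;> simp [eV, iW]

theorem co_trace {g : G} {w : Fin d → F} {a : F} (hg : Co q e g w a) : a + a ^ q = - Hd w w := by
  have h1 := SU_H g (Fin.append h (0 : Fin d → F)) (Fin.append h 0)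
  rw [co_apply hF P hg, H_append, H_append, H_zero_left, add_zero] at h1
  simp only [H_add_left, H_add_right hF, H_smul_left, H_smul_right, P.hh, P.eh, P.ee, Frame.he hF P] at h1
  linear_combination h1

theorem co_unique {g : G} {w w' : Fin d → F} {a a' : F} (hg : Co q e g w a) (hg' : Co q e g w' a')
    (he : e ≠ 0) : w = w' ∧ a = a' := by
  have h1 := co_apply hF P hg
  rw [co_apply hF P hg'] at h1
  refine ⟨funext fun i => by simpa using (congrFun h1 (Fin.natAdd 2 i)).symm, smul_left_injective F he ?_⟩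
  funext i
  simpa using (congrFun h1 (Fin.castAdd d i)).symm

theorem co_one : Co q e (1 : G) 0 0 := by
  refine mat_ext fun x => ?_
  rw [mat_one, one_mulVec, unM_mulVec hF, iW_zero]
  simp [H_zero_right hF]

theorem co_eq_one {g : G} (hg : Co q e g 0 0) : g = 1 :=
  SU_ext fun x => by rw [show mat g = _ from hg, show mat (1 : G) = _ from co_one hF P]

theorem co_mul {g g' : G} {w w' : Fin d → F} {a a' : F} (hg : Co q e g w a) (hg' : Co q e g' w' a') :
    Co q e (g * g') (w + w') (a + a' - Hd w' w) := by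
  show mat (g * g') = _
  rw [mat_mul, show mat g = _ from hg, show mat g' = _ from hg',
    unM_mul hF (H_eV hF P) (H_iW_eV hF P w) (H_iW_eV hF P w'), ← iW_add, H_iW hF P]

theorem co_exists (w : Fin d → F) {a : F} (ha : a + a ^ q = - Hd w w) : ∃ g : G, Co q e g w a :=
  ⟨un hF (H_eV hF P) (H_iW_eV hF P w) (show a + a ^ q = - H (iW w) (iW w) by rw [H_iW hF P]; exact ha), rfl⟩

theorem co_inv {g : G} {w : Fin d → F} {a : F} (hg : Co q e g w a) : Co q e g⁻¹ (-w) (a ^ q) := by
  obtain ⟨g', hg'⟩ := co_exists hF P (-w) (a := a ^ q) (by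
    rw [pow_qq hF, ← neg_one_smul F w, H_smul_left, H_smul_right]
    have : ((-1 : F)) ^ q = -1 := by rw [← HermStd.qHom_apply hF, map_neg, map_one]
    rw [this]
    linear_combination co_trace hF P hg)
  have h1 := co_mul hF P hg hg'
  have h2 : a + a ^ q - Hd (-w) w = 0 := by
    rw [← neg_one_smul F w, H_smul_left]
    linear_combination co_trace hF P hg
  rw [h2, add_neg_cancel] at h1
  rwa [inv_eq_of_mul_eq_one_right (co_eq_one hF P h1)]

/-- Conjugation. -/
theorem co_conj {g u : G} {w w' : Fin d → F} {a c : F} (hge : mat g *ᵥ eV d e = c • eV d e)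
    (hgw : mat g *ᵥ iW w = iW w') (hu : Co q e u w a) :
    Co q e (g * u * g⁻¹) (c ^ q • w') (c ^ (q + 1) * a) := by
  refine mat_ext fun x => ?_
  have hx : mat g *ᵥ (mat g⁻¹ *ᵥ x) = x := by rw [← mul_mulVec, mul_inv_cancel, mat_one, one_mulVec]
  have e1 : H (mat g⁻¹ *ᵥ x) (eV d e) = c ^ q * H x (eV d e) := by
    conv_lhs => rw [← SU_H g, hx, hge, H_smul_right]
  have e2 : H (mat g⁻¹ *ᵥ x) (iW w) = H x (iW w') := by
    conv_lhs => rw [← SU_H g, hx, hgw]
  rw [mul_mulVec, mul_mulVec, show mat u = _ from hu, unM_mulVec hF, unM_mulVec hF, e1, e2, Matrix.mulVec_add,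
    Matrix.mulVec_sub, Matrix.mulVec_add, hx, Matrix.mulVec_smul, Matrix.mulVec_smul, Matrix.mulVec_smul, hgw, hge,
    iW_smul, H_smul_right, pow_qq hF]
  module

/-- The radical. -/
def heis (d : ℕ) : Subgroup (Cfsg.SU (2 + d) F q) where
  carrier := {g | ∃ w a, Co q e g w a}
  one_mem' := ⟨0, 0, co_one hF P⟩
  mul_mem' := fun ⟨_, _, hg⟩ ⟨_, _, hg'⟩ => ⟨_, _, co_mul hF P hg hg'⟩
  inv_mem' := fun ⟨_, _, hg⟩ => ⟨_, _, co_inv hF P hg⟩

/-- The centre of the radical. -/
def cent (d : ℕ) : Subgroup (Cfsg.SU (2 + d) F q) where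
  carrier := {g | ∃ a, Co q e g (0 : Fin d → F) a}
  one_mem' := ⟨0, co_one hF P⟩
  mul_mem' := fun ⟨a, hg⟩ ⟨a', hg'⟩ => ⟨a + a', by simpa [H_zero_left] using co_mul hF P hg hg'⟩
  inv_mem' := fun ⟨a, hg⟩ => ⟨a ^ q, by simpa using co_inv hF P hg⟩

theorem cent_le : cent hF P d ≤ heis hF P d := fun _ ⟨a, hg⟩ => ⟨0, a, hg⟩

theorem co_commutator {g g' : G} {w w' : Fin d → F} {a a' : F} (hg : Co q e g w a) (hg' : Co q e g' w' a') :
    Co q e ⁅g, g'⁆ 0 (Hd w w' - Hd w' w) := by
  have hδ : (Hd w w' - Hd w' w) + (Hd w w' - Hd w' w) ^ q = - Hd (0 : Fin d → F) 0 := by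
    rw [H_zero_left, ← HermStd.qHom_apply hF, map_sub, HermStd.qHom_apply, HermStd.qHom_apply, H_conj hF,
      H_conj hF]
    ring
  obtain ⟨z, hz⟩ := co_exists hF P (0 : Fin d → F) hδ
  have h1 := co_mul hF P hz (co_mul hF P hg' hg)
  have h2 := co_mul hF P hg hg'
  have e : z * (g' * g) = g * g' := by
    refine SU_ext fun x => ?_
    rw [show mat (z * (g' * g)) = _ from h1, show mat (g * g') = _ from h2, zero_add, add_comm w' w, H_zero_right hF]
    congr 2
    ring
  rw [commutatorElement_def, show g * g' * g⁻¹ * g'⁻¹ = z by rw [← e]; group]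
  exact hz

theorem cent_comm {z g : G} (hz : z ∈ cent hF P d) (hg : g ∈ heis hF P d) : Commute z g := by
  obtain ⟨a, ha⟩ := hz
  obtain ⟨w, a', ha'⟩ := hg
  rw [← commutatorElement_eq_one_iff_commute]
  exact co_eq_one hF P (by simpa [H_zero_left, H_zero_right hF] using co_commutator hF P ha ha')

/-- Same first coordinate: they differ by a central element. -/
theorem co_sameW {g g' : G} {w : Fin d → F} {a a' : F} (hg : Co q e g w a) (hg' : Co q e g' w a') :
    g⁻¹ * g' ∈ cent hF P d := by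
  have h1 := co_mul hF P (co_inv hF P hg) hg'
  rw [neg_add_cancel] at h1
  exact ⟨_, h1⟩

theorem tor_eV (c : F) (hc : c ≠ 0) (μ : Fin d → F) (hμ : ∀ i, μ i ^ (q + 1) = 1)
    (hdet : c * (c ^ q)⁻¹ * ∏ i, μ i = 1) :
    mat (Frame.tor hF P c hc μ hμ hdet) *ᵥ eV d e = c • eV d e := by
  rw [eV, Frame.tor_mulVec, Frame.planeM_e hF P]
  funext i
  induction i using Fin.addCases <;> simp

theorem tor_iW (c : F) (hc : c ≠ 0) (μ : Fin d → F) (hμ : ∀ i, μ i ^ (q + 1) = 1)
    (hdet : c * (c ^ q)⁻¹ * ∏ i, μ i = 1) (w : Fin d → F) :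
    mat (Frame.tor hF P c hc μ hμ hdet) *ᵥ iW w = iW (fun i => μ i * w i) := by
  rw [iW, Frame.tor_mulVec, Matrix.mulVec_zero, iW]

/-- The action of a diagonal element. -/
theorem tor_conj (c : F) (hc : c ≠ 0) (μ : Fin d → F) (hμ : ∀ i, μ i ^ (q + 1) = 1)
    (hdet : c * (c ^ q)⁻¹ * ∏ i, μ i = 1) {u : G} {w : Fin d → F} {a : F} (hu : Co q e u w a) :
    Co q e (Frame.tor hF P c hc μ hμ hdet * u * (Frame.tor hF P c hc μ hμ hdet)⁻¹)
      (c ^ q • fun i => μ i * w i) (c ^ (q + 1) * a) :=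
  co_conj hF P (tor_eV hF P c hc μ hμ hdet) (tor_iW hF P c hc μ hμ hdet w) hu

/-- The action of the block. -/
theorem blk_conj (L : Cfsg.SU d F q) {u : G} {w : Fin d → F} {a : F} (hu : Co q e u w a) :
    Co q e (blkR L * u * (blkR L)⁻¹) (mat L *ᵥ w) a := by
  have h1 : mat (blkR (k := 2) L) *ᵥ eV d e = (1 : F) • eV d e := by
    rw [eV, blkR_mulVec, Matrix.mulVec_zero, one_smul]
  have h2 : mat (blkR (k := 2) L) *ᵥ iW w = iW (mat L *ᵥ w) := by rw [iW, blkR_mulVec, iW]
  simpa using co_conj hF P h1 h2 hu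

end Cfsg.Agent.SimpleFacts.SUMult.Heis
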