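import Cfsg.Agent.SimpleFacts.SUMult.Heis
import Cfsg.Agent.SimpleFacts.SUMult.Triv
import Cfsg.Agent.SimpleFacts.SpMult.Common
import Mathlib

/-!
Central extensions of the radical: its derived group meets the kernel trivially.
-/

set_option autoImplicit false
set_option linter.unusedSectionVars false
set_option linter.unusedSimpArgs false

namespace Cfsg.Agent.SimpleFacts.SUMult.HeisGood

open Matrix
open Cfsg.Agent.Forms Cfsg.Agent.Classical Cfsg.Agent.Classical.Unitary
open Cfsg.Agent.SimpleFacts.SUMult Ext Blocks Heis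
open scoped commutatorElement

universe u v

variable {F : Type u} [Field F] [Fintype F] {q d : ℕ}

/-- Additive pairings killed by two scalars. -/
theorem kill {A : Type*} [CommGroup A] (f : F → F → A) (hl : ∀ x x' y, f (x + x') y = f x y * f x' y)
    (hr : ∀ x y y', f x (y + y') = f x y * f x y') {b : F} (hb : b ^ 2 + b + 1 ≠ 0)
    (h1 : ∀ x y, f (b * x) (b * y) = f x y) (h2 : ∀ x y, f ((1 + b) * x) ((1 + b) * y) = f x y) :
    ∀ x y, f x y = 1 := by
  have h3 : ∀ x y, f x (b * y) * f (b * x) y * f x y = 1 := by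
    intro x y
    have h := h2 x y
    rw [add_mul, add_mul, one_mul, one_mul, hl, hr, hr, h1] at h
    calc f x (b * y) * f (b * x) y * f x y = (f x y)⁻¹ * (f x y * f x (b * y) * (f (b * x) y * f x y)) := by
          rw [mul_assoc (f x y), inv_mul_cancel_left, mul_assoc]
      _ = 1 := by rw [h, inv_mul_cancel]
  have h4 : ∀ x y, f ((b ^ 2 + b + 1) * x) y = 1 := by
    intro x y
    have h := h3 (b * x) y
    rw [h1] at h
    rw [add_mul, add_mul, one_mul, hl, hl, sq, mul_assoc b b x, mul_comm (f (b * (b * x)) y * f (b * x) y),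
      ← mul_assoc]
    exact h
  intro x y
  have := h4 ((b ^ 2 + b + 1)⁻¹ * x) y
  rwa [← mul_assoc, mul_inv_cancel₀ hb, one_mul] at this

/-- Additive functions fixed by a scalar other than one. -/
theorem kill_one {A : Type*} [CommGroup A] (g : F → A) (hg : ∀ x x', g (x + x') = g x * g x') {c : F}
    (hc : c ≠ 1) (h : ∀ x, g (c * x) = g x) : ∀ x, g x = 1 := by
  intro x
  have h1 := h ((c - 1)⁻¹ * x)
  have h2 : c * ((c - 1)⁻¹ * x) = x + (c - 1)⁻¹ * x := by
    field_simp [sub_ne_zero.2 hc]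
    ring
  rw [h2, hg] at h1
  exact mul_right_cancel (h1.trans (one_mul _).symm)

theorem H_single_pair (hF : Fintype.card F = q ^ 2) (i j : Fin d) (x y : F) :
    Cfsg.hermForm d F q (Pi.single i x) (Pi.single j y) = if i = j then x * y ^ q else 0 := by
  unfold Cfsg.hermForm
  rw [Finset.sum_eq_single i]
  · by_cases hij : i = j
    · subst hij; simp
    · rw [Pi.single_eq_same, Pi.single_eq_of_ne hij, if_neg hij]
      rcases Nat.eq_zero_or_pos q with hq | hq
      · exfalso
        have := Fintype.card_pos (α := F)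
        rw [hF, hq] at this
        simp at this
      · rw [zero_pow hq.ne', mul_zero]
  · intro b _ hb
    rw [Pi.single_eq_of_ne hb, zero_mul]
  · intro h; exact absurd (Finset.mem_univ i) h

variable (hF : Fintype.card F = q ^ 2) {e h : Fin 2 → F} (P : Frame.Hyp q e h)

local notation "G" => Cfsg.SU (2 + d) F q
local notation "Hd" => Cfsg.hermForm d F q

variable {E : Type v} [Group E] [Finite E] {σ : E →* ↥(Cfsg.SU (2 + d) F q)}

/-- Lifts with a given first coordinate. -/
def Lift (q : ℕ) (e : Fin 2 → F) (σ : E →* ↥(Cfsg.SU (2 + d) F q)) (w : Fin d → F) (x : E) : Prop :=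
  ∃ a, Co q e (σ x) w a

include hF P

variable (hsurj : Function.Surjective σ) (hcen : σ.ker ≤ Subgroup.center E)
include hsurj hcen

theorem lift_exists (w : Fin d → F) : ∃ x, Lift q e σ w x := by
  have hneg : (- Hd w w) ^ q = - Hd w w := by
    rw [← HermStd.qHom_apply hF, map_neg, HermStd.qHom_apply, H_conj hF]
  obtain ⟨a, ha⟩ := Classical.Unitary.exists_trace_eq hF hneg
  obtain ⟨g, hg⟩ := co_exists hF P w ha
  obtain ⟨x, rfl⟩ := hsurj g
  exact ⟨x, a, hg⟩

theorem lift_mul {w w' : Fin d → F} {x x' : E} (hx : Lift q e σ w x) (hx' : Lift q e σ w' x') :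
    Lift q e σ (w + w') (x * x') := by
  obtain ⟨a, ha⟩ := hx
  obtain ⟨a', ha'⟩ := hx'
  exact ⟨_, by rw [map_mul]; exact co_mul hF P ha ha'⟩

theorem lift_sameW {w : Fin d → F} {x x' : E} (hx : Lift q e σ w x) (hx' : Lift q e σ w x') :
    ∃ y ∈ (cent hF P d).comap σ, x' = x * y := by
  obtain ⟨a, ha⟩ := hx
  obtain ⟨a', ha'⟩ := hx'
  refine ⟨x⁻¹ * x', show σ (x⁻¹ * x') ∈ cent hF P d from ?_, by group⟩
  rw [map_mul, map_inv]
  exact co_sameW hF P ha ha'

/-- The preimage of the centre is commutative. -/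
theorem cent_abelian (hd : 1 ≤ d) : ∀ y ∈ (cent hF P d).comap σ, ∀ y' ∈ (cent hF P d).comap σ, Commute y y' := by
  intro y ⟨a, ha⟩ y' hy'
  have htr := co_trace hF P ha
  rw [H_zero_left, neg_zero] at htr
  obtain ⟨t, ht⟩ := Classical.Unitary.exists_trace_eq hF (c := (1 : F)) (one_pow q)
  set i : Fin d := ⟨0, hd⟩
  obtain ⟨x, b, hb⟩ := lift_exists hF P hsurj hcen (Pi.single i (a * t))
  obtain ⟨x', b', hb'⟩ := lift_exists hF P hsurj hcen (Pi.single i (1 : F))
  have hH : Hd (Pi.single i (a * t)) (Pi.single i (1 : F)) = a * t ∧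
      Hd (Pi.single i (1 : F)) (Pi.single i (a * t)) = (a * t) ^ q := by
    constructor
    · rw [H_single_pair hF, if_pos rfl, one_pow, mul_one]
    · rw [H_single_pair hF, if_pos rfl, one_mul]
  have hy : σ y = σ ⁅x, x'⁆ := by
    rw [map_commutatorElement]
    refine SU_ext fun v => ?_
    have h1 := co_commutator hF P hb hb'
    rw [show mat (σ y) = _ from ha, show mat ⁅σ x, σ x'⁆ = _ from h1, hH.1, hH.2, mul_pow,
      eq_neg_of_add_eq_zero_right htr]
    congr 2
    linear_combination (-a) * ht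
  obtain ⟨k, hk, rfl⟩ := SpMult.Lifts.mul_ker hy
  refine Commute.mul_left ?_ (Subgroup.mem_center_iff.1 (hcen hk) y').symm
  have h2 : ∀ {u : E}, σ u ∈ heis hF P d → σ (y' * u * y'⁻¹) = σ u := fun {u} hu => by
    rw [map_mul, map_mul, map_inv, (cent_comm hF P hy' hu).eq, mul_inv_cancel_right]
  have h3 : y' * ⁅x, x'⁆ * y'⁻¹ = ⁅x, x'⁆ := by
    rw [show y' * ⁅x, x'⁆ * y'⁻¹ = ⁅y' * x * y'⁻¹, y' * x' * y'⁻¹⁆ by simp only [commutatorElement_def]; group]
    exact SpMult.Lifts.bracket_congr hcen (h2 ⟨_, _, hb⟩) (h2 ⟨_, _, hb'⟩)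
  exact (mul_inv_eq_iff_eq_mul.1 h3).symm

theorem lift_one : Lift q e σ (0 : Fin d → F) (1 : E) := ⟨0, by rw [map_one]; exact co_one hF P⟩

theorem cent_lift {y : E} : y ∈ (cent hF P d).comap σ ↔ Lift q e σ (0 : Fin d → F) y := Iff.rfl

/-- Commuting spreads from one lift to all. -/
theorem commute_lift (hd : 1 ≤ d) {w : Fin d → F} {x x' y : E} (hy : y ∈ (cent hF P d).comap σ)
    (hx : Lift q e σ w x) (hx' : Lift q e σ w x') (hc : Commute x y) : Commute x' y := by
  obtain ⟨z, hz, rfl⟩ := lift_sameW hF P hsurj hcen hx hx'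
  exact hc.mul_left (cent_abelian hF P hsurj hcen hd z hz y hy)

/-- The centre lifts to the centre as soon as it commutes with the lifts of the basic vectors. -/
theorem cent_central_of (hd : 1 ≤ d) {y : E} (hy : y ∈ (cent hF P d).comap σ)
    (hb : ∀ (i : Fin d) (x0 : F), ∃ x, Lift q e σ (Pi.single i x0) x ∧ Commute x y) :
    ∀ x, σ x ∈ heis hF P d → Commute x y := by
  classical
  have key : ∀ (s : Finset (Fin d)) (w : Fin d → F), ∀ x, Lift q e σ (∑ i ∈ s, Pi.single i (w i)) x →
      Commute x y := by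
    intro s w
    induction s using Finset.induction_on with
    | empty =>
      intro x hx
      rw [Finset.sum_empty] at hx
      exact cent_abelian hF P hsurj hcen hd x hx y hy
    | insert i s his ih =>
      intro x hx
      rw [Finset.sum_insert his] at hx
      obtain ⟨x1, h1, c1⟩ := hb i (w i)
      obtain ⟨x2, h2⟩ := lift_exists hF P hsurj hcen (∑ j ∈ s, Pi.single j (w j))
      exact commute_lift hF P hsurj hcen hd hy (lift_mul hF P hsurj hcen h1 h2) hx (c1.mul_left (ih x2 h2))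
  rintro x ⟨w, a, hx⟩
  exact key Finset.univ w x ⟨a, by rwa [Finset.univ_sum_single]⟩

/-- The centre is central in the preimage of the radical. -/
theorem cent_central (hd : 1 ≤ d) (hq : q = 2 ∨ 3 ≤ q) :
    ∀ y ∈ (cent hF P d).comap σ, ∀ x, σ x ∈ heis hF P d → Commute x y := by
  classical
  intro y hy
  refine cent_central_of hF P hsurj hcen hd hy fun i x0 => ?_
  rcases hq with hq | hq
  · -- squares
    by_cases hx0 : x0 = 0
    · exact ⟨1, by rw [hx0, Pi.single_zero]; exact lift_one hF P hsurj hcen, Commute.one_left y⟩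
    obtain ⟨x, a, hx⟩ := lift_exists hF P hsurj hcen (Pi.single i x0)
    refine ⟨x, ⟨a, hx⟩, ?_⟩
    have h2 : (2 : F) = 0 := by
      obtain ⟨p, hp⟩ := CharP.exists F
      obtain ⟨n, hpp, hn⟩ := FiniteField.card F p
      rw [hF, hq] at hn
      have : p = 2 := (Nat.prime_dvd_prime_iff_eq hpp Nat.prime_two).1 (hpp.dvd_of_dvd_pow
        (show p ∣ 2 ^ 2 by rw [hn]; exact dvd_pow_self p n.pos.ne'))
      subst this
      exact CharP.cast_eq_zero F 2
    have hsq := co_mul hF P hx hx
    have hw : Pi.single i x0 + Pi.single i x0 = (0 : Fin d → F) := by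
      funext j
      rw [Pi.add_apply, Pi.zero_apply]
      linear_combination ((Pi.single i x0 : Fin d → F) j) * h2
    rw [hw] at hsq
    set n := Hd (Pi.single i x0) (Pi.single i x0) with hn
    have hn0 : n ≠ 0 := by
      rw [hn, H_single_pair hF, if_pos rfl]
      exact mul_ne_zero hx0 (pow_ne_zero _ hx0)
    obtain ⟨b, hb⟩ := hy
    have htr := co_trace hF P hb
    rw [H_zero_left, neg_zero, hq] at htr
    have hnn : n ^ q = n := by rw [hn, H_conj hF]
    rw [hq] at hnn
    have hb2 : b = 0 ∨ b = a + a - n := by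
      have hb1 : b * (b + 1) = 0 := by linear_combination htr
      rcases mul_eq_zero.1 hb1 with h | h
      · exact Or.inl h
      · right
        have : n * (n - 1) = 0 := by linear_combination hnn
        have hn1 : n = 1 := by
          rcases mul_eq_zero.1 this with h' | h'
          · exact absurd h' hn0
          · exact sub_eq_zero.1 h'
        rw [hn1]
        linear_combination h - a * h2
    rcases hb2 with rfl | rfl
    · have hk : y ∈ σ.ker := MonoidHom.mem_ker.2 (co_eq_one hF P hb)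
      exact Subgroup.mem_center_iff.1 (hcen hk) x
    · have he : σ y = σ (x * x) := by
        rw [map_mul]
        exact SU_ext fun v => by rw [show mat (σ y) = _ from hb, show mat (σ x * σ x) = _ from hsq]
      obtain ⟨k, hk, rfl⟩ := SpMult.Lifts.mul_ker he
      exact ((Commute.refl x).mul_right (Commute.refl x)).mul_right (Subgroup.mem_center_iff.1 (hcen hk) x)
  · -- a diagonal element
    obtain ⟨c, hc1, hc3⟩ : ∃ c : F, c ^ (q + 1) = 1 ∧ c ^ 3 ≠ 1 := by
      obtain ⟨g, hg⟩ := IsCyclic.exists_generator (α := (powMonoidHom (q + 1) : Fˣ →* Fˣ).ker)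
      refine ⟨((g : Fˣ) : F), by simpa using congrArg Units.val g.2, fun h3 => ?_⟩
      have ho := orderOf_eq_card_of_forall_mem_zpowers hg
      rw [natCard_normOne hF] at ho
      have : g ^ 3 = 1 := Subtype.ext (Units.ext (by simpa using h3))
      have := Nat.le_of_dvd (by norm_num) (orderOf_dvd_of_pow_eq_one this)
      omega
    have hc0 : c ≠ 0 := fun h0 => by simp [h0] at hc1
    set μ : Fin d → F := fun j => if j = i then (c ^ 2)⁻¹ else 1 with hμd
    have hμ : ∀ j, μ j ^ (q + 1) = 1 := fun j => by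
      by_cases hj : j = i
      · simp only [hμd, hj, if_true, inv_pow]
        rw [← pow_mul, mul_comm, pow_mul, hc1, one_pow, inv_one]
      · simp [hμd, hj]
    have hdet : c * (c ^ q)⁻¹ * ∏ j, μ j = 1 := by
      simp only [hμd, Finset.prod_ite_eq', Finset.mem_univ, if_true]
      rw [show (c ^ q)⁻¹ = c from inv_eq_of_mul_eq_one_right (by rw [← pow_succ]; exact hc1)]
      field_simp
    obtain ⟨g, hg⟩ := hsurj (Frame.tor hF P c hc0 μ hμ hdet)
    set l := c ^ q * (c ^ 2)⁻¹ with hl
    have hl1 : l ≠ 1 := fun h1 => hc3 (by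
      have : c ^ (q + 1) * (c ^ 3)⁻¹ = 1 := by
        rw [← h1, hl, pow_succ]; field_simp
      rw [hc1, one_mul] at this
      exact inv_eq_one.1 this)
    have hl0 : l - 1 ≠ 0 := sub_ne_zero.2 hl1
    obtain ⟨x1, a1, hx1⟩ := lift_exists hF P hsurj hcen (Pi.single i ((l - 1)⁻¹ * x0))
    have hconj := tor_conj hF P c hc0 μ hμ hdet hx1
    rw [← hg, ← map_inv, ← map_mul, ← map_mul] at hconj
    have hw : (c ^ q • fun j => μ j * (Pi.single i ((l - 1)⁻¹ * x0) : Fin d → F) j) +
        - Pi.single i ((l - 1)⁻¹ * x0) = Pi.single i x0 := by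
      funext j
      by_cases hj : j = i
      · subst hj
        simp [hμd]
        rw [← mul_assoc, ← hl]
        field_simp
        ring
      · simp [hj, Pi.single_apply]
    refine ⟨g * x1 * g⁻¹ * x1⁻¹, ⟨_, by
      rw [map_mul _ (g * x1 * g⁻¹), map_inv σ x1, ← hw]
      exact co_mul hF P hconj (co_inv hF P hx1)⟩, ?_⟩
    -- conjugation fixes commutators with the centre
    have hk : ⁅x1, y⁆ ∈ σ.ker := by
      rw [MonoidHom.mem_ker, map_commutatorElement, commutatorElement_eq_one_iff_commute]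
      exact (cent_comm hF P hy ⟨_, _, hx1⟩).symm
    have hgy : σ (g * y * g⁻¹) = σ y := by
      obtain ⟨b, hb⟩ := hy
      rw [map_mul, map_mul, map_inv, hg]
      have h1 := tor_conj hF P c hc0 μ hμ hdet hb
      refine SU_ext fun v => ?_
      rw [show mat (Frame.tor hF P c hc0 μ hμ hdet * σ y * (Frame.tor hF P c hc0 μ hμ hdet)⁻¹) = _ from h1,
        show mat (σ y) = _ from hb, hc1, one_mul,
        show (c ^ q • fun i => μ i * (0 : Fin d → F) i) = 0 by funext i; simp]
    have h4 : ⁅g * x1 * g⁻¹, y⁆ = ⁅x1, y⁆ := by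
      rw [SpMult.Lifts.bracket_congr hcen (rfl : σ (g * x1 * g⁻¹) = σ (g * x1 * g⁻¹)) hgy.symm,
        show ⁅g * x1 * g⁻¹, g * y * g⁻¹⁆ = g * ⁅x1, y⁆ * g⁻¹ by simp only [commutatorElement_def]; group,
        Subgroup.mem_center_iff.1 (hcen hk) g, mul_inv_cancel_right]
    rw [← commutatorElement_eq_one_iff_commute]
    have hk2 : ⁅x1⁻¹, y⁆ * ⁅g * x1 * g⁻¹, y⁆ = 1 := by
      rw [h4]
      calc ⁅x1⁻¹, y⁆ * ⁅x1, y⁆ = x1⁻¹ * (⁅x1, y⁆⁻¹ * x1) * ⁅x1, y⁆ := by
            simp only [commutatorElement_def]; group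
        _ = x1⁻¹ * (x1 * ⁅x1, y⁆⁻¹) * ⁅x1, y⁆ := by rw [Subgroup.mem_center_iff.1 (hcen (inv_mem hk)) x1]
        _ = 1 := by group
    have hk3 : ⁅x1⁻¹, y⁆ ∈ σ.ker := by
      rw [MonoidHom.mem_ker, map_commutatorElement, commutatorElement_eq_one_iff_commute, map_inv]
      exact (cent_comm hF P hy ⟨_, _, co_inv hF P hx1⟩).symm
    calc ⁅g * x1 * g⁻¹ * x1⁻¹, y⁆ = (g * x1 * g⁻¹) * ⁅x1⁻¹, y⁆ * (g * x1 * g⁻¹)⁻¹ * ⁅g * x1 * g⁻¹, y⁆ := by
          simp only [commutatorElement_def]; group
      _ = ⁅x1⁻¹, y⁆ * ⁅g * x1 * g⁻¹, y⁆ := by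
          rw [Subgroup.mem_center_iff.1 (hcen hk3) (g * x1 * g⁻¹), mul_inv_cancel_right]
      _ = 1 := hk2

end Cfsg.Agent.SimpleFacts.SUMult.HeisGood
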