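import Cfsg.Agent.SimpleFacts.SUMult.HeisGood
import Mathlib

/-!
The commutator pairing of the preimage of the radical and its vanishing in the kernel.
-/

set_option autoImplicit false
set_option linter.unusedSectionVars false
set_option linter.unusedSimpArgs false

namespace Cfsg.Agent.SimpleFacts.SUMult.HeisPair

open Matrix
open Cfsg.Agent.Forms Cfsg.Agent.Classical Cfsg.Agent.Classical.Unitary
open Cfsg.Agent.SimpleFacts.SUMult Ext Blocks Heis HeisGood
open scoped commutatorElement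

universe u v

variable {F : Type u} [Field F] [Fintype F] {q d : ℕ}

theorem exists_good_scalar [DecidableEq F] (S : Finset F) (hS : 5 ≤ S.card) :
    ∃ b ∈ S, b ≠ 0 ∧ 1 + b ≠ 0 ∧ b ^ 2 + b + 1 ≠ 0 := by
  by_contra hcon
  push Not at hcon
  by_cases hr : ∃ b0 : F, b0 ^ 2 + b0 + 1 = 0
  · obtain ⟨b0, hb0⟩ := hr
    have hsub : S ⊆ ({0, -1, b0, -1 - b0} : Finset F) := by
      intro b hb
      simp only [Finset.mem_insert, Finset.mem_singleton]
      by_cases h0 : b = 0
      · exact Or.inl h0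
      by_cases h1 : 1 + b = 0
      · exact Or.inr (Or.inl (by linear_combination h1))
      have h2 := hcon b hb h0 h1
      rcases mul_eq_zero.1 (show (b - b0) * (b - (-1 - b0)) = 0 by linear_combination h2 - hb0) with h | h
      · exact Or.inr (Or.inr (Or.inl (sub_eq_zero.1 h)))
      · exact Or.inr (Or.inr (Or.inr (sub_eq_zero.1 h)))
    have h4 := Finset.card_le_card hsub
    have : ({0, -1, b0, -1 - b0} : Finset F).card ≤ 4 := Finset.card_le_four
    omega
  · push Not at hr
    have hsub : S ⊆ ({0, -1} : Finset F) := by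
      intro b hb
      simp only [Finset.mem_insert, Finset.mem_singleton]
      by_cases h0 : b = 0
      · exact Or.inl h0
      by_cases h1 : 1 + b = 0
      · exact Or.inr (by linear_combination h1)
      exact absurd (hcon b hb h0 h1) (hr b)
    have h4 := Finset.card_le_card hsub
    have : ({0, -1} : Finset F).card ≤ 2 := Finset.card_le_two
    omega

/-- Values of an additive function on the basic vectors determine where it lands. -/
theorem additive_mem {E : Type v} [Group E] (S : Subgroup E) (f : (Fin d → F) → E)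
    (hf : ∀ w w', f (w + w') = f w * f w') (h : ∀ i x, f (Pi.single i x) ∈ S) (w : Fin d → F) : f w ∈ S := by
  classical
  rw [← Finset.univ_sum_single w]
  induction (Finset.univ : Finset (Fin d)) using Finset.induction_on with
  | empty =>
    have h0 := hf 0 0
    rw [add_zero, left_eq_mul] at h0
    rw [Finset.sum_empty, h0]
    exact one_mem S
  | insert i s his ih =>
    rw [Finset.sum_insert his, hf]
    exact mul_mem (h _ _) ih

variable (hF : Fintype.card F = q ^ 2) {e h : Fin 2 → F} (P : Frame.Hyp q e h)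
variable {E : Type v} [Group E] [Finite E] {σ : E →* ↥(Cfsg.SU (2 + d) F q)}
variable (hsurj : Function.Surjective σ) (hcen : σ.ker ≤ Subgroup.center E)
include hF P hsurj hcen

local notation "Hd" => Cfsg.hermForm d F q

/-- The commutator pairing. -/
theorem exists_pairing (hd : 1 ≤ d) (hq : q = 2 ∨ 3 ≤ q) :
    ∃ C : (Fin d → F) → (Fin d → F) → E,
      (∀ w w' x y, Lift q e σ w x → Lift q e σ w' y → ⁅x, y⁆ = C w w') ∧
      (∀ w w', Co q e (σ (C w w')) 0 (Hd w w' - Hd w' w)) ∧
      (∀ w w' v, C (w + w') v = C w v * C w' v) ∧ (∀ w v v', C w (v + v') = C w v * C w v') ∧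
      ∀ w w', C w w' * C w' w = 1 := by
  choose lw hlw using fun w => lift_exists hF P hsurj hcen w
  have hc := cent_central hF P hsurj hcen hd hq
  have hin : ∀ {w x}, Lift q e σ w x → σ x ∈ heis hF P d := fun {w x} ⟨a, ha⟩ => ⟨w, a, ha⟩
  have hwell : ∀ {w w' x x' y y'}, Lift q e σ w x → Lift q e σ w x' → Lift q e σ w' y → Lift q e σ w' y' →
      ⁅x, y⁆ = ⁅x', y'⁆ := by
    intro w w' x x' y y' hx hx' hy hy'
    obtain ⟨z, hz, rfl⟩ := lift_sameW hF P hsurj hcen hx hx'
    obtain ⟨z', hz', rfl⟩ := lift_sameW hF P hsurj hcen hy hy'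
    have c1 := hc z hz y (hin hy)
    have c2 := hc z' hz' x (hin hx)
    have c3 := hc z hz x (hin hx)
    have c4 := hc z' hz' y (hin hy)
    have c5 := cent_abelian hF P hsurj hcen hd z hz z' hz'
    symm
    simp only [commutatorElement_def]
    calc x * z * (y * z') * (x * z)⁻¹ * (y * z')⁻¹
        = x * (z * y) * z' * z⁻¹ * x⁻¹ * z'⁻¹ * y⁻¹ := by group
      _ = x * (y * z) * z' * z⁻¹ * x⁻¹ * z'⁻¹ * y⁻¹ := by rw [c1.eq]
      _ = x * y * (z * z') * z⁻¹ * x⁻¹ * z'⁻¹ * y⁻¹ := by group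
      _ = x * y * (z' * z) * z⁻¹ * x⁻¹ * z'⁻¹ * y⁻¹ := by rw [c5.eq]
      _ = x * y * (z' * x⁻¹) * z'⁻¹ * y⁻¹ := by group
      _ = x * y * (x⁻¹ * z') * z'⁻¹ * y⁻¹ := by rw [c2.inv_left.eq]
      _ = x * y * x⁻¹ * y⁻¹ := by group
  have hZ : ∀ w w', Co q e (σ ⁅lw w, lw w'⁆) 0 (Hd w w' - Hd w' w) := by
    intro w w'
    obtain ⟨a, ha⟩ := hlw w
    obtain ⟨a', ha'⟩ := hlw w'
    rw [map_commutatorElement]
    exact co_commutator hF P ha ha'
  have hcz : ∀ w w' v, Commute v ⁅lw w, lw w'⁆ ∨ σ v ∉ heis hF P d := fun w w' v => by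
    by_cases hv : σ v ∈ heis hF P d
    · exact Or.inl (hc _ ⟨_, hZ w w'⟩ v hv)
    · exact Or.inr hv
  refine ⟨fun w w' => ⁅lw w, lw w'⁆, fun w w' x y hx hy => hwell hx (hlw w) hy (hlw w'), hZ, ?_, ?_, ?_⟩
  · intro w w' v
    show ⁅lw (w + w'), lw v⁆ = ⁅lw w, lw v⁆ * ⁅lw w', lw v⁆
    rw [hwell (hlw (w + w')) (lift_mul hF P hsurj hcen (hlw w) (hlw w')) (hlw v) (hlw v)]
    calc ⁅lw w * lw w', lw v⁆ = lw w * ⁅lw w', lw v⁆ * (lw w)⁻¹ * ⁅lw w, lw v⁆ := by
          simp only [commutatorElement_def]; group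
      _ = ⁅lw w', lw v⁆ * ⁅lw w, lw v⁆ := by
          rw [(hc _ ⟨_, hZ w' v⟩ _ (hin (hlw w))).eq, mul_inv_cancel_right]
      _ = _ := (cent_abelian hF P hsurj hcen hd _ ⟨_, hZ w' v⟩ _ ⟨_, hZ w v⟩).eq
  · intro w v v'
    show ⁅lw w, lw (v + v')⁆ = ⁅lw w, lw v⁆ * ⁅lw w, lw v'⁆
    rw [hwell (hlw w) (hlw w) (hlw (v + v')) (lift_mul hF P hsurj hcen (hlw v) (hlw v'))]
    calc ⁅lw w, lw v * lw v'⁆ = ⁅lw w, lw v⁆ * (lw v * ⁅lw w, lw v'⁆ * (lw v)⁻¹) := by
          simp only [commutatorElement_def]; group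
      _ = _ := by rw [(hc _ ⟨_, hZ w v'⟩ _ (hin (hlw v))).eq, mul_inv_cancel_right]
  · intro w w'
    show ⁅lw w, lw w'⁆ * ⁅lw w', lw w⁆ = 1
    rw [← commutatorElement_inv, inv_mul_cancel]

omit hsurj hcen in
/-- A diagonal element with prescribed factors. -/
theorem exists_tor (hsurj : Function.Surjective σ) (c : F) (hc : c ≠ 0) (μ : Fin d → F)
    (hμ : ∀ i, μ i ^ (q + 1) = 1) (hdet : c * (c ^ q)⁻¹ * ∏ i, μ i = 1) :
    ∃ g : E, σ g = Frame.tor hF P c hc μ hμ hdet ∧ ∀ {w : Fin d → F} {x : E}, Lift q e σ w x →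
      Lift q e σ (c ^ q • fun i => μ i * w i) (g * x * g⁻¹) := by
  obtain ⟨g, hg⟩ := hsurj (Frame.tor hF P c hc μ hμ hdet)
  refine ⟨g, hg, fun {w x} hx => ?_⟩
  obtain ⟨a, ha⟩ := hx
  refine ⟨c ^ (q + 1) * a, ?_⟩
  rw [map_mul, map_mul, map_inv, hg]
  exact tor_conj hF P c hc μ hμ hdet ha

/-- The centre modulo a section: the radical is good. -/
theorem good_of_section (hd : 1 ≤ d) (hq : 3 ≤ q) (hcase : d ≠ 2 ∨ 4 ≤ q) (he : e ≠ 0) :
    Good σ (heis hF P d) := by
  classical
  obtain ⟨C, hC, hCz, hCl, hCr, hCs⟩ := exists_pairing hF P hsurj hcen hd (Or.inr hq)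
  have hq1 : 1 < q := by omega
  set i0 : Fin d := ⟨0, hd⟩
  have hpow : ∀ c : F, c ≠ 0 → c ^ (q * q) = c := fun c hc => by
    rw [← sq, ← hF, FiniteField.pow_card]
  have hnorm : ∀ c : F, c ≠ 0 → (c ^ q * c⁻¹) ^ (q + 1) = 1 := fun c hc => by
    rw [pow_succ, mul_pow, ← pow_mul, hpow c hc, inv_pow]
    field_simp
  -- an element moving the centre without fixed points
  obtain ⟨c0, hc0, hc0'⟩ : ∃ c : F, c ≠ 0 ∧ c ^ (q + 1) ≠ 1 := by
    obtain ⟨g, hg⟩ := IsCyclic.exists_generator (α := Fˣ)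
    refine ⟨(g : F), g.ne_zero, fun h1 => ?_⟩
    have ho := orderOf_eq_card_of_forall_mem_zpowers hg
    rw [natCard_units_F hF] at ho
    have h2 : g ^ (q + 1) = 1 := Units.ext (by simpa using h1)
    have h3 := Nat.le_of_dvd (by omega) (orderOf_dvd_of_pow_eq_one h2)
    rw [ho] at h3
    have h4 : 3 * q ≤ q * q := Nat.mul_le_mul_right q hq
    have h5 : 2 * (q + 1) ≤ (q - 1) * (q + 1) := Nat.mul_le_mul_right _ (by omega)
    omega
  let μ0 : Fin d → F := fun j => if j = i0 then c0 ^ q * c0⁻¹ else 1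
  have hμ0 : ∀ j, μ0 j ^ (q + 1) = 1 := fun j => by by_cases hj : j = i0 <;> simp [μ0, hj, hnorm c0 hc0]
  have hdet0 : c0 * (c0 ^ q)⁻¹ * ∏ j, μ0 j = 1 := by
    simp only [μ0, Finset.prod_ite_eq', Finset.mem_univ, if_true]; field_simp
  obtain ⟨t, ht, -⟩ := exists_tor hF P hsurj c0 hc0 μ0 hμ0 hdet0
  have htz : ∀ {y : E} {b : F}, Co q e (σ y) (0 : Fin d → F) b →
      Co q e (σ ⁅t, y⁆) (0 : Fin d → F) ((c0 ^ (q + 1) - 1) * b) := by
    intro y b hb
    have htr := co_trace hF P hb
    rw [H_zero_left, neg_zero] at htr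
    rw [map_commutatorElement, commutatorElement_def, ht]
    have h1 := co_mul hF P (tor_conj hF P c0 hc0 μ0 hμ0 hdet0 hb) (co_inv hF P hb)
    convert h1 using 1
    · funext j; simp
    · rw [neg_zero, H_zero_left, eq_neg_of_add_eq_zero_right htr]
      ring
  have hab := cent_abelian hF P hsurj hcen hd
  have htin : ∀ {y : E}, y ∈ ((cent hF P d).comap σ) → ⁅t, y⁆ ∈ ((cent hF P d).comap σ) := fun {y} ⟨b, hb⟩ => ⟨_, htz hb⟩
  let S0 : Subgroup E :=
    { carrier := {x | ∃ y ∈ ((cent hF P d).comap σ), x = ⁅t, y⁆}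
      one_mem' := ⟨1, one_mem _, (commutatorElement_one_right t).symm⟩
      mul_mem' := by
        rintro _ _ ⟨y, hy, rfl⟩ ⟨y', hy', rfl⟩
        refine ⟨y * y', mul_mem hy hy', ?_⟩
        have h1 := hab y hy _ (htin hy')
        calc ⁅t, y⁆ * ⁅t, y'⁆ = ⁅t, y⁆ * (y * ⁅t, y'⁆ * y⁻¹) := by rw [h1.eq, mul_inv_cancel_right]
          _ = _ := by simp only [commutatorElement_def]; group
      inv_mem' := by
        rintro _ ⟨y, hy, rfl⟩
        refine ⟨y⁻¹, inv_mem hy, ?_⟩
        have h1 := hab y hy _ (inv_mem (htin hy))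
        calc ⁅t, y⁆⁻¹ = y⁻¹ * (y * ⁅t, y⁆⁻¹) := by group
          _ = y⁻¹ * (⁅t, y⁆⁻¹ * y) := by rw [h1.eq]
          _ = _ := by simp only [commutatorElement_def]; group }
  have hS0Z : S0 ≤ ((cent hF P d).comap σ) := by rintro _ ⟨y, hy, rfl⟩; exact htin hy
  have hS0k : ∀ x ∈ S0, x ∈ σ.ker → x = 1 := by
    rintro _ ⟨y, ⟨b, hb⟩, rfl⟩ hx
    have h1 := htz hb
    rw [MonoidHom.mem_ker.1 hx] at h1
    have h2 : b = 0 := by
      have := (co_unique hF P h1 (co_one hF P) he).2
      exact (mul_eq_zero.1 this).resolve_left (sub_ne_zero.2 hc0')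
    subst h2
    rw [commutatorElement_eq_one_iff_commute]
    exact Subgroup.mem_center_iff.1 (hcen (MonoidHom.mem_ker.2 (co_eq_one hF P hb))) t
  have hcov : ∀ y ∈ ((cent hF P d).comap σ), ∃ s ∈ S0, ∃ k ∈ σ.ker, y = s * k := by
    rintro y ⟨b, hb⟩
    have htr := co_trace hF P hb
    rw [H_zero_left, neg_zero] at htr
    have hne : c0 ^ (q + 1) - 1 ≠ 0 := sub_ne_zero.2 hc0'
    have hfix : (c0 ^ (q + 1) - 1) ^ q = c0 ^ (q + 1) - 1 := by
      rw [← HermStd.qHom_apply hF, map_sub, map_one, map_pow, HermStd.qHom_apply, ← pow_mul, mul_add, mul_one,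
        pow_add, hpow c0 hc0, ← pow_succ']
    obtain ⟨g, hg⟩ := co_exists hF P (0 : Fin d → F) (a := b * (c0 ^ (q + 1) - 1)⁻¹) (by
      rw [H_zero_left, neg_zero, mul_pow, inv_pow, hfix, ← add_mul, htr, zero_mul])
    obtain ⟨y', rfl⟩ := hsurj g
    have h1 := htz hg
    rw [mul_left_comm, mul_inv_cancel₀ hne, mul_one] at h1
    obtain ⟨k, hk, rfl⟩ := SpMult.Lifts.mul_ker (σ := σ) (y := y) (y' := ⁅t, y'⁆)
      (SU_ext fun x => by rw [show mat (σ y) = _ from hb, show mat (σ ⁅t, y'⁆) = _ from h1])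
    exact ⟨_, ⟨y', ⟨_, hg⟩, rfl⟩, k, hk, rfl⟩
  -- all values lie in the section
  suffices hall : ∀ i j x y, C (Pi.single i x) (Pi.single j y) ∈ S0 by
    intro z hz hzd
    refine hS0k z (Subgroup.commutator_le.2 ?_ hzd) hz
    rintro x ⟨w, a, hx⟩ y ⟨w', a', hy⟩
    rw [hC w w' x y ⟨a, hx⟩ ⟨a', hy⟩]
    exact additive_mem S0 (fun w => C w w') (fun a b => hCl a b w')
      (fun i x => additive_mem S0 (fun w' => C (Pi.single i x) w') (fun a b => hCr _ a b) (fun j y => hall i j x y) w') w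
  let _ : CommGroup ((cent hF P d).comap σ) :=
    { (inferInstance : Group ((cent hF P d).comap σ)) with mul_comm := fun a b => Subtype.ext (hab a.1 a.2 b.1 b.2).eq }
  let π := QuotientGroup.mk' (S0.subgroupOf ((cent hF P d).comap σ))
  have hπ : ∀ {a b : ((cent hF P d).comap σ)}, π a = π b ↔ a.1⁻¹ * b.1 ∈ S0 := fun {a b} => by
    rw [QuotientGroup.mk'_apply, QuotientGroup.mk'_apply, QuotientGroup.eq, Subgroup.mem_subgroupOf]
    rfl
  intro i j
  have hCin : ∀ x y, C (Pi.single i x) (Pi.single j y) ∈ ((cent hF P d).comap σ) := fun x y => ⟨_, hCz _ _⟩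
  let f : F → F → ((cent hF P d).comap σ) ⧸ S0.subgroupOf ((cent hF P d).comap σ) := fun x y => π ⟨_, hCin x y⟩
  suffices hf : ∀ x y, f x y = 1 by
    intro x y
    have := hf x y
    rwa [← map_one π, eq_comm, hπ, OneMemClass.coe_one, inv_one, one_mul] at this
  have hfl : ∀ x x' y, f (x + x') y = f x y * f x' y := fun x x' y => by
    simp only [f, ← map_mul]
    congr 1
    exact Subtype.ext (by
      show C (Pi.single i (x + x')) (Pi.single j y) = _
      rw [Pi.single_add, hCl]; rfl)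
  have hfr : ∀ x y y', f x (y + y') = f x y * f x y' := fun x y y' => by
    simp only [f, ← map_mul]
    congr 1
    exact Subtype.ext (by
      show C (Pi.single i x) (Pi.single j (y + y')) = _
      rw [Pi.single_add, hCr]; rfl)
  -- invariance under diagonal elements
  have hinv : ∀ (c : F) (hc : c ≠ 0) (μ : Fin d → F) (hμ : ∀ i, μ i ^ (q + 1) = 1)
      (hdet : c * (c ^ q)⁻¹ * ∏ i, μ i = 1), ∀ x y, f (c ^ q * μ i * x) (c ^ q * μ j * y) = f x y := by
    intro c hc μ hμ hdet x y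
    obtain ⟨g, hg, hgl⟩ := exists_tor hF P hsurj c hc μ hμ hdet
    obtain ⟨x1, h1⟩ := lift_exists hF P hsurj hcen (Pi.single i x)
    obtain ⟨y1, h2⟩ := lift_exists hF P hsurj hcen (Pi.single j y)
    have e1 : ∀ (l : Fin d) (z : F), (c ^ q • fun k => μ k * (Pi.single l z : Fin d → F) k) =
        Pi.single l (c ^ q * μ l * z) := fun l z => by
      funext k
      by_cases hk : k = l
      · subst hk; simp [mul_assoc]
      · simp [hk, Pi.single_apply]
    have h3 : C (Pi.single i (c ^ q * μ i * x)) (Pi.single j (c ^ q * μ j * y)) =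
        g * C (Pi.single i x) (Pi.single j y) * g⁻¹ := by
      rw [← hC _ _ _ _ (e1 i x ▸ hgl h1) (e1 j y ▸ hgl h2), ← hC _ _ _ _ h1 h2]
      simp only [commutatorElement_def]
      group
    symm
    rw [hπ]
    show (C (Pi.single i x) (Pi.single j y))⁻¹ * C _ _ ∈ S0
    rw [h3]
    obtain ⟨s, hs, k, hk, he'⟩ := hcov _ (hCin x y)
    rw [he']
    obtain ⟨y', hy', rfl⟩ := hs
    have hgy : g * y' * g⁻¹ ∈ ((cent hF P d).comap σ) := by
      obtain ⟨b, hb⟩ := hy'
      have := tor_conj hF P c hc μ hμ hdet hb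
      refine ⟨c ^ (q + 1) * b, ?_⟩
      rw [map_mul, map_mul, map_inv, hg]
      convert this using 1
      funext k; simp
    have h4 : g * (⁅t, y'⁆ * k) * g⁻¹ = ⁅t, g * y' * g⁻¹⁆ * k := by
      have hgt : σ t = σ (g * t * g⁻¹) := by
        rw [map_mul, map_mul, map_inv, hg, ht, eq_mul_inv_iff_mul_eq, Frame.tor_mul, Frame.tor_mul]
        refine SU_ext fun v => ?_
        rw [← eta v, Frame.tor_mulVec, Frame.tor_mulVec, mul_comm c0 c]
        congr 1
        funext k
        ring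
      rw [SpMult.Lifts.bracket_congr hcen hgt (rfl : σ (g * y' * g⁻¹) = σ (g * y' * g⁻¹))]
      have hkc := Subgroup.mem_center_iff.1 (hcen hk)
      calc g * (⁅t, y'⁆ * k) * g⁻¹ = g * ⁅t, y'⁆ * (k * g⁻¹) := by group
        _ = g * ⁅t, y'⁆ * (g⁻¹ * k) := by rw [hkc g⁻¹]
        _ = _ := by simp only [commutatorElement_def]; group
    rw [h4]
    have hkc := Subgroup.mem_center_iff.1 (hcen hk)
    rw [show (⁅t, y'⁆ * k)⁻¹ * (⁅t, g * y' * g⁻¹⁆ * k) = k⁻¹ * (⁅t, y'⁆⁻¹ * ⁅t, g * y' * g⁻¹⁆ * k) by group,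
      hkc, inv_mul_cancel_left]
    exact mul_mem (inv_mem ⟨y', hy', rfl⟩) ⟨_, hgy, rfl⟩
  obtain ⟨bad, -, hbad0, hbad1, hbad2⟩ := exists_good_scalar (Finset.univ : Finset F) (by
    rw [Finset.card_univ, hF]
    have : 3 * 3 ≤ q * q := Nat.mul_le_mul hq hq
    rw [sq]; omega)
  by_cases hij : i = j
  · subst hij
    by_cases hd1 : d = 1
    · subst hd1
      have hu : ∀ k : Fin 1, k = i := fun k => Subsingleton.elim k i
      have hfac : ∀ c : F, c ≠ 0 → ∀ x y, f (c ^ q * (c ^ q * c⁻¹) * x) (c ^ q * (c ^ q * c⁻¹) * y) = f x y :=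
        fun c hc => hinv c hc (fun _ => c ^ q * c⁻¹) (fun _ => hnorm c hc) (by
          rw [Fin.prod_univ_one]; field_simp)
      by_cases hq5 : 5 ≤ q
      · -- scalars fixed by the involution
        set S : Finset F := Finset.univ.filter fun c => c ^ q = c with hS
        have hScard : S.card = q := by
          rw [hS, ← Fintype.card_subtype, ← Nat.card_eq_fintype_card]
          exact (Nat.card_congr (Equiv.subtypeEquivRight fun c => (mem_fixField hF).symm)).trans (natCard_fixField hF)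
        obtain ⟨b, hb, hb0, hb1, hb2⟩ := exists_good_scalar S (by omega)
        have hbq : b ^ q = b := (Finset.mem_filter.1 hb).2
        refine kill f hfl hfr hb2 (fun x y => ?_) fun x y => ?_
        · have := hfac b hb0 x y
          rwa [hbq, mul_inv_cancel₀ hb0, mul_one] at this
        · have := hfac (1 + b) hb1 x y
          rwa [show (1 + b) ^ q = 1 + b by rw [HermStd.add_pow_q hF, one_pow, hbq], mul_inv_cancel₀ hb1,
            mul_one] at this
      · have hall : ∀ l : F, l ≠ 0 → ∀ x y, f (l * x) (l * y) = f x y := by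
          intro l hl
          have h1 : l ^ (q ^ 2 - 1) = 1 := by rw [← hF]; exact FiniteField.pow_card_sub_one_eq_one l hl
          have key : ∀ m : ℕ, l ^ (m * q + m * q) = l * l ^ m → ∀ x y, f (l * x) (l * y) = f x y := by
            intro m hm x y
            have h2 := hfac (l ^ m) (pow_ne_zero m hl) x y
            have e : (l ^ m) ^ q * ((l ^ m) ^ q * (l ^ m)⁻¹) = l := by
              rw [← mul_assoc, ← pow_mul, ← pow_add, hm, mul_assoc, mul_inv_cancel₀ (pow_ne_zero m hl), mul_one]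
            rwa [e] at h2
          rcases (show q = 3 ∨ q = 4 by omega) with h3 | h3
          · refine key 5 ?_
            rw [h3] at h1 ⊢
            norm_num at h1 ⊢
            linear_combination (l ^ 22 + l ^ 14 + l ^ 6) * h1
          · refine key 13 ?_
            rw [h3] at h1 ⊢
            norm_num at h1 ⊢
            linear_combination (l ^ 89 + l ^ 74 + l ^ 59 + l ^ 44 + l ^ 29 + l ^ 14) * h1
        exact kill f hfl hfr hbad2 (hall bad hbad0) (hall _ hbad1)
    · obtain ⟨k, hk⟩ : ∃ k : Fin d, k ≠ i := by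
        have : Nontrivial (Fin d) := Fin.nontrivial_iff_two_le.2 (by omega)
        exact exists_ne i
      have hall : ∀ l : F, l ≠ 0 → ∀ x y, f (l * x) (l * y) = f x y := by
        intro l hl x y
        have hc : l ^ q ≠ 0 := pow_ne_zero _ hl
        have h1 := hinv (l ^ q) hc (fun m => if m = k then (l ^ q) ^ q * (l ^ q)⁻¹ else 1)
          (fun m => by by_cases hm : m = k <;> simp [hm, hnorm _ hc])
          (by simp only [Finset.prod_ite_eq', Finset.mem_univ, if_true]; field_simp) x y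
        simpa [hk.symm, pow_qq hF] using h1
      exact kill f hfl hfr hbad2 (hall bad hbad0) (hall _ hbad1)
  · by_cases hd2 : d = 2
    · -- norm one scalars
      obtain ⟨c, hc1, hc4⟩ : ∃ c : F, c ^ (q + 1) = 1 ∧ c ^ 4 ≠ 1 := by
        obtain ⟨g, hg⟩ := IsCyclic.exists_generator (α := (powMonoidHom (q + 1) : Fˣ →* Fˣ).ker)
        refine ⟨((g : Fˣ) : F), by simpa using congrArg Units.val g.2, fun h4 => ?_⟩
        have ho := orderOf_eq_card_of_forall_mem_zpowers hg
        rw [natCard_normOne hF] at ho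
        have : g ^ 4 = 1 := Subtype.ext (Units.ext (by simpa using h4))
        have := Nat.le_of_dvd (by norm_num) (orderOf_dvd_of_pow_eq_one this)
        rcases hcase with h | h
        · exact h hd2
        · omega
      have hc0 : c ≠ 0 := fun h0 => by simp [h0] at hc1
      have hcq : c ^ q = c⁻¹ := eq_inv_of_mul_eq_one_left (by rw [← pow_succ]; exact hc1)
      intro x y
      have h1 : ∀ x y, f x (c⁻¹ * (c ^ 3)⁻¹ * y) = f x y := fun x y => by
        have h1 := hinv c hc0 (fun m => if m = i then c else (c ^ 3)⁻¹)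
          (fun m => by
            by_cases hm : m = i
            · simp [hm, hc1]
            · simp only [hm, if_false, inv_pow]
              rw [← pow_mul, mul_comm, pow_mul, hc1, one_pow, inv_one])
          (by
            subst hd2
            rw [hcq, inv_inv, Fin.prod_univ_two]
            have hi : ∀ a : Fin 2, a = i ∨ a = j := by omega
            fin_cases i <;> fin_cases j <;> simp_all <;> field_simp) x y
        simp only [if_true, if_neg (Ne.symm hij), hcq, inv_mul_cancel₀ hc0, one_mul] at h1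
        exact h1
      refine kill_one (f x) (hfr x) ?_ (fun y => h1 x y) y
      intro h
      refine hc4 ?_
      have h2 : c⁻¹ * (c ^ 3)⁻¹ * c ^ 4 = 1 := by field_simp
      rwa [h, one_mul] at h2
    · obtain ⟨k, hki, hkj⟩ : ∃ k : Fin d, k ≠ i ∧ k ≠ j := by
        have hcd : ({i, j} : Finset (Fin d)).card ≤ 2 := Finset.card_le_two
        have : ({i, j} : Finset (Fin d)) ≠ Finset.univ := fun h => by
          rw [h, Finset.card_univ, Fintype.card_fin] at hcd
          have : i.1 ≠ j.1 := fun h' => hij (Fin.ext h')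
          omega
        obtain ⟨k, -, hk⟩ := Finset.exists_of_ssubset (lt_of_le_of_ne (Finset.subset_univ _) this)
        exact ⟨k, fun h => hk (by simp [h]), fun h => hk (by simp [h])⟩
      have hall : ∀ l : F, l ≠ 0 → ∀ x y, f (l * x) (l * y) = f x y := by
        intro l hl x y
        have hc : l ^ q ≠ 0 := pow_ne_zero _ hl
        have h1 := hinv (l ^ q) hc (fun m => if m = k then (l ^ q) ^ q * (l ^ q)⁻¹ else 1)
          (fun m => by by_cases hm : m = k <;> simp [hm, hnorm _ hc])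
          (by simp only [Finset.prod_ite_eq', Finset.mem_univ, if_true]; field_simp) x y
        simpa [hki.symm, hkj.symm, pow_qq hF] using h1
      exact kill f hfl hfr hbad2 (hall bad hbad0) (hall _ hbad1)

end Cfsg.Agent.SimpleFacts.SUMult.HeisPair
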