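import Cfsg.Agent.SimpleFacts.SUMult.HeisPair
import Mathlib

/-!
The radical over the field of four elements.
-/

set_option autoImplicit false
set_option linter.unusedSectionVars false
set_option linter.unusedSimpArgs false

namespace Cfsg.Agent.SimpleFacts.SUMult.HeisTwo

open Matrix
open Cfsg.Agent.Forms Cfsg.Agent.Classical Cfsg.Agent.Classical.Unitary
open Cfsg.Agent.SimpleFacts.SUMult Ext Blocks Heis HeisGood HeisPair
open scoped commutatorElement

universe u v

variable {F : Type u} [Field F] [Fintype F] {q d : ℕ}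

/-- A cyclic permutation of three coordinates as a special unitary matrix. -/
theorem exists_cycle (hF : Fintype.card F = q ^ 2) {i j k : Fin d} (hij : i ≠ j) (hik : i ≠ k) (hjk : j ≠ k) :
    ∃ L : Cfsg.SU d F q, L ^ 3 = 1 ∧ ∀ x : F, mat L *ᵥ Pi.single i x = Pi.single j x := by
  classical
  set p : Equiv.Perm (Fin d) := Equiv.swap i j * Equiv.swap i k with hp
  have h3 : p.IsThreeCycle := Equiv.Perm.isThreeCycle_swap_mul_swap_same hij hik hjk
  have hp3 : p ^ 3 = 1 := by rw [← h3.orderOf]; exact pow_orderOf_eq_one p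
  have hv : ∀ (v : Fin d → F) (l : Fin d), (p.permMatrix F *ᵥ v) l = v (p l) := fun v l => by
    rw [Matrix.permMatrix_mulVec]; rfl
  refine ⟨suMk (p.permMatrix F) ?_ ?_, SU_ext fun v => funext fun l => ?_, fun x => funext fun l => ?_⟩
  · rw [Matrix.det_permutation, h3.sign]; simp
  · intro u v
    unfold Cfsg.hermForm
    rw [← Equiv.sum_comp p (fun l => u l * v l ^ q)]
    refine Finset.sum_congr rfl fun l _ => ?_
    rw [hv, hv]
  · rw [pow_succ, pow_two, mul_mulVec, mul_mulVec, suMk_mulVec, suMk_mulVec, suMk_mulVec, hv, hv, hv, mat_one,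
      one_mulVec, show p (p (p l)) = (p ^ 3) l by rw [pow_succ, pow_two]; rfl, hp3, Equiv.Perm.one_apply]
  · rw [suMk_mulVec, hv]
    have hpj : p j = i := by
      rw [hp, Equiv.Perm.mul_apply, Equiv.swap_apply_of_ne_of_ne hij.symm hjk, Equiv.swap_apply_right]
    by_cases hl : l = j
    · subst hl; rw [hpj, Pi.single_eq_same, Pi.single_eq_same]
    · rw [Pi.single_eq_of_ne hl, Pi.single_eq_of_ne (fun h => hl (p.injective (h.trans hpj.symm)))]

variable (hF : Fintype.card F = q ^ 2) {e h : Fin 2 → F} (P : Frame.Hyp q e h)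
variable {E : Type v} [Group E] [Finite E] {σ : E →* ↥(Cfsg.SU (2 + d) F q)}
variable (hsurj : Function.Surjective σ) (hcen : σ.ker ≤ Subgroup.center E)
include hF P hsurj hcen

/-- Over the field of four elements the radical is good. -/
theorem good_two (hker : IsPGroup 2 σ.ker) (hq : q = 2) (hd : d = 1 ∨ 3 ≤ d) (he : e ≠ 0) :
    Good σ (heis hF P d) := by
  classical
  have hd1 : 1 ≤ d := by omega
  obtain ⟨C, hC, hCz, hCl, hCr, hCs⟩ := exists_pairing hF P hsurj hcen hd1 (Or.inl hq)
  have h2 : (2 : F) = 0 := by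
    obtain ⟨p, hp⟩ := CharP.exists F
    obtain ⟨n, hpp, hn⟩ := FiniteField.card F p
    rw [hF, hq] at hn
    have : p = 2 := (Nat.prime_dvd_prime_iff_eq hpp Nat.prime_two).1 (hpp.dvd_of_dvd_pow
      (show p ∣ 2 ^ 2 by rw [hn]; exact dvd_pow_self p n.pos.ne'))
    subst this
    exact CharP.cast_eq_zero F 2
  obtain ⟨ω, hω3, hω1⟩ : ∃ w : F, w ^ 3 = 1 ∧ w ≠ 1 := by
    obtain ⟨g, hg⟩ := IsCyclic.exists_generator (α := Fˣ)
    have ho := orderOf_eq_card_of_forall_mem_zpowers hg
    rw [natCard_units_F hF, hq] at ho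
    norm_num at ho
    refine ⟨(g : F), ?_, fun h1 => ?_⟩
    · rw [← ho, ← Units.val_pow_eq_pow_val, pow_orderOf_eq_one, Units.val_one]
    · rw [show g = 1 from Units.ext h1, orderOf_one] at ho
      omega
  have hω : ω ^ 2 + ω + 1 = 0 := by
    have : (ω - 1) * (ω ^ 2 + ω + 1) = 0 := by linear_combination hω3
    exact (mul_eq_zero.1 this).resolve_left (sub_ne_zero.2 hω1)
  have hω0 : ω ≠ 0 := fun h0 => by rw [h0] at hω; simp at hω
  have hall : ∀ x : F, x = 0 ∨ x = 1 ∨ x = ω ∨ x = 1 + ω := by
    intro x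
    have hcard : ({0, 1, ω, 1 + ω} : Finset F).card = 4 := by
      have e1 : (1 : F) ≠ 0 := one_ne_zero
      have e2 : (1 : F) + ω ≠ 0 := fun h0 => by
        have : ω ^ 2 = 0 := by linear_combination hω - h0
        exact hω0 (pow_eq_zero_iff two_ne_zero |>.1 this)
      have e3 : (1 : F) + ω ≠ 1 := fun h0 => hω0 (by linear_combination h0)
      have e4 : (1 : F) + ω ≠ ω := fun h0 => e1 (by linear_combination h0)
      rw [Finset.card_insert_of_notMem (by simp [e1.symm, hω0.symm, e2.symm]),
        Finset.card_insert_of_notMem (by simp [hω1.symm, e3.symm]),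
        Finset.card_insert_of_notMem (by simp [e4.symm]), Finset.card_singleton]
    have huniv := (Finset.card_eq_iff_eq_univ _).1 (hcard.trans (by rw [hF, hq]; norm_num))
    have hx := Finset.mem_univ x
    rw [← huniv] at hx
    simpa [or_assoc] using hx
  have hC0 : ∀ w, C 0 w = 1 := fun w => by
    have := hCl 0 0 w
    rwa [add_zero, left_eq_mul] at this
  have hC0' : ∀ w, C w 0 = 1 := fun w => by
    have := hCr w 0 0
    rwa [add_zero, left_eq_mul] at this
  have hCself : ∀ w, C w w = 1 := fun w => by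
    obtain ⟨x, hx⟩ := lift_exists hF P hsurj hcen w
    rw [← hC w w x x hx hx, commutatorElement_self]
  have hzfix : ∀ g : E, σ g ^ 3 = 1 → ∀ w w', σ g * σ (C w w') * (σ g)⁻¹ = σ (C w w') →
      g * C w w' * g⁻¹ = C w w' := by
    intro g hg w w' hfix
    have : Fact (Nat.Prime 2) := ⟨Nat.prime_two⟩
    rw [(SpMult.Common.commute_lifts hcen (SpMult.Common.coprime_ker hker (by norm_num)) hg
      (mul_inv_eq_iff_eq_mul.1 hfix)).eq, mul_inv_cancel_right]
  -- off the diagonal
  have hoff : ∀ i j, i ≠ j → ∀ x y, C (Pi.single i x) (Pi.single j y) = 1 := by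
    intro i j hij x y
    have hd3 : 3 ≤ d := by
      rcases hd with rfl | h3
      · exact absurd (Subsingleton.elim i j) hij
      · exact h3
    obtain ⟨k, hki, hkj⟩ : ∃ k : Fin d, k ≠ i ∧ k ≠ j := by
      have hcd : ({i, j} : Finset (Fin d)).card ≤ 2 := Finset.card_le_two
      have : ({i, j} : Finset (Fin d)) ≠ Finset.univ := fun h => by
        rw [h, Finset.card_univ, Fintype.card_fin] at hcd
        omega
      obtain ⟨k, -, hk⟩ := Finset.exists_of_ssubset (lt_of_le_of_ne (Finset.subset_univ _) this)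
      exact ⟨k, fun h => hk (by simp [h]), fun h => hk (by simp [h])⟩
    set μ : Fin d → F := fun l => if l = j then ω else if l = k then ω⁻¹ else 1 with hμd
    have hω3' : ω ^ (q + 1) = 1 := by rw [hq]; exact hω3
    have hμ : ∀ l, μ l ^ (q + 1) = 1 := fun l => by
      rw [hμd]
      dsimp only
      split_ifs <;> simp [hω3', inv_pow]
    have hdet : (1 : F) * ((1 : F) ^ q)⁻¹ * ∏ l, μ l = 1 := by
      rw [one_pow, inv_one, one_mul, one_mul, ← Finset.mul_prod_erase _ _ (Finset.mem_univ j),
        ← Finset.mul_prod_erase _ _ (Finset.mem_erase.2 ⟨hkj, Finset.mem_univ k⟩), Finset.prod_eq_one]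
      · simp [hμd, hkj, hω0]
      · intro l hl
        simp only [Finset.mem_erase] at hl
        simp [hμd, hl.1, hl.2.1]
    obtain ⟨g, hg, hgl⟩ := exists_tor hF P hsurj 1 one_ne_zero μ hμ hdet
    have hg3 : σ g ^ 3 = 1 := by
      rw [hg]
      refine SU_ext fun v => ?_
      rw [pow_succ, pow_two, mul_mulVec, mul_mulVec, ← eta v, Frame.tor_mulVec, Frame.tor_mulVec, Frame.tor_mulVec,
        one_pow, inv_one, Frame.planeM_one hF P, one_mulVec, one_mulVec, one_mulVec, mat_one, one_mulVec]
      congr 1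
      funext l
      have := hμ l
      rw [hq] at this
      linear_combination (v (Fin.natAdd 2 l)) * this
    have key : ∀ y, C (Pi.single i x) (Pi.single j (ω * y)) = C (Pi.single i x) (Pi.single j y) := by
      intro y
      obtain ⟨x1, h1⟩ := lift_exists hF P hsurj hcen (Pi.single i x)
      obtain ⟨y1, h3⟩ := lift_exists hF P hsurj hcen (Pi.single j y)
      have ei : ((1 : F) ^ q • fun l => μ l * (Pi.single i x : Fin d → F) l) = Pi.single i x := by
        funext l
        by_cases hl : l = i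
        · subst hl; simp [hμd, hij, hki.symm]
        · simp [hl, Pi.single_apply]
      have ej : ((1 : F) ^ q • fun l => μ l * (Pi.single j y : Fin d → F) l) = Pi.single j (ω * y) := by
        funext l
        by_cases hl : l = j
        · subst hl; simp [hμd]
        · simp [hl, Pi.single_apply]
      have h4 : C (Pi.single i x) (Pi.single j (ω * y)) = g * C (Pi.single i x) (Pi.single j y) * g⁻¹ := by
        rw [← hC _ _ _ _ (ei ▸ hgl h1) (ej ▸ hgl h3), ← hC _ _ _ _ h1 h3]
        simp only [commutatorElement_def]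
        group
      rw [h4, hzfix g hg3]
      rw [hg]
      have h5 := tor_conj hF P 1 one_ne_zero μ hμ hdet (hCz (Pi.single i x) (Pi.single j y))
      refine SU_ext fun v => ?_
      rw [show mat (_ * σ (C _ _) * _) = _ from h5, show mat (σ (C _ _)) = _ from hCz _ _]
      simp [show ((fun l => μ l * (0 : Fin d → F) l) : Fin d → F) = 0 by funext l; simp]
      rfl
    have h6 := key ((ω - 1)⁻¹ * y)
    rw [show ω * ((ω - 1)⁻¹ * y) = y + (ω - 1)⁻¹ * y by field_simp [sub_ne_zero.2 hω1]; ring, Pi.single_add,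
      hCr] at h6
    exact mul_right_cancel (h6.trans (one_mul _).symm)
  -- on the diagonal
  set i0 : Fin d := ⟨0, hd1⟩
  have hdiag : ∀ i, C (Pi.single i (1 : F)) (Pi.single i ω) = C (Pi.single i0 (1 : F)) (Pi.single i0 ω) := by
    intro i
    by_cases hi : i = i0
    · rw [hi]
    have hd3 : 3 ≤ d := by
      rcases hd with rfl | h3
      · exact absurd (Subsingleton.elim i i0) hi
      · exact h3
    obtain ⟨k, hki, hkj⟩ : ∃ k : Fin d, k ≠ i ∧ k ≠ i0 := by
      have hcd : ({i, i0} : Finset (Fin d)).card ≤ 2 := Finset.card_le_two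
      have : ({i, i0} : Finset (Fin d)) ≠ Finset.univ := fun h => by
        rw [h, Finset.card_univ, Fintype.card_fin] at hcd
        omega
      obtain ⟨k, -, hk⟩ := Finset.exists_of_ssubset (lt_of_le_of_ne (Finset.subset_univ _) this)
      exact ⟨k, fun h => hk (by simp [h]), fun h => hk (by simp [h])⟩
    obtain ⟨L, hL3, hL⟩ := exists_cycle hF (Ne.symm hi) (Ne.symm hkj) (Ne.symm hki)
    obtain ⟨g, hg⟩ := hsurj (blkR L)
    have hgl : ∀ {w x}, Lift q e σ w x → Lift q e σ (mat L *ᵥ w) (g * x * g⁻¹) := fun {w x} hx => by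
      obtain ⟨a, ha⟩ := hx
      exact ⟨a, by rw [map_mul, map_mul, map_inv, hg]; exact blk_conj hF P L ha⟩
    obtain ⟨x1, h1⟩ := lift_exists hF P hsurj hcen (Pi.single i0 (1 : F))
    obtain ⟨y1, h3⟩ := lift_exists hF P hsurj hcen (Pi.single i0 ω)
    rw [← hC _ _ _ _ (hL (1 : F) ▸ hgl h1) (hL ω ▸ hgl h3), ← hC _ _ _ _ h1 h3]
    rw [show ⁅g * x1 * g⁻¹, g * y1 * g⁻¹⁆ = g * ⁅x1, y1⁆ * g⁻¹ by simp only [commutatorElement_def]; group,
      hC _ _ _ _ h1 h3]
    refine hzfix g (by rw [hg, ← map_pow, hL3, map_one]) _ _ ?_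
    rw [hg]
    have h5 := blk_conj hF P L (hCz (Pi.single i0 (1 : F)) (Pi.single i0 ω))
    exact SU_ext fun v => by rw [show mat (_ * σ (C _ _) * _) = _ from h5, show mat (σ (C _ _)) = _ from hCz _ _,
      Matrix.mulVec_zero]
  set C0 := C (Pi.single i0 (1 : F)) (Pi.single i0 ω) with hC0d
  set S0 := Subgroup.zpowers C0
  have hmem : ∀ i j x y, C (Pi.single i x) (Pi.single j y) ∈ S0 := by
    intro i j x y
    by_cases hij : i = j
    · subst hij
      have h1 : C (Pi.single i (1 : F)) (Pi.single i ω) ∈ S0 := by rw [hdiag i]; exact Subgroup.mem_zpowers C0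
      have h3 : C (Pi.single i ω) (Pi.single i (1 : F)) ∈ S0 := by
        rw [eq_inv_of_mul_eq_one_left (hCs (Pi.single i ω) (Pi.single i (1 : F)))]
        exact inv_mem h1
      have hone : ∀ z, C (Pi.single i (1 : F)) (Pi.single i z) ∈ S0 := by
        intro z
        rcases hall z with rfl | rfl | rfl | rfl
        · rw [Pi.single_zero, hC0']; exact one_mem S0
        · rw [hCself]; exact one_mem S0
        · exact h1
        · rw [Pi.single_add, hCr, hCself, one_mul]; exact h1
      have homega : ∀ z, C (Pi.single i ω) (Pi.single i z) ∈ S0 := by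
        intro z
        rcases hall z with rfl | rfl | rfl | rfl
        · rw [Pi.single_zero, hC0']; exact one_mem S0
        · exact h3
        · rw [hCself]; exact one_mem S0
        · rw [Pi.single_add, hCr, hCself, mul_one]; exact h3
      rcases hall x with rfl | rfl | rfl | rfl
      · rw [Pi.single_zero, hC0]; exact one_mem S0
      · exact hone y
      · exact homega y
      · rw [Pi.single_add, hCl]; exact mul_mem (hone y) (homega y)
    · rw [hoff i j hij]; exact one_mem S0
  intro z hz hzd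
  have hzS : z ∈ S0 := by
    refine Subgroup.commutator_le.2 ?_ hzd
    rintro x ⟨w, a, hx⟩ y ⟨w', a', hy⟩
    rw [hC w w' x y ⟨a, hx⟩ ⟨a', hy⟩]
    exact additive_mem S0 (fun w => C w w') (fun a b => hCl a b w')
      (fun i x => additive_mem S0 (fun w' => C (Pi.single i x) w') (fun a b => hCr _ a b)
        (fun j y => hmem i j x y) w') w
  have hsq : C0 * C0 = 1 := by
    rw [hC0d, ← hCr, ← Pi.single_add, show ω + ω = 0 by linear_combination ω * h2, Pi.single_zero, hC0']
  have hne : σ C0 ≠ 1 := fun h1 => by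
    have h3 := hCz (Pi.single i0 (1 : F)) (Pi.single i0 ω)
    rw [← hC0d, h1] at h3
    have := (co_unique hF P h3 (co_one hF P) he).2
    rw [H_single_pair hF, H_single_pair hF, if_pos rfl, if_pos rfl, one_mul, one_pow, mul_one, hq] at this
    exact one_ne_zero (α := F) (by linear_combination hω - this - ω * h2)
  obtain ⟨n, rfl⟩ := Subgroup.mem_zpowers_iff.1 hzS
  rcases Int.even_or_odd n with ⟨m, rfl⟩ | ⟨m, rfl⟩
  · rw [← two_mul, _root_.zpow_mul, zpow_two, hsq, _root_.one_zpow]
  · exfalso
    rw [_root_.zpow_add, _root_.zpow_mul, zpow_two, hsq, _root_.one_zpow, one_mul, zpow_one] at hz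
    exact hne (MonoidHom.mem_ker.1 hz)

end Cfsg.Agent.SimpleFacts.SUMult.HeisTwo
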